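import Groth.Agent.SerreDual.ExtShBasic
import Mathlib.CategoryTheory.Abelian.Injective.Ext

/-!
# `Ext` is the group of sections of sheaf `Ext` when the lower sheaf `Ext`s are acyclic
-/

set_option autoImplicit false
set_option linter.style.haveILetI false
set_option backward.isDefEq.respectTransparency.types false
set_option backward.isDefEq.respectTransparency false

universe u

open CategoryTheory CategoryTheory.Abelian CategoryTheory.Limits AlgebraicGeometry Opposite TopologicalSpace
open Groth.Agent.Coherent Groth.Agent.EulerLib Groth.Agent.PicLib Groth.Agent.AmpleLib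

namespace Groth.Agent.SerreDual

section Generic

variable {A : Type (u + 1)} [Category.{u} A] [Abelian A] [HasExt.{u} A] (O : A) (K : CochainComplex A ℕ)

/-- The boundaries of a complex, as the kernel of the projection to homology. -/
noncomputable abbrev bdry (q : ℕ) : A := kernel (K.homologyπ q)

theorem shortExact_bdry (q : ℕ) :
    (ShortComplex.mk (kernel.ι (K.homologyπ q)) (K.homologyπ q) (kernel.condition _)).ShortExact :=
  { exact := ShortComplex.exact_of_f_is_kernel _ (kernelIsKernel (K.homologyπ q))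
    mono_f := inferInstance
    epi_g := inferInstanceAs (Epi (K.homologyπ q)) }

/-- The corestriction of the differential to the boundaries. -/
noncomputable abbrev toBdry (q : ℕ) : K.X q ⟶ bdry K (q + 1) :=
  kernel.lift _ (K.toCycles q (q + 1)) (K.toCycles_comp_homologyπ q (q + 1))

theorem iCycles_toBdry (q : ℕ) : K.iCycles q ≫ toBdry K q = 0 := by
  rw [← cancel_mono (kernel.ι (K.homologyπ (q + 1))), Category.assoc, kernel.lift_ι, zero_comp,
    ← cancel_mono (K.iCycles (q + 1)), Category.assoc, K.toCycles_i, K.iCycles_d, zero_comp]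

theorem shortExact_cycles (q : ℕ) :
    (ShortComplex.mk (K.iCycles q) (toBdry K q) (iCycles_toBdry K q)).ShortExact := by
  haveI : Epi (toBdry K q) :=
    (ShortComplex.exact_of_g_is_cokernel (ShortComplex.mk _ _ (K.toCycles_comp_homologyπ q (q + 1)))
      (K.homologyIsCokernel q (q + 1) (by simp))).epi_kernelLift
  refine { exact := ?_, mono_f := inferInstanceAs (Mono (K.iCycles q)), epi_g := inferInstanceAs (Epi (toBdry K q)) }
  refine ShortComplex.exact_of_f_is_kernel _ (isKernelOfComp (f := toBdry K q)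
    (kernel.ι (K.homologyπ (q + 1)) ≫ K.iCycles (q + 1)) (K.d q (q + 1))
    (K.cyclesIsKernel q (q + 1) (by simp)) (iCycles_toBdry K q) ?_)
  rw [← Category.assoc, kernel.lift_ι, K.toCycles_i]

variable {O K}

/-- Acyclicity of the boundaries. -/
theorem subsingleton_ext_bdry (hK : ∀ j p, Subsingleton (Ext O (K.X j) (p + 1))) :
    ∀ q : ℕ, (∀ r, r < q → ∀ p, Subsingleton (Ext O (K.homology r) (p + 1))) →
      ∀ p, Subsingleton (Ext O (bdry K q) (p + 1))
  | 0, _, p => by
    have hz : IsZero (bdry K 0) := isZero_kernel_of_mono (K.homologyπ 0)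
    exact subsingleton_of_forall_eq 0 fun e => by
      rw [← Ext.comp_mk₀_id e, hz.eq_of_src (𝟙 _) 0, Ext.mk₀_zero, Ext.comp_zero]
  | q + 1, hH, p => by
    have hB := subsingleton_ext_bdry hK q fun r hr => hH r (by omega)
    have hZ : Subsingleton (Ext O (K.cycles q) (p + 1 + 1)) := subsingleton_of_forall_eq 0 fun e => by
      haveI := hH q (Nat.lt_succ_self q) (p + 1)
      obtain ⟨b, rfl⟩ := Ext.covariant_sequence_exact₂ O (shortExact_bdry K q) e (Subsingleton.elim _ _)
      rw [(hB (p + 1)).elim b 0, Ext.zero_comp]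
    refine subsingleton_of_forall_eq 0 fun e => ?_
    obtain ⟨c, rfl⟩ := Ext.covariant_sequence_exact₃ O (shortExact_cycles K q) e rfl (hZ.elim _ _)
    rw [(hK q p).elim c 0, Ext.zero_comp]

/-- Every map into homology lifts to the cycles. -/
theorem exists_lift_cycles (hK : ∀ j p, Subsingleton (Ext O (K.X j) (p + 1))) {m : ℕ}
    (hH : ∀ r, r < m → ∀ p, Subsingleton (Ext O (K.homology r) (p + 1))) (φ : O ⟶ K.homology m) :
    ∃ c : O ⟶ K.cycles m, c ≫ K.homologyπ m = φ := by
  haveI := subsingleton_ext_bdry hK m hH 0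
  obtain ⟨x, hx⟩ := Ext.covariant_sequence_exact₃ O (shortExact_bdry K m) (Ext.mk₀ φ) (zero_add 1)
    (Subsingleton.elim _ _)
  obtain ⟨c, rfl⟩ := (Ext.mk₀_bijective _ _).2 x
  rw [Ext.mk₀_comp_mk₀] at hx
  exact ⟨c, (Ext.mk₀_bijective _ _).1 hx⟩

/-- A cycle vanishing in homology comes from the previous term. -/
theorem exists_boundary (hK : ∀ j p, Subsingleton (Ext O (K.X j) (p + 1))) {q : ℕ}
    (hH : ∀ r, r < q + 1 → ∀ p, Subsingleton (Ext O (K.homology r) (p + 1))) (c : O ⟶ K.cycles (q + 1))
    (hc : c ≫ K.homologyπ (q + 1) = 0) : ∃ g : O ⟶ K.X q, g ≫ K.toCycles q (q + 1) = c := by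
  have hZ : Subsingleton (Ext O (K.cycles q) 1) := subsingleton_of_forall_eq 0 fun e => by
    haveI := hH q (Nat.lt_succ_self q) 0
    obtain ⟨b, rfl⟩ := Ext.covariant_sequence_exact₂ O (shortExact_bdry K q) e (Subsingleton.elim _ _)
    rw [(subsingleton_ext_bdry hK q (fun r hr => hH r (by omega)) 0).elim b 0, Ext.zero_comp]
  let c' : O ⟶ bdry K (q + 1) := kernel.lift _ c hc
  obtain ⟨x, hx⟩ := Ext.covariant_sequence_exact₃ O (shortExact_cycles K q) (Ext.mk₀ c') (zero_add 1)
    (hZ.elim _ _)
  obtain ⟨g, rfl⟩ := (Ext.mk₀_bijective _ _).2 x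
  rw [Ext.mk₀_comp_mk₀] at hx
  refine ⟨g, ?_⟩
  have h1 : g ≫ toBdry K q = c' := (Ext.mk₀_bijective _ _).1 hx
  have h2 := congrArg (· ≫ kernel.ι (K.homologyπ (q + 1))) h1
  simp only [Category.assoc, toBdry, c', kernel.lift_ι] at h2
  exact h2

end Generic

variable {X : Scheme.{u}}

/-- `Hom` into an injective module has no cohomology. -/
theorem subsingleton_ext_internalHom_injective [HasExt.{u} X.Modules] (F I : X.Modules) [Injective I] (p : ℕ) :
    Subsingleton (Ext ((freeModOn X).obj ⊤) (internalHom F I) (p + 1)) := by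
  haveI : TopCat.Sheaf.IsFlasque (X := X.toTopCat) (Coh.toAb (internalHom F I)) :=
    { epi := fun {U V} i => (AddCommGrpCat.epi_iff_surjective _).2
        (surjective_resM_internalHom F I (U := V.unop) (V := U.unop) (leOfHom i.unop)) }
  haveI : Subsingleton (Coh.HH X (internalHom F I) (p + 1)) :=
    subsingleton_H_of_isFlasque (X := X.toTopCat) (Coh.toAb (internalHom F I)) p
  exact (extHH _ (p + 1)).toEquiv.subsingleton

variable (k : Type u) [Field k] [X.Over (Spec (CommRingCat.of k))]

/-- Morphisms as maps from `O` to the internal Hom, linearly. -/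
noncomputable def homToIntHom (F N : X.Modules) :
    (F ⟶ N) →ₗ[k] ((freeModOn X).obj ⊤ ⟶ (internalHomFunctor F).obj N) where
  toFun f := idHom F ≫ (internalHomFunctor F).map f
  map_add' f g := by
    haveI : (internalHomFunctor F).Additive := additive_internalHomFunctor F
    rw [Functor.map_add, Preadditive.comp_add]
  map_smul' c f := by
    haveI := linear_internalHom k F
    rw [Functor.map_smul, Linear.comp_smul]
    rfl

variable [HasExt.{u} X.Modules]

/-- `Ext^m(F, G)` is the space of sections of `Ext^m`-sheaf if the lower ones are acyclic. -/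
theorem nonempty_ext_linearEquiv_homology {F G : X.Modules} (I : InjectiveResolution G) (m : ℕ)
    (hH : ∀ q, q < m → ∀ p, Subsingleton (Coh.HH X ((homCx F I).homology q) (p + 1))) :
    Nonempty (Ext F G m ≃ₗ[k] Coh.HH X ((homCx F I).homology m) 0) := by
  let O := (freeModOn X).obj (⊤ : X.Opens)
  let K := homCx F I
  let fin := (Ext.linearEquiv₀ (R := k) (X := O) (Y := K.homology m)).symm.trans (extHHLin k (K.homology m) 0)
  suffices h : Nonempty (Ext F G m ≃ₗ[k] (O ⟶ K.homology m)) from h.elim fun e => ⟨e.trans fin⟩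
  rcases m with - | m
  · obtain ⟨e₀⟩ := nonempty_homology_zero_iso F I
    exact ⟨(Ext.linearEquiv₀ (R := k)).trans
      ((LinearEquiv.ofBijective (homToIntHom k F G) (bijective_idHom_comp F G)).trans
        (Linear.homCongr k (Iso.refl O) e₀.symm))⟩
  have hK : ∀ j p, Subsingleton (Ext O (K.X j) (p + 1)) := fun j p => by
    haveI := I.injective j
    exact subsingleton_ext_internalHom_injective F (I.cocomplex.X j) p
  have hH' : ∀ q, q < m + 1 → ∀ p, Subsingleton (Ext O (K.homology q) (p + 1)) := fun q hq p => by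
    haveI := hH q hq p
    exact (extHH _ (p + 1)).toEquiv.subsingleton
  let Z : Submodule k (F ⟶ I.cocomplex.X (m + 1)) :=
    LinearMap.ker (Linear.rightComp k F (I.cocomplex.d (m + 1) (m + 2)))
  have hd : ∀ (f : F ⟶ I.cocomplex.X (m + 1)) (j : ℕ),
      homToIntHom k F (I.cocomplex.X (m + 1)) f ≫ K.d (m + 1) j =
        homToIntHom k F (I.cocomplex.X j) (f ≫ I.cocomplex.d (m + 1) j) := fun f j => by
    show (idHom F ≫ (internalHomFunctor F).map f) ≫ (internalHomFunctor F).map (I.cocomplex.d (m + 1) j) = _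
    rw [Category.assoc, ← Functor.map_comp]
    rfl
  have hz : ∀ f : Z, homToIntHom k F _ f.1 ≫ K.d (m + 1) (m + 2) = 0 := fun f => by
    rw [hd, show f.1 ≫ I.cocomplex.d (m + 1) (m + 2) = 0 from f.2, map_zero]
  let A : Z →ₗ[k] Ext F G (m + 1) :=
    { toFun := fun f => I.extMk f.1 (m + 2) rfl f.2
      map_add' := fun f g => (I.add_extMk f.1 g.1 (m + 2) rfl f.2 g.2).symm
      map_smul' := fun c f => by
        show I.extMk (c • f.1) (m + 2) rfl _ = c • I.extMk f.1 (m + 2) rfl f.2
        calc I.extMk (c • f.1) (m + 2) rfl _ = I.extMk ((c • 𝟙 F) ≫ f.1) (m + 2) rfl (by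
              rw [Category.assoc, show f.1 ≫ I.cocomplex.d (m + 1) (m + 2) = 0 from f.2, comp_zero]) := by
              simp only [Linear.smul_comp, Category.id_comp]
          _ = (Ext.mk₀ (c • 𝟙 F)).comp (I.extMk f.1 (m + 2) rfl f.2) (zero_add _) :=
              (I.mk₀_comp_extMk f.1 (m + 2) rfl f.2 (c • 𝟙 F)).symm
          _ = c • I.extMk f.1 (m + 2) rfl f.2 := by
              rw [Ext.mk₀_smul, Ext.smul_comp, Ext.mk₀_id_comp] }
  let B : Z →ₗ[k] (O ⟶ K.homology (m + 1)) :=
    { toFun := fun f => K.liftCycles (homToIntHom k F _ f.1) (m + 2) (by simp) (hz f) ≫ K.homologyπ (m + 1)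
      map_add' := fun f g => by
        rw [← Preadditive.add_comp]
        congr 1
        rw [← cancel_mono (K.iCycles (m + 1)), Preadditive.add_comp]
        simp only [HomologicalComplex.liftCycles_i]
        exact map_add (homToIntHom k F _) f.1 g.1
      map_smul' := fun c f => by
        show _ = c • (_ ≫ _)
        rw [← Linear.smul_comp]
        congr 1
        rw [← cancel_mono (K.iCycles (m + 1)), Linear.smul_comp]
        simp only [HomologicalComplex.liftCycles_i]
        exact map_smul (homToIntHom k F _) c f.1 }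
  have hA : Function.Surjective A := fun x => by
    obtain ⟨f, hf, rfl⟩ := I.extMk_surjective x (m + 2) rfl
    exact ⟨⟨f, hf⟩, rfl⟩
  have hB : Function.Surjective B := fun φ => by
    obtain ⟨c, hc⟩ := exists_lift_cycles hK hH' φ
    obtain ⟨f, hf⟩ := (bijective_idHom_comp F (I.cocomplex.X (m + 1))).2 (c ≫ K.iCycles (m + 1))
    have hfd : f ≫ I.cocomplex.d (m + 1) (m + 2) = 0 := by
      apply (bijective_idHom_comp F (I.cocomplex.X (m + 2))).1
      refine (hd f (m + 2)).symm.trans ?_
      rw [show homToIntHom k F _ f = c ≫ K.iCycles (m + 1) from hf, Category.assoc, K.iCycles_d, comp_zero]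
      exact (map_zero (homToIntHom k F (I.cocomplex.X (m + 2)))).symm
    refine ⟨⟨f, hfd⟩, ?_⟩
    show K.liftCycles _ _ _ _ ≫ K.homologyπ (m + 1) = φ
    rw [← hc]
    congr 1
    rw [← cancel_mono (K.iCycles (m + 1)), HomologicalComplex.liftCycles_i]
    exact hf
  have hker : LinearMap.ker A = LinearMap.ker B := by
    ext f
    rw [LinearMap.mem_ker, LinearMap.mem_ker]
    constructor
    · intro h
      obtain ⟨g, hg⟩ := (I.extMk_eq_zero_iff f.1 (m + 2) rfl f.2 m rfl).1 h
      show K.liftCycles _ _ _ _ ≫ K.homologyπ (m + 1) = 0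
      have e : K.liftCycles (homToIntHom k F _ f.1) (m + 2) (by simp) (hz f) =
          homToIntHom k F _ g ≫ K.toCycles m (m + 1) := by
        rw [← cancel_mono (K.iCycles (m + 1)), HomologicalComplex.liftCycles_i, Category.assoc, K.toCycles_i,
          ← hg]
        show idHom F ≫ (internalHomFunctor F).map (g ≫ I.cocomplex.d m (m + 1)) =
          (idHom F ≫ (internalHomFunctor F).map g) ≫ (internalHomFunctor F).map (I.cocomplex.d m (m + 1))
        rw [Functor.map_comp, Category.assoc]
      rw [e, Category.assoc, K.toCycles_comp_homologyπ, comp_zero]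
    · intro h
      obtain ⟨g', hg'⟩ := exists_boundary hK hH' _ h
      obtain ⟨g, hg⟩ := (bijective_idHom_comp F (I.cocomplex.X m)).2 g'
      refine (I.extMk_eq_zero_iff f.1 (m + 2) rfl f.2 m rfl).2 ⟨g, ?_⟩
      apply (bijective_idHom_comp F (I.cocomplex.X (m + 1))).1
      have h2 := congrArg (· ≫ K.iCycles (m + 1)) hg'
      simp only [Category.assoc, K.toCycles_i, HomologicalComplex.liftCycles_i] at h2
      refine Eq.trans ?_ h2
      rw [← hg]
      show idHom F ≫ (internalHomFunctor F).map (g ≫ I.cocomplex.d m (m + 1)) =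
        (idHom F ≫ (internalHomFunctor F).map g) ≫ (internalHomFunctor F).map (I.cocomplex.d m (m + 1))
      rw [Functor.map_comp, Category.assoc]
  exact ⟨((A.quotKerEquivOfSurjective hA).symm.trans (Submodule.quotEquivOfEq _ _ hker)).trans
    (B.quotKerEquivOfSurjective hB)⟩

end Groth.Agent.SerreDual
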