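import Groth.Agent.SerreDual.CMVanishing

/-!
# Vanishing of negative twists on projective space and depth at closed points

The bridge is `Ext`: `H^i(F(-m))` is dual to `Ext^{r-i}(F, O(m - r - 1))`, and these vanish for all large twists
exactly when the projective dimension of the stalks is small.
-/

set_option autoImplicit false
set_option linter.style.haveILetI false
set_option backward.isDefEq.respectTransparency.types false

universe u

open CategoryTheory CategoryTheory.Abelian CategoryTheory.Limits AlgebraicGeometry Opposite TopologicalSpace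
open Groth.Agent.Coherent Groth.Agent.PicLib Groth.Agent.AmpleLib Groth.Agent.EulerLib

namespace Groth.Agent.SerreDual

/-- Being finite locally free can be checked at closed points. -/
theorem isFinLocFree_of_free_closed_stalks {X : Scheme.{u}} [CompactSpace X] (M : X.Modules) [Coh.IsQCoh M]
    (hM : CohB1.IsFP M)
    (h : ∀ x : X, IsClosed ({x} : Set X) → Module.Free (X.presheaf.stalk x) (M.presheaf.stalk x)) :
    FlatMod.IsFinLocFree M := fun x => by
  obtain ⟨y, hy, hcl⟩ :=
    (isClosed_closure (s := ({x} : Set X))).exists_closed_singleton ⟨x, subset_closure rfl⟩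
  obtain ⟨U, n, hyU, e⟩ := Props12.exists_nhd_free M hM y (h y hcl)
  exact ⟨U, n, (specializes_iff_mem_closure.2 hy).mem_open U.2 hyU, e⟩

variable {k : Type u} [Field k] {n : ℕ}

/-- The local rings of `P^n` at closed points have dimension `n`. -/
theorem spanFinrank_stalk_closed {x : CohB1.ProjSpace n k} (hx : IsClosed ({x} : Set (CohB1.ProjSpace n k))) :
    (IsLocalRing.maximalIdeal ((CohB1.ProjSpace n k).presheaf.stalk x)).spanFinrank = n := by
  haveI : IsProper ((CohB1.ProjSpace n k) ↘ Spec (CommRingCat.of k)) := isProper_projSpace_toSpec n k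
  haveI : IsProper (CohB1.ProjSpace.toSpec n k) := isProper_projSpace_toSpec n k
  haveI := isNoetherian_of_proper (k := k) (X := CohB1.ProjSpace n k)
  haveI := CurveLib.isIntegral_projSpace k n
  haveI := isRegularLocalRing_stalk_projSpace n k x
  obtain ⟨-, hc⟩ := FlatMor12.coheight_add_ptDim (CohB1.ProjSpace.toSpec n k) n
    (fun η hη => by
      exact_mod_cast (DimLib.forall_components_iff (CohB1.ProjSpace.toSpec n k)
        (fun s => s = (n : WithBot ℕ∞))).1 (fun Z hZ => by
          rw [DimLib.components_eq_univ hZ,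
            IsHomeomorph.topologicalKrullDim_eq _ (Homeomorph.Set.univ _).isHomeomorph,
            DimLib.PN.topologicalKrullDim_projSpace]) η hη) x
  have h : ((IsLocalRing.maximalIdeal ((CohB1.ProjSpace n k).presheaf.stalk x)).spanFinrank : WithBot ℕ∞) = n := by
    rw [IsRegularLocalRing.spanFinrank_maximalIdeal, ringKrullDim_stalk_eq_coheight, hc,
      (DimLib.ptDim_eq_zero_iff _ x).2 hx, Nat.sub_zero]
    rfl
  exact_mod_cast h

/-- Auslander–Buchsbaum at a closed point of `P^n`. -/
theorem lt_depth_iff_pd {x : CohB1.ProjSpace n k} (hx : IsClosed ({x} : Set (CohB1.ProjSpace n k)))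
    (M : Type u) [AddCommGroup M] [Module ((CohB1.ProjSpace n k).presheaf.stalk x) M]
    [Module.Finite ((CohB1.ProjSpace n k).presheaf.stalk x) M] (i : ℕ) :
    (i : ℕ∞) < LocCoh.depth ((CohB1.ProjSpace n k).presheaf.stalk x) M ↔
      CAlgH3.PD ((CohB1.ProjSpace n k).presheaf.stalk x) (n - i) M := by
  classical
  haveI : IsProper ((CohB1.ProjSpace n k) ↘ Spec (CommRingCat.of k)) := isProper_projSpace_toSpec n k
  haveI := isNoetherian_of_proper (k := k) (X := CohB1.ProjSpace n k)
  haveI := isRegularLocalRing_stalk_projSpace n k x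
  have hs := spanFinrank_stalk_closed hx
  rcases subsingleton_or_nontrivial M with hM | hM
  · refine iff_of_true ?_ (CAlgH3.pd_mono (Nat.zero_le _) (CAlgH3.pd_zero_iff.2 hM))
    rw [CAlgH3.depth_eq_top_of_subsingleton]
    exact ENat.natCast_lt_top i
  obtain ⟨m, hm⟩ := CAlgH3.exists_depth_eq_natCast (R := (CohB1.ProjSpace n k).presheaf.stalk x) (M := M)
  have h0 : ¬ CAlgH3.PD ((CohB1.ProjSpace n k).presheaf.stalk x) 0 M := fun h =>
    not_subsingleton M (CAlgH3.pd_zero_iff.1 h)
  have hex : ∃ e, CAlgH3.PD ((CohB1.ProjSpace n k).presheaf.stalk x) (e + 1) M := ⟨_, CAlgH3.pd_finite M⟩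
  have he := Nat.find_spec hex
  have hne : ¬ CAlgH3.PD ((CohB1.ProjSpace n k).presheaf.stalk x) (Nat.find hex) M := by
    intro h
    rcases he' : Nat.find hex with - | e'
    · exact h0 (he' ▸ h)
    · exact Nat.find_min hex (m := e') (by omega) (he' ▸ h)
  have hAB := CAlgH3.depth_add_of_pd _ M he hne
  rw [CAlgH3.depth_eq_spanFinrank, hs, hm] at hAB
  have hAB' : n = Nat.find hex + m := by exact_mod_cast hAB
  rw [hm, Nat.cast_lt]
  constructor
  · intro hi
    exact CAlgH3.pd_mono (by omega) he
  · intro h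
    by_contra hi
    exact hne (CAlgH3.pd_mono (by omega) h)

/-- Locally free modules have no higher `Ext` into large twists. -/
theorem eventually_subsingleton_ext_of_finLocFree [HasExt.{u} (CohB1.ProjSpace n k).Modules]
    {G : (CohB1.ProjSpace n k).Modules} (hG : FlatMod.IsFinLocFree G) :
    ∃ N : ℕ, ∀ m : ℕ, N ≤ m → ∀ j : ℕ, 0 < j → Subsingleton (Ext G (Twist.twistProjSpace n k (m : ℤ)) j) := by
  let O := Coh.structureModule (CohB1.ProjSpace n k)
  let D := internalHom G O
  have hD : FlatMod.IsFinLocFree D := CohBC.isFinLocFree_internalHom hG (CohBC.isFinLocFree_structureModule _)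
  obtain ⟨N, hN⟩ := exists_vanishing_twist (n := n) (k := k) (CohBC.isCoh_of_isFinLocFree hD)
  have hG' : FlatMod.IsFinLocFree (internalHom D O) :=
    CohBC.isFinLocFree_internalHom hD (CohBC.isFinLocFree_structureModule _)
  haveI := isIso_contract hG O
  let g : G ≅ internalHom D O :=
    (unitTensorIso G).symm ≪≫ tensorComm _ _ ≪≫ asIso (contractBilin G O).desc
  refine ⟨N, fun m hm j hj => subsingleton_ext_congr g (Iso.refl _) j ?_⟩
  haveI := hN m hm j hj
  haveI := isIso_contract hD (Twist.twistProjSpace n k (m : ℤ))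
  haveI : Subsingleton (Coh.HH (CohB1.ProjSpace n k)
      (internalHom (internalHom D O) (Twist.twistProjSpace n k (m : ℤ))) j) :=
    subsingleton_HH_of_iso k (asIso (contractBilin D (Twist.twistProjSpace n k (m : ℤ))).desc).symm j
  exact (extLocFreeEquiv k hG' (Twist.twistProjSpace n k (m : ℤ)) j).toEquiv.subsingleton

/-- A coherent module on `P^n` is a quotient of a sum of negative twists, with all the properties needed for
syzygy arguments. -/
theorem exists_twist_presentation [HasExt.{u} (CohB1.ProjSpace n k).Modules]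
    (G : (CohB1.ProjSpace n k).Modules) (hG : Coh.IsCoh G) :
    ∃ (K E : (CohB1.ProjSpace n k).Modules) (i : K ⟶ E) (p : E ⟶ G) (w : i ≫ p = 0),
      (ShortComplex.mk i p w).ShortExact ∧ Coh.IsCoh K ∧
      (∀ m j : ℕ, 0 < j → Subsingleton (Ext E (Twist.twistProjSpace n k (m : ℤ)) j)) ∧
      ∀ x : CohB1.ProjSpace n k,
        CategoryTheory.Projective ((DerSch.stalkFunctor (CohB1.ProjSpace n k) x).obj E) := by
  haveI : IsProper ((CohB1.ProjSpace n k) ↘ Spec (CommRingCat.of k)) := isProper_projSpace_toSpec n k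
  haveI := isNoetherian_of_proper (k := k) (X := CohB1.ProjSpace n k)
  haveI := hasFiniteBiproducts (CohB1.ProjSpace n k)
  haveI := hG.1
  obtain ⟨N₀, hN₀⟩ := (projPowCover n k).exists_epi hG
  obtain ⟨r, p, hp⟩ := hN₀ (N₀ + 1) (Nat.le_succ _) _ (twistGens n k (N₀ + 1))
  haveI := hp
  let a : ℤ := -((N₀ + 1 : ℕ) : ℤ)
  haveI := isQCoh_twistProjSpace (n := n) (R := k) a
  have hEc : Coh.IsCoh (⨁ fun _ : Fin r => Twist.twistProjSpace n k a) :=
    isCoh_biproduct _ fun _ => isCoh_of_gens (twistGens n k (N₀ + 1))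
  refine ⟨kernel p, _, kernel.ι p, p, kernel.condition p,
    { exact := ShortComplex.exact_of_f_is_kernel _ (kernelIsKernel p), mono_f := inferInstance, epi_g := hp },
    isCoh_kernel p hEc hG.1, fun m j hj => ?_, fun x => ?_⟩
  · refine subsingleton_ext_biproduct _ _ fun _ => ?_
    obtain ⟨e⟩ := nonempty_twist_inv (n := n) (k := k) a
    refine subsingleton_ext_of_invertible (isInvertible_twist n k a) (isInvertible_twist n k (-a)) e _ _ ?_
    obtain ⟨c⟩ := nonempty_twist_tensor n k (show (m : ℤ) + -a = (m : ℤ) - a by ring)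
    haveI : Subsingleton (Coh.HH (CohB1.ProjSpace n k) (Twist.twistProjSpace n k ((m : ℤ) - a)) j) :=
      subsingleton_HH_twist (n := n) (R := k) (d := (m : ℤ) - a) j (fun h => by omega) (fun h => by omega)
    exact subsingleton_HH_of_iso k c j
  · let F := DerSch.stalkFunctor (CohB1.ProjSpace n k) x
    haveI : ∀ j : Fin r, CategoryTheory.Projective
        ((F.obj ∘ fun _ : Fin r => Twist.twistProjSpace n k a) j) := fun _ => by
      haveI : Module.Free ((CohB1.ProjSpace n k).presheaf.stalk x)
          ((Twist.twistProjSpace n k a).presheaf.stalk x) :=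
        Props12.free_stalk_of_isFinLocFree _ (isFinLocFree_of_invertible (isInvertible_twist n k a)) x
      exact (IsProjective.iff_projective ((Twist.twistProjSpace n k a).presheaf.stalk x :)).1 inferInstance
    haveI : PreservesBinaryBiproducts F := preservesBinaryBiproducts_of_preservesBinaryProducts _
    haveI : F.Additive := Functor.additive_of_preservesBinaryBiproducts _
    haveI : CategoryTheory.Projective (⨁ (F.obj ∘ fun _ : Fin r => Twist.twistProjSpace n k a)) :=
      ⟨fun f e _ => ⟨biproduct.desc fun j => Projective.factorThru (biproduct.ι _ j ≫ f) e, by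
        refine biproduct.hom_ext' _ _ fun j => ?_
        rw [← Category.assoc, biproduct.ι_desc, Projective.factorThru_comp]⟩⟩
    exact Projective.of_iso (F.mapBiproduct fun _ : Fin r => Twist.twistProjSpace n k a).symm inferInstance

/-- Vanishing of `Ext^j` into large twists for `j ≥ c` measures the projective dimension at closed points. -/
theorem ext_vanishing_iff_pd [HasExt.{u} (CohB1.ProjSpace n k).Modules] :
    ∀ (c : ℕ) (G : (CohB1.ProjSpace n k).Modules), Coh.IsCoh G →
      ((∀ j : ℕ, c ≤ j → ∃ N : ℕ, ∀ m : ℕ, N ≤ m → Subsingleton (Ext G (Twist.twistProjSpace n k (m : ℤ)) j)) ↔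
        ∀ x : CohB1.ProjSpace n k, IsClosed ({x} : Set (CohB1.ProjSpace n k)) →
          CAlgH3.PD ((CohB1.ProjSpace n k).presheaf.stalk x) c (G.presheaf.stalk x))
  | 0, G, hG => by
    haveI : IsProper ((CohB1.ProjSpace n k) ↘ Spec (CommRingCat.of k)) := isProper_projSpace_toSpec n k
    haveI := isNoetherian_of_proper (k := k) (X := CohB1.ProjSpace n k)
    haveI := hG.1
    constructor
    · intro h x _
      have hfree : FlatMod.IsFinLocFree G := isFinLocFree_of_ext_vanishing n G hG (fun y => by
        haveI := isRegularLocalRing_stalk_projSpace n k y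
        refine CAlgH3.pd_mono ?_ (CAlgH3.pd_all _)
        have h1 : ((IsLocalRing.maximalIdeal ((CohB1.ProjSpace n k).presheaf.stalk y)).spanFinrank :
            WithBot ℕ∞) ≤ n := by
          rw [IsRegularLocalRing.spanFinrank_maximalIdeal, ringKrullDim_stalk_eq_coheight]
          refine (Order.coheight_le_krullDim y).trans ?_
          rw [← DimLib.topologicalKrullDim_eq_krullDim, DimLib.PN.topologicalKrullDim_projSpace]
        have : (IsLocalRing.maximalIdeal ((CohB1.ProjSpace n k).presheaf.stalk y)).spanFinrank ≤ n := by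
          exact_mod_cast h1
        omega) fun i => h (i + 1) (Nat.zero_le _)
      obtain ⟨N₁, hN₁⟩ := h 0 le_rfl
      let D := internalHom G (Coh.structureModule (CohB1.ProjSpace n k))
      have hD : FlatMod.IsFinLocFree D :=
        CohBC.isFinLocFree_internalHom hfree (CohBC.isFinLocFree_structureModule _)
      obtain ⟨N₂, hN₂⟩ := eventually_globallyGenerated (isAmple_projSpace_one n k) D
        (CohBC.isCoh_of_isFinLocFree hD)
      let m := N₁ + N₂
      obtain ⟨et⟩ := TwistLib.nonempty_twist_pow_iso (exists_degree_one n k) m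
      let et' : Twist.twistProjSpace n k (m : ℤ) ≅ CohB1.tensorPow (Twist.twistProjSpace n k 1) m := et
      have hK' : FlatMod.IsFinLocFree (internalHom D (Coh.structureModule (CohB1.ProjSpace n k))) :=
        CohBC.isFinLocFree_internalHom hD (CohBC.isFinLocFree_structureModule _)
      haveI := isIso_contract hfree (Coh.structureModule (CohB1.ProjSpace n k))
      let g : G ≅ internalHom D (Coh.structureModule (CohB1.ProjSpace n k)) :=
        (unitTensorIso G).symm ≪≫ tensorComm _ _ ≪≫
          asIso (contractBilin G (Coh.structureModule (CohB1.ProjSpace n k))).desc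
      haveI := isIso_contract hD (Twist.twistProjSpace n k (m : ℤ))
      have hgen : Curv2.IsGloballyGenerated (internalHom (internalHom D (Coh.structureModule (CohB1.ProjSpace n k)))
          (Twist.twistProjSpace n k (m : ℤ))) :=
        globallyGenerated_of_iso (AmpleLib.tensorIso (Iso.refl D) et'.symm ≪≫
          asIso (contractBilin D (Twist.twistProjSpace n k (m : ℤ))).desc) (hN₂ m (Nat.le_add_left _ _))
      let G' := internalHom D (Coh.structureModule (CohB1.ProjSpace n k))
      have hext : ∀ f : G' ⟶ Twist.twistProjSpace n k (m : ℤ),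
          ∃ φ : G' ⟶ Twist.twistProjSpace n k (m : ℤ), (0 : G' ⟶ G') ≫ φ = f := fun f => by
        haveI := hN₁ m (Nat.le_add_right _ _)
        have h1 : g.hom ≫ f = 0 := (Ext.mk₀_bijective _ _).1 (Subsingleton.elim _ _)
        refine ⟨0, ?_⟩
        rw [← g.inv_hom_id_assoc f, h1, zero_comp, comp_zero]
      obtain ⟨ρ, hρ⟩ := exists_stalk_retraction (0 : G' ⟶ G') hK' (isInvertible_twist n k (m : ℤ)) hgen hext x
      let F := DerSch.stalkFunctor (CohB1.ProjSpace n k) x
      refine CAlgH3.pd_zero_iff.2 (subsingleton_of_forall_eq 0 fun v => ?_)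
      have h0 : ∀ w, (F.map (0 : G' ⟶ G')).hom w = 0 := fun w => by
        rw [Functor.map_zero]; rfl
      have hv : (F.map g.hom).hom v = 0 :=
        (hρ ((F.map g.hom).hom v)).symm.trans ((congrArg ρ (h0 _)).trans (map_zero ρ))
      have h2 := congrArg (F.map g.inv).hom hv
      rw [map_zero] at h2
      refine Eq.trans ?_ h2
      show v = (F.map g.hom ≫ F.map g.inv).hom v
      rw [← F.map_comp, g.hom_inv_id, F.map_id]
      rfl
    · intro h j _
      have hz : IsZero G := by
        refine ModStalk.isZero_of_stalks fun x => ?_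
        obtain ⟨y, hy, hcl⟩ := (isClosed_closure (s := ({x} : Set (CohB1.ProjSpace n k)))).exists_closed_singleton
          ⟨x, subset_closure rfl⟩
        haveI := CAlgH3.pd_zero_iff.1 (h y hcl)
        refine ModuleCat.isZero_iff_subsingleton.2 (subsingleton_of_forall_eq 0 fun v => ?_)
        -- the support is closed, so vanishing spreads to generizations
        obtain ⟨U, r, hyU, hb⟩ := Props12.exists_nhd_basis_stalk G
          (isFinLocFree_of_free_closed_stalks G ((isCoh_iff_isFP G).1 hG) fun z hz => by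
            haveI := CAlgH3.pd_zero_iff.1 (h z hz)
            exact Module.Free.of_subsingleton _ _) y
        obtain ⟨b⟩ := hb y hyU
        have hr : r = 0 := by
          by_contra hr
          exact one_ne_zero (α := (CohB1.ProjSpace n k).presheaf.stalk y) (by
            have := congrArg (fun w => b.repr w ⟨0, Nat.pos_of_ne_zero hr⟩)
              (Subsingleton.elim (b ⟨0, Nat.pos_of_ne_zero hr⟩) 0)
            simpa using this)
        subst hr
        obtain ⟨b'⟩ := hb x ((specializes_iff_mem_closure.2 hy).mem_open U.2 hyU)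
        haveI : Subsingleton (G.presheaf.stalk x) := b'.repr.toEquiv.subsingleton
        exact Subsingleton.elim (α := G.presheaf.stalk x) _ _
      exact ⟨0, fun m _ => subsingleton_of_forall_eq 0 fun e => by
        rw [← Ext.mk₀_id_comp e, hz.eq_of_src (𝟙 G) 0, Ext.mk₀_zero, Ext.zero_comp]⟩
  | 1, G, hG => by
    haveI : IsProper ((CohB1.ProjSpace n k) ↘ Spec (CommRingCat.of k)) := isProper_projSpace_toSpec n k
    haveI := isNoetherian_of_proper (k := k) (X := CohB1.ProjSpace n k)
    haveI := hG.1
    constructor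
    · intro h x _
      have hfree : FlatMod.IsFinLocFree G := isFinLocFree_of_ext_vanishing n G hG (fun y => by
        haveI := isRegularLocalRing_stalk_projSpace n k y
        refine CAlgH3.pd_mono ?_ (CAlgH3.pd_all _)
        have h1 : ((IsLocalRing.maximalIdeal ((CohB1.ProjSpace n k).presheaf.stalk y)).spanFinrank :
            WithBot ℕ∞) ≤ n := by
          rw [IsRegularLocalRing.spanFinrank_maximalIdeal, ringKrullDim_stalk_eq_coheight]
          refine (Order.coheight_le_krullDim y).trans ?_
          rw [← DimLib.topologicalKrullDim_eq_krullDim, DimLib.PN.topologicalKrullDim_projSpace]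
        have : (IsLocalRing.maximalIdeal ((CohB1.ProjSpace n k).presheaf.stalk y)).spanFinrank ≤ n := by
          exact_mod_cast h1
        omega) fun i => h (i + 1) (Nat.le_add_left _ _)
      haveI := Props12.free_stalk_of_isFinLocFree G hfree x
      exact CAlgH3.pd_one_iff.2 inferInstance
    · intro h
      obtain ⟨N, hN⟩ := eventually_subsingleton_ext_of_finLocFree
        (isFinLocFree_of_free_closed_stalks G ((isCoh_iff_isFP G).1 hG) fun x hx => by
          haveI := Props12.finite_stalk_of_isFT G hG.2 x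
          haveI := CAlgH3.pd_one_iff.1 (h x hx)
          exact Module.free_of_flat_of_isLocalRing)
      exact fun j hj => ⟨N, fun m hm => hN m hm j hj⟩
  | c + 2, G, hG => by
    obtain ⟨K, E, i, p, w, hS, hK, hE, hP⟩ := exists_twist_presentation G hG
    have hpd : ∀ x : CohB1.ProjSpace n k,
        CAlgH3.PD ((CohB1.ProjSpace n k).presheaf.stalk x) (c + 2) (G.presheaf.stalk x) ↔
          CAlgH3.PD ((CohB1.ProjSpace n k).presheaf.stalk x) (c + 1) (K.presheaf.stalk x) := fun x =>
      (hS.map_of_exact (DerSch.stalkFunctor (CohB1.ProjSpace n k) x)).hasProjectiveDimensionLT_X₃_iff c (hP x)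
    constructor
    · intro h x hx
      refine (hpd x).2 ((ext_vanishing_iff_pd (c + 1) K hK).1 (fun j hj => ?_) x hx)
      obtain ⟨N, hN⟩ := h (j + 1) (by omega)
      refine ⟨N, fun m hm => subsingleton_of_forall_eq 0 fun e => ?_⟩
      obtain ⟨y, hy⟩ := Ext.contravariant_sequence_exact₁ hS _ e (Nat.add_comm 1 j) ((hN m hm).elim _ _)
      rw [← hy, (hE m j (by omega)).elim y 0, Ext.comp_zero]
    · intro h j hj
      obtain ⟨j, rfl⟩ : ∃ j', j = j' + 1 := ⟨j - 1, by omega⟩
      obtain ⟨N, hN⟩ := (ext_vanishing_iff_pd (c + 1) K hK).2 (fun x hx => (hpd x).1 (h x hx)) j (by omega)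
      refine ⟨N, fun m hm => subsingleton_of_forall_eq 0 fun e => ?_⟩
      obtain ⟨y, hy⟩ := Ext.contravariant_sequence_exact₃ hS _ e ((hE m (j + 1) (Nat.succ_pos j)).elim _ _)
        (Nat.add_comm 1 j)
      rw [← hy, (hN m hm).elim y 0, Ext.comp_zero]

/-- Vanishing of `H^i(F(-m))` for large `m` and the corresponding `Ext`. -/
theorem vanishing_iff_ext [HasExt.{u} (CohB1.ProjSpace n k).Modules] {F : (CohB1.ProjSpace n k).Modules}
    (hF : Coh.IsCoh F) {i j : ℕ} (hij : i + j = n) :
    (∃ N : ℕ, ∀ m : ℕ, N ≤ m → Subsingleton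
      (Coh.HH (CohB1.ProjSpace n k) (CohB1.tensorMod F (Twist.twistProjSpace n k (-(m : ℤ)))) i)) ↔
    ∃ N : ℕ, ∀ m : ℕ, N ≤ m → Subsingleton (Ext F (Twist.twistProjSpace n k (m : ℤ)) j) := by
  haveI : IsProper ((CohB1.ProjSpace n k) ↘ Spec (CommRingCat.of k)) := isProper_projSpace_toSpec n k
  haveI := isNoetherian_of_proper (k := k) (X := CohB1.ProjSpace n k)
  have hdual : ∀ m : ℕ, Subsingleton
      (Coh.HH (CohB1.ProjSpace n k) (CohB1.tensorMod F (Twist.twistProjSpace n k (-(m : ℤ)))) i) ↔
      Subsingleton (Ext (CohB1.tensorMod F (Twist.twistProjSpace n k (-(m : ℤ))))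
        (Twist.twistProjSpace n k (-((n : ℤ) + 1))) j) := fun m => by
    obtain ⟨d⟩ := (projSpace_duality n k _
      (isCoh_twist (isInvertible_twist n k (-(m : ℤ))) hF) j).1 i (by omega)
    exact ⟨fun h => by
      haveI := h
      haveI : Subsingleton (Module.Dual k (Coh.HH (CohB1.ProjSpace n k)
        (CohB1.tensorMod F (Twist.twistProjSpace n k (-(m : ℤ)))) i)) :=
        (Module.subsingleton_dual_iff k).2 inferInstance
      exact d.toEquiv.subsingleton,
      fun h => by
      haveI := h
      exact (Module.subsingleton_dual_iff k).1 d.symm.toEquiv.subsingleton⟩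
  constructor
  · rintro ⟨N, hN⟩
    refine ⟨N, fun m hm => ?_⟩
    let m' : ℕ := m + n + 1
    haveI := (hdual m').1 (hN m' (by omega))
    obtain ⟨e⟩ : Nonempty (CohB1.tensorMod (Twist.twistProjSpace n k (-(m' : ℤ)))
        (Twist.twistProjSpace n k (m' : ℤ)) ≅ Coh.structureModule (CohB1.ProjSpace n k)) := by
      have h := nonempty_twist_inv (n := n) (k := k) (-(m' : ℤ))
      rwa [neg_neg] at h
    obtain ⟨e'⟩ := nonempty_twist_inv (n := n) (k := k) (m' : ℤ)
    obtain ⟨c⟩ := nonempty_twist_tensor n k
      (show (m : ℤ) + -(m' : ℤ) = -((n : ℤ) + 1) by simp only [m']; push_cast; ring)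
    obtain ⟨as⟩ := exists_assocIso' F (isInvertible_twist n k (-(m' : ℤ))) (isInvertible_twist n k (m' : ℤ))
    let gi : CohB1.tensorMod (CohB1.tensorMod F (Twist.twistProjSpace n k (-(m' : ℤ))))
        (Twist.twistProjSpace n k (m' : ℤ)) ≅ F :=
      as ≪≫ AmpleLib.tensorIso (Iso.refl F) e ≪≫ tensorComm _ _ ≪≫ unitTensorIso F
    exact subsingleton_ext_congr gi.symm (Iso.refl _) _ (subsingleton_ext_tensor
      (isInvertible_twist n k (m' : ℤ)) (isInvertible_twist n k (-(m' : ℤ))) e'
      (CohB1.tensorMod F (Twist.twistProjSpace n k (-(m' : ℤ)))) (Twist.twistProjSpace n k (m : ℤ)) j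
      (subsingleton_ext_congr (Iso.refl _) c _ inferInstance))
  · rintro ⟨N, hN⟩
    refine ⟨N + n + 1, fun m hm => (hdual m).2 ?_⟩
    obtain ⟨e⟩ : Nonempty (CohB1.tensorMod (Twist.twistProjSpace n k (-(m : ℤ)))
        (Twist.twistProjSpace n k (m : ℤ)) ≅ Coh.structureModule (CohB1.ProjSpace n k)) := by
      have h := nonempty_twist_inv (n := n) (k := k) (-(m : ℤ))
      rwa [neg_neg] at h
    obtain ⟨c⟩ := nonempty_twist_tensor n k
      (show -((n : ℤ) + 1) + (m : ℤ) = ((m - (n + 1) : ℕ) : ℤ) by omega)
    haveI := hN (m - (n + 1)) (by omega)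
    exact subsingleton_ext_tensor (isInvertible_twist n k (-(m : ℤ))) (isInvertible_twist n k (m : ℤ)) e
      F (Twist.twistProjSpace n k (-((n : ℤ) + 1))) j (subsingleton_ext_congr (Iso.refl _) c _ inferInstance)

/-- `H^i(F(-m)) = 0` for `i ≤ a` and large `m` iff the depth at closed points exceeds `a`. -/
theorem vanishing_iff_depth {F : (CohB1.ProjSpace n k).Modules} (hF : Coh.IsCoh F) (a : ℕ) :
    (∀ i : ℕ, i ≤ a → ∃ N : ℕ, ∀ m : ℕ, N ≤ m → Subsingleton
      (Coh.HH (CohB1.ProjSpace n k) (CohB1.tensorMod F (Twist.twistProjSpace n k (-(m : ℤ)))) i)) ↔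
    ∀ x : CohB1.ProjSpace n k, IsClosed ({x} : Set (CohB1.ProjSpace n k)) →
      (a : ℕ∞) < LocCoh.depth ((CohB1.ProjSpace n k).presheaf.stalk x) (F.presheaf.stalk x) := by
  haveI : IsProper ((CohB1.ProjSpace n k) ↘ Spec (CommRingCat.of k)) := isProper_projSpace_toSpec n k
  haveI := isNoetherian_of_proper (k := k) (X := CohB1.ProjSpace n k)
  haveI := hF.1
  haveI : HasExt.{u} (CohB1.ProjSpace n k).Modules :=
    haveI : IsGrothendieckAbelian.{u} (CohB1.ProjSpace n k).Modules :=
      DCat.schemeModules_isGrothendieckAbelian _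
    inferInstance
  refine Iff.trans ?_ ((ext_vanishing_iff_pd (n - a) F hF).trans (forall₂_congr fun x hx => ?_))
  · constructor
    · intro h j hj
      rcases lt_or_ge n j with hj' | hj'
      · refine ⟨0, fun m _ => ?_⟩
        let m' : ℕ := m + n + 1
        obtain ⟨e⟩ : Nonempty (CohB1.tensorMod (Twist.twistProjSpace n k (-(m' : ℤ)))
            (Twist.twistProjSpace n k (m' : ℤ)) ≅ Coh.structureModule (CohB1.ProjSpace n k)) := by
          have h := nonempty_twist_inv (n := n) (k := k) (-(m' : ℤ))
          rwa [neg_neg] at h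
        obtain ⟨e'⟩ := nonempty_twist_inv (n := n) (k := k) (m' : ℤ)
        obtain ⟨c⟩ := nonempty_twist_tensor n k
          (show (m : ℤ) + -(m' : ℤ) = -((n : ℤ) + 1) by simp only [m']; push_cast; ring)
        obtain ⟨as⟩ := exists_assocIso' F (isInvertible_twist n k (-(m' : ℤ))) (isInvertible_twist n k (m' : ℤ))
        let gi : CohB1.tensorMod (CohB1.tensorMod F (Twist.twistProjSpace n k (-(m' : ℤ))))
            (Twist.twistProjSpace n k (m' : ℤ)) ≅ F :=
          as ≪≫ AmpleLib.tensorIso (Iso.refl F) e ≪≫ tensorComm _ _ ≪≫ unitTensorIso F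
        haveI := (projSpace_duality n k _ (isCoh_twist (isInvertible_twist n k (-(m' : ℤ))) hF) j).2 hj'
        exact subsingleton_ext_congr gi.symm (Iso.refl _) _ (subsingleton_ext_tensor
          (isInvertible_twist n k (m' : ℤ)) (isInvertible_twist n k (-(m' : ℤ))) e'
          (CohB1.tensorMod F (Twist.twistProjSpace n k (-(m' : ℤ)))) (Twist.twistProjSpace n k (m : ℤ)) j
          (subsingleton_ext_congr (Iso.refl _) c _ inferInstance))
      · exact (vanishing_iff_ext hF (i := n - j) (by omega)).1 (h (n - j) (by omega))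
    · intro h i hi
      rcases lt_or_ge n i with hi' | hi'
      · refine ⟨0, fun m _ => ?_⟩
        haveI : (CohB1.ProjSpace n k).IsSeparated := isSeparated_of_proper (X := CohB1.ProjSpace n k) k
        haveI : Coh.IsQCoh (CohB1.tensorMod F (Twist.twistProjSpace n k (-(m : ℤ)))) :=
          (isCoh_twist (isInvertible_twist n k (-(m : ℤ))) hF).1
        exact EulerLib.subsingleton_HH_of_dim _ (DimLib.PN.topologicalKrullDim_projSpace (n := n) (k := k)).le hi'
      · exact (vanishing_iff_ext hF (j := n - i) (by omega)).2 (h (n - i) (by omega))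
  · haveI := Props12.finite_stalk_of_isFT F hF.2 x
    exact (lt_depth_iff_pd hx _ a).symm

end Groth.Agent.SerreDual
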