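import Groth.Agent.SerreDual.ExtShTwist
import Groth.Agent.SerreDual.ExtShGlobal
import Groth.Agent.SerreDual.VanishingDepth
import Groth.Agent.ZClosLib.Descent
import Groth.Agent.DCat.ClosedPush

/-!
# Sheaf `Ext` on projective space: coherence, and vanishing through large twists
-/

set_option autoImplicit false
set_option linter.style.haveILetI false
set_option backward.isDefEq.respectTransparency.types false

universe u

open CategoryTheory CategoryTheory.Abelian CategoryTheory.Limits AlgebraicGeometry Opposite TopologicalSpace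
open Groth.Agent.Coherent Groth.Agent.PicLib Groth.Agent.AmpleLib Groth.Agent.EulerLib

namespace Groth.Agent.SerreDual

section General

variable {X : Scheme.{u}}

/-- A module without global sections that is globally generated is zero. -/
theorem isZero_of_globallyGenerated {M : X.Modules} (hM : Curv2.IsGloballyGenerated M)
    [HasExt.{u} X.Modules] (h : Subsingleton (Coh.HH X M 0)) : IsZero M := by
  haveI : Subsingleton (Ext ((freeModOn X).obj ⊤) M 0) := (extHH M 0).toEquiv.subsingleton
  haveI : Subsingleton ((freeModOn X).obj ⊤ ⟶ M) :=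
    ((Ext.mk₀_bijective _ _).1).subsingleton
  haveI : Subsingleton Γ(M, (⊤ : X.Opens)) := (freeModOnEquiv (⊤ : X.Opens) M).symm.subsingleton
  refine ModStalk.isZero_of_stalks fun x => ModuleCat.isZero_iff_subsingleton.2 ?_
  have hspan := span_germ_top_eq_top hM x
  have h0 : (Set.range fun s : Γ(M, ⊤) => (M.presheaf.germ ⊤ x trivial s : M.presheaf.stalk x)) ⊆
      ({0} : Set (M.presheaf.stalk x)) := by
    rintro _ ⟨s, rfl⟩
    exact (congrArg (M.presheaf.germ ⊤ x trivial) (Subsingleton.elim s 0)).trans (map_zero _)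
  show Subsingleton (M.presheaf.stalk x)
  refine subsingleton_of_forall_eq 0 fun v => ?_
  have hv : v ∈ Submodule.span (X.presheaf.stalk x) ({0} : Set (M.presheaf.stalk x)) :=
    Submodule.span_mono h0 (hspan ▸ Submodule.mem_top)
  obtain ⟨c, hc⟩ := Submodule.mem_span_singleton.1 hv
  exact hc.symm.trans (smul_zero c)

theorem isCoh_of_isZero [IsLocallyNoetherian X] {M : X.Modules} (hM : IsZero M) : Coh.IsCoh M := by
  have h : Coh.IsCoh (kernel (𝟙 (Coh.structureModule X))) :=
    isCoh_kernel _ (CohBC.isCoh_of_isFinLocFree (CohBC.isFinLocFree_structureModule X))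
      (CohBC.isCoh_of_isFinLocFree (CohBC.isFinLocFree_structureModule X)).1
  exact isCoh_of_iso ((isZero_kernel_of_mono (𝟙 (Coh.structureModule X))).iso hM) h

/-- If the direct image along a closed immersion is coherent, so is the module. -/
theorem isCoh_of_push {Y : Scheme.{u}} [IsLocallyNoetherian X] (ι : X ⟶ Y) [IsClosedImmersion ι] {M : X.Modules}
    (hM : Coh.IsCoh ((Scheme.Modules.pushforward ι).obj M)) : Coh.IsCoh M :=
  haveI := DCat.ClosedPush.isIso_counit ι M
  isCoh_of_iso (asIso ((Scheme.Modules.pullbackPushforwardAdjunction ι).counit.app M)) (ZClosLib.isCoh_pullback ι _ hM)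

end General

variable {k : Type u} [Field k] {n : ℕ}

/-- On projective space coherent modules are quotients of locally free ones. -/
theorem exists_locFree_cover {F : (CohB1.ProjSpace n k).Modules} (hF : Coh.IsCoh F) :
    ∃ (E : (CohB1.ProjSpace n k).Modules) (p : E ⟶ F), Epi p ∧ FlatMod.IsFinLocFree E := by
  haveI : IsProper ((CohB1.ProjSpace n k) ↘ Spec (CommRingCat.of k)) := isProper_projSpace_toSpec n k
  haveI := isNoetherian_of_proper (k := k) (X := CohB1.ProjSpace n k)
  haveI := hasFiniteBiproducts (CohB1.ProjSpace n k)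
  haveI := hF.1
  obtain ⟨N₀, hN₀⟩ := (projPowCover n k).exists_epi hF
  obtain ⟨r, p, hp⟩ := hN₀ N₀ le_rfl _ (twistGens n k N₀)
  let a : ℤ := -(N₀ : ℤ)
  haveI := isQCoh_twistProjSpace (n := n) (R := k) a
  have hEc : Coh.IsCoh (⨁ fun _ : Fin r => Twist.twistProjSpace n k a) :=
    isCoh_biproduct _ fun _ => isCoh_of_gens (twistGens n k N₀)
  haveI := hEc.1
  refine ⟨_, p, hp, Props12.isFinLocFree_of_isFP_of_free_stalks _ ((isCoh_iff_isFP _).1 hEc) fun x => ?_⟩
  let F := DerSch.stalkFunctor (CohB1.ProjSpace n k) x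
  haveI : ∀ j : Fin r, CategoryTheory.Projective
      ((F.obj ∘ fun _ : Fin r => Twist.twistProjSpace n k a) j) := fun _ => by
    haveI : Module.Free ((CohB1.ProjSpace n k).presheaf.stalk x)
        ((Twist.twistProjSpace n k a).presheaf.stalk x) :=
      Props12.free_stalk_of_isFinLocFree _ (isFinLocFree_of_invertible (isInvertible_twist n k a)) x
    exact (IsProjective.iff_projective ((Twist.twistProjSpace n k a).presheaf.stalk x :)).1 inferInstance
  haveI : PreservesBinaryBiproducts F := preservesBinaryBiproducts_of_preservesBinaryProducts _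
  haveI : F.Additive := Functor.additive_of_preservesBinaryBiproducts _
  haveI : CategoryTheory.Projective (⨁ (F.obj ∘ fun _ : Fin r => Twist.twistProjSpace n k a)) :=
    ⟨fun f e _ => ⟨biproduct.desc fun j => Projective.factorThru (biproduct.ι _ j ≫ f) e, by
      refine biproduct.hom_ext' _ _ fun j => ?_
      rw [← Category.assoc, biproduct.ι_desc, Projective.factorThru_comp]⟩⟩
  have hP : CategoryTheory.Projective (F.obj (⨁ fun _ : Fin r => Twist.twistProjSpace n k a)) :=
    Projective.of_iso (F.mapBiproduct fun _ : Fin r => Twist.twistProjSpace n k a).symm inferInstance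
  haveI : Module.Projective ((CohB1.ProjSpace n k).presheaf.stalk x)
      ((⨁ fun _ : Fin r => Twist.twistProjSpace n k a).presheaf.stalk x) :=
    (IsProjective.iff_projective ((⨁ fun _ : Fin r => Twist.twistProjSpace n k a).presheaf.stalk x :)).2 hP
  haveI := Props12.finite_stalk_of_isFT _ hEc.2 x
  exact Module.free_of_flat_of_isLocalRing

/-- Sheaf `Ext` of coherent modules on projective space is coherent. -/
theorem isCoh_homology_projSpace {F G : (CohB1.ProjSpace n k).Modules} (hF : Coh.IsCoh F) (hG : Coh.IsCoh G)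
    (I : InjectiveResolution G) (i : ℕ) : Coh.IsCoh ((homCx F I).homology i) := by
  haveI : IsProper ((CohB1.ProjSpace n k) ↘ Spec (CommRingCat.of k)) := isProper_projSpace_toSpec n k
  haveI := isNoetherian_of_proper (k := k) (X := CohB1.ProjSpace n k)
  exact isCoh_homology_homCx (fun F hF => exists_locFree_cover hF) hG I i F hF

/-- Large twists of a coherent module have no higher cohomology and detect vanishing. -/
theorem isZero_iff_eventually_subsingleton {M : (CohB1.ProjSpace n k).Modules} (hM : Coh.IsCoh M) :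
    IsZero M ↔ ∃ N : ℕ, ∀ d : ℕ, N ≤ d → Subsingleton
      (Coh.HH (CohB1.ProjSpace n k) (CohB1.tensorMod M (Twist.twistProjSpace n k (d : ℤ))) 0) := by
  haveI : IsProper ((CohB1.ProjSpace n k) ↘ Spec (CommRingCat.of k)) := isProper_projSpace_toSpec n k
  haveI := isNoetherian_of_proper (k := k) (X := CohB1.ProjSpace n k)
  haveI : HasExt.{u} (CohB1.ProjSpace n k).Modules :=
    haveI : IsGrothendieckAbelian.{u} (CohB1.ProjSpace n k).Modules :=
      DCat.schemeModules_isGrothendieckAbelian _
    inferInstance
  constructor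
  · intro hz
    refine ⟨0, fun d _ => ?_⟩
    exact subsingleton_HH_of_isZero ((twistF (Twist.twistProjSpace n k (d : ℤ))).map_isZero hz) 0
  · rintro ⟨N, hN⟩
    obtain ⟨N', hN'⟩ := eventually_globallyGenerated (isAmple_projSpace_one n k) M hM
    let d := N + N'
    obtain ⟨et⟩ := TwistLib.nonempty_twist_pow_iso (exists_degree_one n k) d
    let et' : Twist.twistProjSpace n k (d : ℤ) ≅ CohB1.tensorPow (Twist.twistProjSpace n k 1) d := et
    have hz := isZero_of_globallyGenerated
      (globallyGenerated_of_iso (AmpleLib.tensorIso (Iso.refl M) et'.symm) (hN' d (Nat.le_add_left _ _)))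
      (hN d (Nat.le_add_right _ _))
    obtain ⟨e⟩ := nonempty_twist_inv (n := n) (k := k) (d : ℤ)
    obtain ⟨v⟩ := exists_cancelIso (isInvertible_twist n k (d : ℤ)) (isInvertible_twist n k (-(d : ℤ))) e
    exact IsZero.of_iso ((twistF (Twist.twistProjSpace n k (-(d : ℤ)))).map_isZero hz) (v.app M).symm

/-- For large twists `Ext^i(F, G(d))` is the space of sections of sheaf `Ext`. -/
theorem eventually_ext_equiv_sections [HasExt.{u} (CohB1.ProjSpace n k).Modules]
    {F G : (CohB1.ProjSpace n k).Modules} (hF : Coh.IsCoh F) (hG : Coh.IsCoh G) (I : InjectiveResolution G) (m : ℕ) :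
    ∃ N : ℕ, ∀ d : ℕ, N ≤ d → Nonempty (Ext F (CohB1.tensorMod G (Twist.twistProjSpace n k (d : ℤ))) m ≃ₗ[k]
      Coh.HH (CohB1.ProjSpace n k) (CohB1.tensorMod ((homCx F I).homology m) (Twist.twistProjSpace n k (d : ℤ))) 0) := by
  classical
  haveI : IsProper ((CohB1.ProjSpace n k) ↘ Spec (CommRingCat.of k)) := isProper_projSpace_toSpec n k
  haveI := isNoetherian_of_proper (k := k) (X := CohB1.ProjSpace n k)
  choose N hN using fun q => exists_vanishing_twist (n := n) (k := k) (isCoh_homology_projSpace hF hG I q)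
  refine ⟨(Finset.range m).sup N, fun d hd => ?_⟩
  haveI := hasInjectiveResolutions_modules (CohB1.ProjSpace n k)
  let J := injectiveResolution (CohB1.tensorMod G (Twist.twistProjSpace n k (d : ℤ)))
  obtain ⟨e⟩ := nonempty_twist_inv (n := n) (k := k) (d : ℤ)
  have ht := fun q => nonempty_homology_twist (isInvertible_twist n k (d : ℤ)) (isInvertible_twist n k (-(d : ℤ)))
    e F I J q
  obtain ⟨φ⟩ := nonempty_ext_linearEquiv_homology k J m (fun q hq p => by
    obtain ⟨t⟩ := ht q
    haveI := hN q d ((Finset.le_sup (Finset.mem_range.2 hq)).trans hd) (p + 1) (Nat.succ_pos p)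
    exact subsingleton_HH_of_iso k t (p + 1))
  obtain ⟨t⟩ := ht m
  exact ⟨φ.trans (hmapIso k t 0)⟩

/-- Vanishing of sheaf `Ext` into the dualizing sheaf of projective space, through `Ext` into large twists. -/
theorem isZero_homology_iff_ext [HasExt.{u} (CohB1.ProjSpace n k).Modules] {F : (CohB1.ProjSpace n k).Modules}
    (hF : Coh.IsCoh F) (I : InjectiveResolution (Twist.twistProjSpace n k (-((n : ℤ) + 1)))) (i : ℕ) :
    IsZero ((homCx F I).homology i) ↔
      ∃ N : ℕ, ∀ m : ℕ, N ≤ m → Subsingleton (Ext F (Twist.twistProjSpace n k (m : ℤ)) i) := by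
  haveI : IsProper ((CohB1.ProjSpace n k) ↘ Spec (CommRingCat.of k)) := isProper_projSpace_toSpec n k
  haveI := isNoetherian_of_proper (k := k) (X := CohB1.ProjSpace n k)
  have hω : Coh.IsCoh (Twist.twistProjSpace n k (-((n : ℤ) + 1))) :=
    CohBC.isCoh_of_isFinLocFree (isFinLocFree_of_invertible (isInvertible_twist n k _))
  obtain ⟨N, hN⟩ := eventually_ext_equiv_sections hF hω I i
  rw [isZero_iff_eventually_subsingleton (isCoh_homology_projSpace hF hω I i)]
  constructor
  · rintro ⟨N', hN'⟩
    refine ⟨N + N', fun m hm => ?_⟩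
    obtain ⟨φ⟩ := hN (m + (n + 1)) (by omega)
    haveI := hN' (m + (n + 1)) (by omega)
    haveI := φ.toEquiv.subsingleton
    obtain ⟨c⟩ := nonempty_twist_tensor n k
      (show -((n : ℤ) + 1) + ((m + (n + 1) : ℕ) : ℤ) = (m : ℤ) by push_cast; ring)
    exact subsingleton_ext_congr (Iso.refl _) c.symm i inferInstance
  · rintro ⟨N', hN'⟩
    refine ⟨N + N' + (n + 1), fun d hd => ?_⟩
    obtain ⟨φ⟩ := hN d (by omega)
    obtain ⟨c⟩ := nonempty_twist_tensor n k
      (show -((n : ℤ) + 1) + (d : ℤ) = ((d - (n + 1) : ℕ) : ℤ) by omega)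
    haveI : Subsingleton (Ext F (CohB1.tensorMod (Twist.twistProjSpace n k (-((n : ℤ) + 1)))
        (Twist.twistProjSpace n k (d : ℤ))) i) :=
      subsingleton_ext_congr (Iso.refl _) c i (hN' (d - (n + 1)) (by omega))
    exact φ.symm.toEquiv.subsingleton

/-- Sheaf `Ext^i` into the dualizing sheaf vanishes iff `H^{n-i}` of large negative twists does. -/
theorem isZero_homology_iff_vanishing {F : (CohB1.ProjSpace n k).Modules}
    (hF : Coh.IsCoh F) (I : InjectiveResolution (Twist.twistProjSpace n k (-((n : ℤ) + 1)))) {i j : ℕ}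
    (hij : j + i = n) :
    IsZero ((homCx F I).homology i) ↔ ∃ N : ℕ, ∀ m : ℕ, N ≤ m → Subsingleton
      (Coh.HH (CohB1.ProjSpace n k) (CohB1.tensorMod F (Twist.twistProjSpace n k (-(m : ℤ)))) j) := by
  haveI : HasExt.{u} (CohB1.ProjSpace n k).Modules :=
    haveI : IsGrothendieckAbelian.{u} (CohB1.ProjSpace n k).Modules :=
      DCat.schemeModules_isGrothendieckAbelian _
    inferInstance
  rw [isZero_homology_iff_ext hF I i, vanishing_iff_ext hF hij]

section Closed

variable {X : Scheme.{u}} [X.Over (Spec (CommRingCat.of k))] (ι : X ⟶ CohB1.ProjSpace n k) [IsClosedImmersion ι]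
  (hι : ι ≫ CohB1.ProjSpace.toSpec n k = X ↘ Spec (CommRingCat.of k))

omit [X.Over (Spec (CommRingCat.of k))] in
/-- Direct image of the structure sheaf is coherent. -/
theorem isCoh_push_structure : Coh.IsCoh ((Scheme.Modules.pushforward ι).obj (Coh.structureModule X)) := by
  haveI : IsProper ((CohB1.ProjSpace n k) ↘ Spec (CommRingCat.of k)) := isProper_projSpace_toSpec n k
  haveI := isNoetherian_of_proper (k := k) (X := CohB1.ProjSpace n k)
  haveI : IsLocallyNoetherian X := LocallyOfFiniteType.isLocallyNoetherian ι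
  exact isCoh_push_finite ι (CohBC.isCoh_of_isFinLocFree (CohBC.isFinLocFree_structureModule X))

include hι in
/-- Cohomology of the twists of `ι_* O` is that of the twists of `O` on the closed subscheme. -/
theorem subsingleton_HH_push_twist_iff (a : ℤ) (j : ℕ) :
    Subsingleton (Coh.HH (CohB1.ProjSpace n k) (CohB1.tensorMod ((Scheme.Modules.pushforward ι).obj
      (Coh.structureModule X)) (Twist.twistProjSpace n k a)) j) ↔
    Subsingleton (Coh.HH X ((Scheme.Modules.pullback ι).obj (Twist.twistProjSpace n k a)) j) := by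
  haveI : IsProper ((CohB1.ProjSpace n k) ↘ Spec (CommRingCat.of k)) := isProper_projSpace_toSpec n k
  haveI := isNoetherian_of_proper (k := k) (X := CohB1.ProjSpace n k)
  haveI := (isProper_and_ample_of_closedImmersion ι hι).1
  haveI := isNoetherian_of_proper (k := k) (X := X)
  let B := (Scheme.Modules.pullback ι).obj (Twist.twistProjSpace n k a)
  have hinv : PicF.IsInvertible B := PicLoc.isInvertible_pullback ι (isInvertible_twist n k a)
  haveI : Coh.IsQCoh B := (CohBC.isCoh_of_isFinLocFree (isFinLocFree_of_invertible hinv)).1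
  haveI := isIso_projHom (f := ι) (isFinLocFree_of_invertible (isInvertible_twist n k a)) (Coh.structureModule X)
  let e : CohB1.tensorMod ((Scheme.Modules.pushforward ι).obj (Coh.structureModule X))
      (Twist.twistProjSpace n k a) ≅ (Coh.push ι).obj B :=
    tensorComm _ _ ≪≫ asIso (projHom ι (Twist.twistProjSpace n k a) (Coh.structureModule X)) ≪≫
      (Scheme.Modules.pushforward ι).mapIso (tensorComm _ _ ≪≫ unitTensorIso B)
  constructor
  · intro h
    haveI : Subsingleton (Coh.HH (CohB1.ProjSpace n k) ((Coh.push ι).obj B) j) :=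
      subsingleton_HH_of_iso k e.symm j
    exact (hpush ι k hι B j).toEquiv.subsingleton
  · intro h
    haveI : Subsingleton (Coh.HH (CohB1.ProjSpace n k) ((Coh.push ι).obj B) j) :=
      (hpush ι k hι B j).symm.toEquiv.subsingleton
    exact subsingleton_HH_of_iso k e j

include hι in
/-- Vanishing of sheaf `Ext^i(ι_* O, ω)` through cohomology of negative twists on the subscheme. -/
theorem isZero_homology_push_iff (I : InjectiveResolution (Twist.twistProjSpace n k (-((n : ℤ) + 1)))) {i j : ℕ}
    (hij : j + i = n) :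
    IsZero ((homCx ((Scheme.Modules.pushforward ι).obj (Coh.structureModule X)) I).homology i) ↔
      ∃ N : ℕ, ∀ m : ℕ, N ≤ m →
        Subsingleton (Coh.HH X ((Scheme.Modules.pullback ι).obj (Twist.twistProjSpace n k (-(m : ℤ)))) j) := by
  rw [isZero_homology_iff_vanishing (isCoh_push_structure ι) I hij]
  exact exists_congr fun N => forall₂_congr fun m _ => subsingleton_HH_push_twist_iff ι hι _ j

include hι in
/-- A module whose direct image is sheaf `Ext` of `ι_* O` is coherent. -/
theorem isCoh_of_push_homology (I : InjectiveResolution (Twist.twistProjSpace n k (-((n : ℤ) + 1)))) (i : ℕ)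
    {ω : X.Modules}
    (e : (Scheme.Modules.pushforward ι).obj ω ≅
      (homCx ((Scheme.Modules.pushforward ι).obj (Coh.structureModule X)) I).homology i) : Coh.IsCoh ω := by
  haveI : IsProper ((CohB1.ProjSpace n k) ↘ Spec (CommRingCat.of k)) := isProper_projSpace_toSpec n k
  haveI := isNoetherian_of_proper (k := k) (X := CohB1.ProjSpace n k)
  haveI := (isProper_and_ample_of_closedImmersion ι hι).1
  haveI := isNoetherian_of_proper (k := k) (X := X)
  exact isCoh_of_push ι (isCoh_of_iso e.symm (isCoh_homology_projSpace (isCoh_push_structure ι)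
    (CohBC.isCoh_of_isFinLocFree (isFinLocFree_of_invertible (isInvertible_twist n k _))) I i))

end Closed

end Groth.Agent.SerreDual
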