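import Groth.Agent.Coherent.SchemeCoh
import Groth.Agent.SerreDual.Trace

/-!
# Cohomology along affine morphisms, linearly and naturally
-/

set_option autoImplicit false
set_option linter.style.haveILetI false
set_option backward.isDefEq.respectTransparency.types false

universe u

open CategoryTheory CategoryTheory.Abelian CategoryTheory.Limits AlgebraicGeometry Opposite TopologicalSpace
open Groth.Agent.Coherent

namespace Groth.Agent.SerreDual

variable {X Y : Scheme.{u}} (f : X ⟶ Y) [IsAffineHom f]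

theorem hhTopEquiv_natural {Z : Scheme.{u}} {M N : Z.Modules} (φ : Coh.toAb M ⟶ Coh.toAb N) (q : ℕ)
    (z : Coh.HH Z M q) :
    HHTopEquiv N q (Sheaf.H.map φ q z) =
      (Ext.mk₀ φ).postcomp (freeSh (X := Z.toTopCat) (⊤ : Z.Opens)) (add_zero q) (HHTopEquiv M q z) := by
  obtain ⟨w, rfl⟩ := (H'TopEquiv (X := Z.toTopCat) (Coh.toAb M) q).surjective z
  refine (congrArg (H'TopEquiv (X := Z.toTopCat) (Coh.toAb N) q).symm
    (H'TopEquiv_naturality (X := Z.toTopCat) φ q w).symm).trans ?_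
  refine ((H'TopEquiv (X := Z.toTopCat) (Coh.toAb N) q).symm_apply_apply _).trans ?_
  exact congrArg _ ((H'TopEquiv (X := Z.toTopCat) (Coh.toAb M) q).symm_apply_apply w).symm

/-- Naturality in maps of abelian sheaves. -/
theorem hhAffinePush_natural {M N : X.Modules} [Coh.IsQCoh M] [Coh.IsQCoh N]
    (φ : Coh.toAb M ⟶ Coh.toAb N) (ψ : Coh.toAb ((Coh.push f).obj M) ⟶ Coh.toAb ((Coh.push f).obj N))
    (hψ : (pushSh (X := X.toTopCat) (Y := Y.toTopCat) f.base).map φ = ψ) (q : ℕ) (x : Coh.HH X M q) :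
    HHAffinePushEquiv f N q (Sheaf.H.map φ q x) = Sheaf.H.map ψ q (HHAffinePushEquiv f M q x) := by
  subst hψ
  apply (HHTopEquiv ((Coh.push f).obj N) q).injective
  refine Eq.trans ?_ (hhTopEquiv_natural _ q _).symm
  show HHTopEquiv _ q ((HHTopEquiv _ q).symm _) = _
  rw [AddEquiv.apply_symm_apply]
  show H'AffinePushEquiv f N ⊤ q (HHTopEquiv N q (Sheaf.H.map φ q x)) = _
  rw [hhTopEquiv_natural φ q x]
  refine (H'PushEquiv_naturality (X := X.toTopCat) (Y := Y.toTopCat) (f := f.base) Y.isBasis_affineOpens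
    (acyclicOverBasis_affine f M) (acyclicOverBasis_affine f N) φ ⊤ q (HHTopEquiv M q x)).trans ?_
  refine congrArg _ ?_
  exact ((HHTopEquiv ((Coh.push f).obj M) q).apply_symm_apply _).symm

variable (A : Type u) [CommRing A] [X.Over (Spec (CommRingCat.of A))] [Y.Over (Spec (CommRingCat.of A))]

/-- `H^q(X, M) ≃ H^q(Y, f_* M)`, linearly over the base ring. -/
noncomputable def hpushA (hf : f ≫ (Y ↘ Spec (CommRingCat.of A)) = X ↘ Spec (CommRingCat.of A))
    (M : X.Modules) [Coh.IsQCoh M] (q : ℕ) : Coh.HH X M q ≃ₗ[A] Coh.HH Y ((Coh.push f).obj M) q :=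
  { HHAffinePushEquiv f M q with
    map_smul' := fun c x => by
      refine hhAffinePush_natural f (Coh.smulAb M (Coh.toGlobal (X ↘ Spec (CommRingCat.of A)) c))
        (Coh.smulAb ((Coh.push f).obj M) (Coh.toGlobal (Y ↘ Spec (CommRingCat.of A)) c)) ?_ q x
      ext V m
      show (show Γ(X, f ⁻¹ᵁ V.unop) from X.presheaf.map (homOfLE (le_top : f ⁻¹ᵁ V.unop ≤ ⊤)).op
          (Coh.toGlobal (X ↘ Spec (CommRingCat.of A)) c)) • (show Γ(M, f ⁻¹ᵁ V.unop) from m) =
        (show Γ(X, f ⁻¹ᵁ V.unop) from f.app V.unop (Y.presheaf.map (homOfLE (le_top : V.unop ≤ ⊤)).op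
          (Coh.toGlobal (Y ↘ Spec (CommRingCat.of A)) c))) • (show Γ(M, f ⁻¹ᵁ V.unop) from m)
      congr 1
      show _ = (Y.presheaf.map (homOfLE (le_top : V.unop ≤ ⊤)).op ≫ f.app V.unop) _
      rw [Scheme.Hom.naturality]
      show _ = X.presheaf.map _ (f.appTop ((Y ↘ Spec (CommRingCat.of A)).appTop
        ((Scheme.ΓSpecIso (CommRingCat.of A)).inv c)))
      rw [← hf]
      rfl }

end Groth.Agent.SerreDual

namespace Groth.Agent.SerreDual

variable {X Y : Scheme.{u}} (f : X ⟶ Y) [IsAffineHom f]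
variable (k : Type u) [Field k] [X.Over (Spec (CommRingCat.of k))] [Y.Over (Spec (CommRingCat.of k))]

/-- `H^q(X, M) ≃ H^q(Y, f_* M)`, linearly. -/
noncomputable def hpush (hf : f ≫ (Y ↘ Spec (CommRingCat.of k)) = X ↘ Spec (CommRingCat.of k))
    (M : X.Modules) [Coh.IsQCoh M] (q : ℕ) : Coh.HH X M q ≃ₗ[k] Coh.HH Y ((Coh.push f).obj M) q :=
  hpushA f k hf M q

theorem hpush_natural (hf : f ≫ (Y ↘ Spec (CommRingCat.of k)) = X ↘ Spec (CommRingCat.of k))
    {M N : X.Modules} [Coh.IsQCoh M] [Coh.IsQCoh N] (φ : M ⟶ N) (q : ℕ) (x : Coh.HH X M q) :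
    hpush f k hf N q (hmap k φ q x) = hmap k ((Coh.push f).map φ) q (hpush f k hf M q x) := by
  rw [hmap_eq, hmap_eq]
  exact hhAffinePush_natural f ((SheafOfModules.toSheaf X.ringCatSheaf).map φ)
    ((SheafOfModules.toSheaf Y.ringCatSheaf).map ((Coh.push f).map φ)) rfl q x

end Groth.Agent.SerreDual
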