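import Groth.Prelude.Def_KLin
import Groth.Agent.SerreDual.Trace
import Groth.Agent.CurveRR24.Vanish
import Groth.Agent.CurveRR24.Sky
import Groth.Agent.AmpleLib.Tensor
import Groth.Agent.AmpleLib.Twist
import Groth.Agent.VarietyLib.Dual

/-!
# The linear forms of the duality: Hom into the dualizing module, sections, twisting
-/

set_option autoImplicit false
set_option linter.style.haveILetI false

universe u

open CategoryTheory CategoryTheory.Limits AlgebraicGeometry Opposite TopologicalSpace
open Groth.Agent.Coherent Groth.Agent.EulerLib Groth.Agent.PicLib Groth.Agent.AmpleLib Groth.Agent.CurveRR24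

namespace Groth.Agent.SerreDual

variable (k : Type u) [Field k] {X : Scheme.{u}} [X.Over (Spec (CommRingCat.of k))]

theorem hmap_smul {M N : X.Modules} (c : k) (f : M ⟶ N) (q : ℕ) : hmap k (c • f) q = c • hmap k f q := by
  rw [KLin.smul_def, hmap_comp]
  refine LinearMap.ext fun x => ?_
  rw [LinearMap.comp_apply, LinearMap.smul_apply, ← map_smul (hmap k f q) c x]
  refine congrArg (hmap k f q) ((hmap_eq k _ q x).trans ?_)
  show _ = Sheaf.H.map (Coh.smulAb M (Coh.toGlobal (X ↘ Spec (CommRingCat.of k)) c)) q x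
  congr 1

variable {k} {d : ℕ} {ω : X.Modules} (t : Coh.HH X ω d →ₗ[k] k)

/-- `φ ↦ t ∘ H^d(φ)`, linearly. -/
noncomputable def thetaLin (F : X.Modules) : (F ⟶ ω) →ₗ[k] Module.Dual k (Coh.HH X F d) where
  toFun := theta t F
  map_add' := map_add _
  map_smul' c φ := by
    show t ∘ₗ hmap k (c • φ) d = c • (t ∘ₗ hmap k φ d)
    rw [hmap_smul, LinearMap.comp_smul]

/-- The duality isomorphism. -/
noncomputable def dualEquiv {F : X.Modules} (h : Rep t F) : (F ⟶ ω) ≃ₗ[k] Module.Dual k (Coh.HH X F d) :=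
  LinearEquiv.ofBijective (thetaLin t F) h

variable (k)

theorem unitDesc_one_app {M : X.Modules} (s : Γ(M, ⊤)) :
    (unitDesc M s).app ⊤ (1 : Γ(X, ⊤)) = s := by
  refine (unitDesc_app M s ⊤ (1 : Γ(X, ⊤))).trans ?_
  rw [one_smul, resM_self]

/-- Maps out of the structure sheaf are global sections. -/
noncomputable def homUnitEquiv (M : X.Modules) :
    (Coh.structureModule X ⟶ M) ≃ₗ[k] GA (baseHom k X) M where
  toFun f := f.app ⊤ (1 : Γ(X, ⊤))
  map_add' f g := rfl
  map_smul' c f := by
    refine (KLin.smul_app_apply c f ⊤ (1 : Γ(X, ⊤))).trans ?_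
    exact congrArg (· • (f.app ⊤ (1 : Γ(X, ⊤)))) (ConcreteCategory.congr_hom (X.presheaf.map_id (op ⊤)) _)
  invFun s := unitDesc M s
  left_inv f := hom_ext_one _ _ fun V => by
    refine (unitDesc_app M _ V (1 : Γ(X, V))).trans ?_
    rw [one_smul, ← app_resM]
    exact congrArg (f.app V) (map_one (X.presheaf.map (homOfLE le_top).op).hom)
  right_inv s := unitDesc_one_app s

/-- Maps out of the structure sheaf as `H^0`. -/
noncomputable def homUnitHH (M : X.Modules) : (Coh.structureModule X ⟶ M) ≃ₗ[k] Coh.HH X M 0 :=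
  (homUnitEquiv k M).trans (hhZero k M).symm

/-- Tensoring maps with a fixed module. -/
noncomputable def tensorRightHom (A B N : X.Modules) :
    (A ⟶ B) →ₗ[k] (CohB1.tensorMod A N ⟶ CohB1.tensorMod B N) where
  toFun f := tensorMap f (𝟙 N)
  map_add' f g := AmpleLib.hom_ext fun U a b => by
    rw [Scheme.Modules.Hom.add_app]
    show (tensorMap (f + g) (𝟙 N)).app U (tmul a b) =
      (tensorMap f (𝟙 N)).app U (tmul a b) + (tensorMap g (𝟙 N)).app U (tmul a b)
    rw [tensorMap_tmul, tensorMap_tmul, tensorMap_tmul, Scheme.Modules.Hom.add_app]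
    exact tmul_add_left _ _ _
  map_smul' c f := AmpleLib.hom_ext fun U a b => by
    show (tensorMap (c • f) (𝟙 N)).app U (tmul a b) = (c • tensorMap f (𝟙 N)).app U (tmul a b)
    rw [tensorMap_tmul, KLin.smul_app_apply, KLin.smul_app_apply, tensorMap_tmul, tmul_smul_left]

theorem tensorRightHom_injective (A B : X.Modules) {N : X.Modules} (hN : PicF.IsInvertible N) :
    Function.Injective (tensorRightHom k A B N) := by
  intro f g h
  refine Scheme.Modules.hom_ext _ _ fun V => ConcreteCategory.hom_ext _ _ fun a => ?_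
  refine sec_ext B _ _ fun y hy => ?_
  obtain ⟨U, hyU, e, he⟩ := exists_isGen hN y
  refine ⟨V ⊓ U, inf_le_left, ⟨hy, hyU⟩, ?_⟩
  rw [← app_resM, ← app_resM]
  refine (bijective_tmul_gen (M := B) he (V ⊓ U) inf_le_right).1 ?_
  have h1 := congrArg (fun z : CohB1.tensorMod A N ⟶ CohB1.tensorMod B N =>
    z.app (V ⊓ U) (tmul (resM A inf_le_left a) (resM N inf_le_right e))) h
  exact ((tensorMap_tmul f (𝟙 N) _ _).symm.trans h1).trans (tensorMap_tmul g (𝟙 N) _ _)

theorem finrank_hom_congr {A A' B B' : X.Modules} (e : A ≅ A') (e' : B ≅ B') :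
    Nonempty ((A ⟶ B) ≃ₗ[k] (A' ⟶ B')) := ⟨Linear.homCongr k e e'⟩

/-- If `Hom(L, ω)` is finite dimensional, it has the dimension of the sections of `ω` twisted by the
inverse of `L`. -/
theorem finrank_hom_eq (ω : X.Modules) {L N : X.Modules} (hL : PicF.IsInvertible L) (hN : PicF.IsInvertible N)
    (e : CohB1.tensorMod L N ≅ Coh.structureModule X) [Module.Finite k (L ⟶ ω)] :
    Module.Finite k (Coh.HH X (CohB1.tensorMod ω N) 0) ∧
      Module.finrank k (Coh.HH X (CohB1.tensorMod ω N) 0) = Module.finrank k (L ⟶ ω) := by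
  obtain ⟨a⟩ := exists_assocIso' ω hN hL
  let back : CohB1.tensorMod (CohB1.tensorMod ω N) L ≅ ω :=
    a ≪≫ tensorIso (Iso.refl ω) (tensorComm N L ≪≫ e) ≪≫ tensorComm _ _ ≪≫ unitTensorIso ω
  let fwd : (L ⟶ ω) →ₗ[k] Coh.HH X (CohB1.tensorMod ω N) 0 :=
    ((Linear.homCongr k e (Iso.refl _)).trans (homUnitHH k _)).toLinearMap ∘ₗ tensorRightHom k L ω N
  let bwd : Coh.HH X (CohB1.tensorMod ω N) 0 →ₗ[k] (L ⟶ ω) :=
    (Linear.homCongr k (unitTensorIso L) back).toLinearMap ∘ₗ
      tensorRightHom k (Coh.structureModule X) (CohB1.tensorMod ω N) L ∘ₗ (homUnitHH k _).symm.toLinearMap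
  have hf : Function.Injective fwd := fun x y h =>
    tensorRightHom_injective k L ω hN
      (((Linear.homCongr k e (Iso.refl _)).trans (homUnitHH k _)).injective h)
  have hb : Function.Injective bwd := fun x y h =>
    (homUnitHH k _).symm.injective (tensorRightHom_injective k _ _ hL
      ((Linear.homCongr k (unitTensorIso L) back).injective h))
  haveI : Module.Finite k (Coh.HH X (CohB1.tensorMod ω N) 0) := Module.Finite.of_injective bwd hb
  exact ⟨inferInstance, le_antisymm (LinearMap.finrank_le_finrank_of_injective hb)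
    (LinearMap.finrank_le_finrank_of_injective hf)⟩

end Groth.Agent.SerreDual
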