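import Groth.Agent.SerreDual.Trace
import Groth.Agent.SerreDual.PushEquiv
import Groth.Agent.SerreDual.HomLinear
import Groth.Agent.Coherent.InternalHomAdj
import Groth.Agent.Coherent.ModExt
import Groth.Prelude.Def_KLin
import Mathlib.Algebra.Homology.DerivedCategory.Ext.Linear
import Mathlib.Algebra.Homology.DerivedCategory.Ext.MapBijective

/-!
# `Ext^q(F, N) ≅ H^q(Hom(F, N))` for finite locally free `F`
-/

set_option autoImplicit false
set_option linter.style.haveILetI false
set_option backward.isDefEq.respectTransparency.types false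

universe u

open CategoryTheory CategoryTheory.Abelian CategoryTheory.Limits AlgebraicGeometry Opposite TopologicalSpace
open Groth.Agent.Coherent Groth.Agent.EulerLib Groth.Agent.PicLib Groth.Agent.AmpleLib

namespace Groth.Agent.SerreDual

variable {X : Scheme.{u}} {F : X.Modules}

/-- The identity, as a global section of `Hom(F, F)`. -/
noncomputable def idSec (F : X.Modules) : Γ(internalHom F F, ⊤) :=
  (show locHom F F ⊤ from
    ⟨fun W _ => AddMonoidHom.id _, fun _ _ _ _ => rfl, fun _ _ _ _ _ => rfl⟩)

/-- The tautological map `O ⟶ Hom(F, F)`. -/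
noncomputable def idHom (F : X.Modules) : (freeModOn X).obj ⊤ ⟶ (internalHomFunctor F).obj F :=
  (freeModOnEquiv ⊤ _).symm (idSec F)

/-- A global local family as a morphism. -/
noncomputable def homOfSec {N : X.Modules} (ξ : Γ(internalHom F N, ⊤)) : F ⟶ N :=
  ⟨PresheafOfModules.homMk
    { app := fun W => AddCommGrpCat.ofHom ((secHom ξ).1 W.unop le_top)
      naturality := fun W W' g => ConcreteCategory.hom_ext _ _ fun a => by
        rw [show g = (homOfLE (leOfHom g.unop)).op from Subsingleton.elim _ _]
        exact ((secHom ξ).2.2 W.unop W'.unop le_top (leOfHom g.unop) a).symm }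
    fun W r a => (secHom ξ).2.1 W.unop le_top r a⟩

theorem ev_map_idSec {N : X.Modules} (f : F ⟶ N) (W : X.Opens) (a : Γ(F, W)) :
    ev (secHom (((internalHomFunctor F).map f).app ⊤ (idSec F))) W le_top a = f.app W a :=
  ev_internalHomMap F f (idSec F) W le_top a

theorem bijective_idHom_comp (F N : X.Modules) :
    Function.Bijective (fun f : F ⟶ N => idHom F ≫ (internalHomFunctor F).map f) := by
  have e : ∀ f : F ⟶ N, freeModOnEquiv ⊤ _ (idHom F ≫ (internalHomFunctor F).map f) =
      ((internalHomFunctor F).map f).app ⊤ (idSec F) := fun f => by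
    rw [idHom, freeModOnEquiv_comp, Equiv.apply_symm_apply]
  refine ⟨fun f g h => Scheme.Modules.hom_ext _ _ fun W => ConcreteCategory.hom_ext _ _ fun a => ?_,
    fun x => ⟨homOfSec (freeModOnEquiv ⊤ _ x), (freeModOnEquiv ⊤ _).injective ((e _).trans ?_)⟩⟩
  · have h' := congrArg (fun x => ev (secHom x) W le_top a)
      ((e f).symm.trans ((congrArg (freeModOnEquiv ⊤ _) h).trans (e g)))
    exact (ev_map_idSec f W a).symm.trans (h'.trans (ev_map_idSec g W a))
  · exact locHom_ext (φ := secHom _) (ψ := secHom _) fun W _ a => ev_map_idSec _ W a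

instance additive_internalHomFunctor (F : X.Modules) : (internalHomFunctor F).Additive := by
  haveI : (internalHomFunctor F).IsRightAdjoint := (tensorHomAdj F).isRightAdjoint
  exact Functor.additive_of_preserves_binary_products _

/-- The functor `Hom(F, -)` preserves epimorphisms. -/
theorem epi_internalHomMap (hF : FlatMod.IsFinLocFree F) {M N : X.Modules} (g : M ⟶ N) [Epi g] :
    Epi ((internalHomFunctor F).map g) := by
  refine epi_of_locally_surjective _ fun W ψ y hy => ?_
  obtain ⟨U, n, e, hyU, hUW, he⟩ := exists_basis_nhd hF y W hy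
  choose V hV hyV b hb using fun i => exists_lift_of_epi g U (ev (secHom ψ) U hUW (e i)) y hyU
  let V₀ : X.Opens := ⟨U ∩ ⋂ i, (V i : Set X), U.2.inter (isOpen_iInter_of_finite fun i => (V i).2)⟩
  have h0 : V₀ ≤ U := fun z hz => hz.1
  have hi : ∀ i, V₀ ≤ V i := fun i z hz => Set.mem_iInter.1 hz.2 i
  let φ : locHom F M V₀ :=
    ⟨fun W' hW' => AddMonoidHom.mk'
        (fun a => ∑ i, he.coef (hW'.trans h0) a i • resM M (hW'.trans (hi i)) (b i))
        (fun a a' => by simp only [he.coef_add, Pi.add_apply, add_smul, Finset.sum_add_distrib]),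
      fun W' hW' r a => by
        show ∑ i, he.coef (hW'.trans h0) (r • a) i • resM M (hW'.trans (hi i)) (b i) =
          r • ∑ i, he.coef (hW'.trans h0) a i • resM M (hW'.trans (hi i)) (b i)
        rw [he.coef_smul, Finset.smul_sum]
        exact Finset.sum_congr rfl fun i _ => mul_smul r _ _,
      fun W' W'' hW' h a => by
        show resM M h (∑ i, he.coef (hW'.trans h0) a i • resM M (hW'.trans (hi i)) (b i)) =
          ∑ i, he.coef ((h.trans hW').trans h0) (resM F h a) i • resM M ((h.trans hW').trans (hi i)) (b i)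
        rw [map_sum]
        refine Finset.sum_congr rfl fun i _ => ?_
        rw [resM_smul, resM_resM, congrFun (he.coef_res (hW'.trans h0) h a) i]⟩
  refine ⟨V₀, h0.trans hUW, ⟨hyU, Set.mem_iInter.2 hyV⟩, (show Γ(internalHom F M, V₀) from φ), ?_⟩
  refine locHom_ext (φ := secHom _) (ψ := secHom _) fun W' hW' a => ?_
  refine (ev_internalHomMap F g _ W' hW' a).trans ?_
  show g.app W' (∑ i, he.coef (hW'.trans h0) a i • resM M (hW'.trans (hi i)) (b i)) = _
  rw [map_sum]
  refine Eq.trans ?_ (resM_internalHom _ ψ W' hW' a).symm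
  conv_rhs => rw [← he.coef_spec (hW'.trans h0) a]
  rw [ev_sum]
  refine Finset.sum_congr rfl fun i _ => ?_
  rw [Scheme.Modules.Hom.app_smul, ev_smul_arg, app_resM, hb, resM_resM]
  congr 1
  exact ev_res (secHom ψ) hUW (hW'.trans h0) (e i)

theorem preservesFiniteLimits_internalHom (F : X.Modules) : PreservesFiniteLimits (internalHomFunctor F) := by
  haveI : (internalHomFunctor F).IsRightAdjoint := (tensorHomAdj F).isRightAdjoint
  infer_instance

theorem preservesFiniteColimits_internalHom (hF : FlatMod.IsFinLocFree F) :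
    PreservesFiniteColimits (internalHomFunctor F) := by
  haveI := preservesFiniteLimits_internalHom F
  haveI : (internalHomFunctor F).PreservesEpimorphisms := ⟨fun g _ => epi_internalHomMap hF g⟩
  haveI := (internalHomFunctor F).preservesHomology_of_preservesEpis_and_kernels
  exact (internalHomFunctor F).preservesFiniteColimits_of_preservesHomology

theorem preservesInjectives_internalHom (hF : FlatMod.IsFinLocFree F) :
    (internalHomFunctor F).PreservesInjectiveObjects := by
  haveI : (tensE F).PreservesMonomorphisms := ⟨fun g _ => mono_tensE_map hF g⟩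
  exact Functor.preservesInjectiveObjects_of_adjunction_of_preservesMonomorphisms (tensorHomAdj F)

variable (k : Type u) [Field k] [X.Over (Spec (CommRingCat.of k))]

theorem linear_internalHom (F : X.Modules) : (internalHomFunctor F).Linear k := by
  refine ⟨fun {M N} f c => Scheme.Modules.hom_ext _ _ fun U => ConcreteCategory.hom_ext _ _ fun ψ => ?_⟩
  refine Eq.trans ?_ (KLin.smul_app_apply c ((internalHomFunctor F).map f) U ψ).symm
  refine locHom_ext (φ := secHom _) (ψ := secHom _) fun W hW a => ?_
  refine (ev_internalHomMap F (c • f) ψ W hW a).trans ?_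
  refine (KLin.smul_app_apply c f W _).trans ?_
  refine Eq.trans ?_ (ev_smul _ (secHom _) W hW a).symm
  refine congr (congrArg _ ?_) (ev_internalHomMap F f ψ W hW a).symm
  exact (ConcreteCategory.congr_hom (X.presheaf.map_comp (homOfLE (le_top (a := U))).op (homOfLE hW).op) _)

/-- Comparison of `Ext` out of `O` with cohomology. -/
noncomputable def extHH (M : X.Modules) (q : ℕ) [HasExt.{u} X.Modules] :
    Ext ((freeModOn X).obj ⊤) M q ≃+ Coh.HH X M q :=
  (AddEquiv.ofBijective (extToH ⊤ M q) (bijective_extToH ⊤ q M)).trans (HHTopEquiv M q).symm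

theorem extHH_natural {M N : X.Modules} (g : M ⟶ N) (q : ℕ) [HasExt.{u} X.Modules]
    (x : Ext ((freeModOn X).obj ⊤) M q) :
    extHH N q (x.comp (Ext.mk₀ g) (add_zero q)) =
      Sheaf.H.map ((SheafOfModules.toSheaf X.ringCatSheaf).map g) q (extHH M q x) := by
  apply (HHTopEquiv N q).injective
  rw [hhTopEquiv_natural]
  show HHTopEquiv N q ((HHTopEquiv N q).symm _) = _
  rw [AddEquiv.apply_symm_apply]
  refine (extToH_post ⊤ g q x).trans ?_
  refine congrArg _ ?_
  exact ((HHTopEquiv M q).apply_symm_apply _).symm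

/-- The same, linearly. -/
noncomputable def extHHLin (M : X.Modules) (q : ℕ) [HasExt.{u} X.Modules] :
    Ext ((freeModOn X).obj ⊤) M q ≃ₗ[k] Coh.HH X M q :=
  { extHH M q with
    map_smul' := fun c x => by
      show extHH M q (c • x) = c • extHH M q x
      rw [Ext.smul_eq_comp_mk₀, extHH_natural, ← hmap_eq k, hmap_smul, hmap_id]
      rfl }

/-- Cohomology of isomorphic modules. -/
noncomputable def hmapIso {M N : X.Modules} (e : M ≅ N) (q : ℕ) : Coh.HH X M q ≃ₗ[k] Coh.HH X N q :=
  LinearEquiv.ofLinearMap (hmap k e.hom q) (hmap k e.inv q)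
    (by rw [← hmap_comp, e.inv_hom_id, hmap_id]) (by rw [← hmap_comp, e.hom_inv_id, hmap_id])

variable [HasExt.{u} X.Modules]

/-- `Ext^q(F, N) ⟶ Ext^q(O, Hom(F, N))`. -/
noncomputable def extToHom (hF : FlatMod.IsFinLocFree F) (N : X.Modules) (q : ℕ) :
    Ext F N q →ₗ[k] Ext ((freeModOn X).obj ⊤) ((internalHomFunctor F).obj N) q :=
  haveI := linear_internalHom k F
  haveI := preservesFiniteLimits_internalHom F
  haveI := preservesFiniteColimits_internalHom hF
  (Ext.mk₀ (idHom F)).precompOfLinear k _ (zero_add q) ∘ₗ (internalHomFunctor F).mapExtLinearMap k F N q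

theorem bijective_extToHom (hF : FlatMod.IsFinLocFree F) : ∀ (q : ℕ) (N : X.Modules),
    Function.Bijective (extToHom k hF N q) := by
  haveI := linear_internalHom k F
  haveI := preservesFiniteLimits_internalHom F
  haveI := preservesFiniteColimits_internalHom hF
  haveI := preservesInjectives_internalHom hF
  haveI : EnoughInjectives X.Modules :=
    haveI : IsGrothendieckAbelian.{u} X.Modules := DCat.schemeModules_isGrothendieckAbelian X
    inferInstance
  have happ : ∀ (N : X.Modules) (q : ℕ) (x : Ext F N q), extToHom k hF N q x =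
      (Ext.mk₀ (idHom F)).comp (x.mapExactFunctor (internalHomFunctor F)) (zero_add q) := fun _ _ _ => rfl
  have hmk : ∀ (N : X.Modules) (f : F ⟶ N), extToHom k hF N 0 (Ext.mk₀ f) =
      Ext.mk₀ (idHom F ≫ (internalHomFunctor F).map f) := fun N f => by
    rw [happ, Ext.mapExactFunctor_mk₀, Ext.mk₀_comp_mk₀]
  have hnat : ∀ {N N' : X.Modules} {a b c : ℕ} (x : Ext F N a) (y : Ext N N' b) (h : a + b = c),
      extToHom k hF N' c (x.comp y h) =
        (extToHom k hF N a x).comp (y.mapExactFunctor (internalHomFunctor F)) h := fun x y h => by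
    rw [happ, happ, Ext.mapExactFunctor_comp]
    exact (Ext.comp_assoc _ _ _ (zero_add _) h (by omega)).symm
  intro q
  induction q with
  | zero =>
    intro N
    have hb := bijective_idHom_comp F N
    refine ⟨fun x y h => ?_, fun z => ?_⟩
    · obtain ⟨f, rfl⟩ := (Ext.mk₀_bijective _ _).2 x
      obtain ⟨g, rfl⟩ := (Ext.mk₀_bijective _ _).2 y
      rw [hmk, hmk] at h
      exact congrArg Ext.mk₀ (hb.1 ((Ext.mk₀_bijective _ _).1 h))
    · obtain ⟨g, rfl⟩ := (Ext.mk₀_bijective _ _).2 z
      obtain ⟨f, rfl⟩ := hb.2 g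
      exact ⟨Ext.mk₀ f, hmk N f⟩
  | succ q ih =>
    intro N
    let I : InjectivePresentation N := Classical.arbitrary _
    let S := ShortComplex.mk _ _ (cokernel.condition I.f)
    haveI : Injective S.X₂ := I.injective
    haveI : Injective ((internalHomFunctor F).obj S.X₂) :=
      (preservesInjectives_internalHom hF).injective_obj I.injective
    have hS : S.ShortExact := { exact := ShortComplex.exact_cokernel I.f }
    have hS' := hS.map_of_exact (internalHomFunctor F)
    haveI : Injective (S.map (internalHomFunctor F)).X₂ := ‹Injective ((internalHomFunctor F).obj S.X₂)›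
    have hδ : ∀ x : Ext F S.X₃ q, extToHom k hF S.X₁ (q + 1) (x.comp hS.extClass rfl) =
        (extToHom k hF S.X₃ q x).comp hS'.extClass rfl := fun x => by
      rw [hnat x hS.extClass rfl, Ext.mapExactFunctor_extClass]
      rfl
    show Function.Bijective (extToHom k hF S.X₁ (q + 1))
    refine ⟨(injective_iff_map_eq_zero _).2 fun w hw => ?_, fun z => ?_⟩
    · obtain ⟨x, rfl⟩ := Ext.covariant_sequence_exact₁ _ hS w (Ext.eq_zero_of_injective _) rfl
      rw [hδ] at hw
      obtain ⟨v, hv⟩ := Ext.covariant_sequence_exact₃ _ hS' (extToHom k hF S.X₃ q x) rfl hw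
      obtain ⟨u, rfl⟩ := (ih S.X₂).2 v
      have hx : u.comp (Ext.mk₀ S.g) (add_zero q) = x := (ih S.X₃).1 (by
        rw [hnat u (Ext.mk₀ S.g) (add_zero q), Ext.mapExactFunctor_mk₀]
        exact hv)
      rw [← hx, Ext.comp_assoc_of_second_deg_zero, hS.comp_extClass, Ext.comp_zero]
    · obtain ⟨z', hz'⟩ := Ext.covariant_sequence_exact₁ _ hS' z (Ext.eq_zero_of_injective _) rfl
      obtain ⟨x, hx⟩ := (ih S.X₃).2 z'
      refine ⟨x.comp hS.extClass rfl, ?_⟩
      rw [hδ, hx]
      exact hz'

/-- `Ext^q(F, N) ≅ H^q(X, Hom(F, N))`. -/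
noncomputable def extLocFreeEquiv (hF : FlatMod.IsFinLocFree F) (N : X.Modules) (q : ℕ) :
    Ext F N q ≃ₗ[k] Coh.HH X (internalHom F N) q :=
  (LinearEquiv.ofBijective (extToHom k hF N q) (bijective_extToHom k hF q N)).trans
    (extHHLin k (internalHom F N) q)

end Groth.Agent.SerreDual
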