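import Groth.Agent.ProjLib.ProjSpace
import Groth.Agent.ProjLib.AwayDehom
import Groth.Agent.DimLib.ProjDim
import Mathlib.RingTheory.RegularLocalRing.Polynomial
import Mathlib.AlgebraicGeometry.ProjectiveSpectrum.Basic

/-!
# Projective space over a field is regular
-/

set_option autoImplicit false
set_option linter.style.haveILetI false
set_option backward.isDefEq.respectTransparency.types false

universe u

open AlgebraicGeometry CategoryTheory MvPolynomial HomogeneousLocalization

namespace Groth.Agent.SerreDual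

variable (n : ℕ) (k : Type u) [Field k]

/-- `k[X₀..Xₙ]/(Xᵢ - 1) ≅ k[T₁..Tₙ]`. -/
noncomputable def dehomAlgEquiv (i : Fin (n + 1)) :
    (MvPolynomial (Fin (n + 1)) k ⧸ Ideal.span {(X i : MvPolynomial (Fin (n + 1)) k) - 1}) ≃ₐ[k]
      MvPolynomial (Fin n) k :=
  AlgEquiv.ofAlgHom
    (Ideal.Quotient.liftₐ _ (aeval (Fin.insertNth i (1 : MvPolynomial (Fin n) k) X)) (by
      intro a ha
      obtain ⟨c, rfl⟩ := Ideal.mem_span_singleton.mp ha
      simp))
    (aeval fun l => Ideal.Quotient.mk _ (X (i.succAbove l)))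
    (MvPolynomial.algHom_ext fun l => by simp)
    (Ideal.Quotient.algHom_ext _ (MvPolynomial.algHom_ext fun j => by
      rcases Fin.eq_self_or_eq_succAbove i j with rfl | ⟨l, rfl⟩
      · simp only [AlgHom.comp_apply, AlgHom.id_apply, Ideal.Quotient.mkₐ_eq_mk, Ideal.Quotient.liftₐ_apply,
          Ideal.Quotient.lift_mk, aeval_X, RingHom.coe_coe, Fin.insertNth_apply_same, map_one]
        exact (Ideal.Quotient.eq.mpr (Ideal.mem_span_singleton_self _)).symm.trans rfl
      · simp))

/-- Projective space over a field is regular. -/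
theorem isRegularLocalRing_stalk_projSpace (x : CohB1.ProjSpace n k) :
    IsRegularLocalRing ((CohB1.ProjSpace n k).presheaf.stalk x) := by
  obtain ⟨i, hi⟩ := TopologicalSpace.Opens.mem_iSup.1
    ((ProjLib.iSup_basicOpen_X n k).symm.le (TopologicalSpace.Opens.mem_top x))
  let U : (CohB1.ProjSpace n k).Opens := Proj.basicOpen (CohB1.polyGrading n k) (X i)
  have hA : IsAffineOpen U := Proj.isAffineOpen_basicOpen (CohB1.polyGrading n k) (X i) (ProjLib.X_mem_polyGrading n k i) one_pos
  haveI : IsRegularRing (MvPolynomial (Fin n) k) := MvPolynomial.isRegularRing_of_isRegularRing k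
  haveI : IsRegularRing Γ(CohB1.ProjSpace n k, U) :=
    IsRegularRing.of_ringEquiv (((ProjLib.awayEquivQuotient (ProjLib.X_mem_polyGrading n k i)).trans
      (dehomAlgEquiv n k i).toRingEquiv).symm.trans
      (Proj.basicOpenIsoAway (CohB1.polyGrading n k) (X i) (ProjLib.X_mem_polyGrading n k i)
        one_pos).commRingCatIsoToRingEquiv)
  have := hA.isLocalization_stalk ⟨x, hi⟩
  letI := TopCat.Presheaf.algebra_section_stalk (CohB1.ProjSpace n k).presheaf
    (⟨x, hi⟩ : U)
  exact IsRegularLocalRing.of_ringEquiv (R := Localization.AtPrime (hA.primeIdealOf ⟨x, hi⟩).asIdeal)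
    (IsLocalization.algEquiv (hA.primeIdealOf ⟨x, hi⟩).asIdeal.primeCompl _
      ((CohB1.ProjSpace n k).presheaf.stalk x)).toRingEquiv

end Groth.Agent.SerreDual
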