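import Groth.Agent.SerreDual.ExtShGeneric
import Groth.Agent.SerreDual.VanishingDepth
import Groth.Agent.SerreDual.ExtShProj
import Groth.Agent.Coherent.ProjFormula
import Groth.Agent.DCat.ClosedPush
import Groth.Agent.FlatMor12.MiracleScheme
import Groth.Agent.CAlgH3.RegularLocal
import Groth.Agent.CAlgH3.ProjDim
import Groth.Agent.RefHullLib.LowDim
import Groth.Agent.Props12.FinLocFree
import Groth.Agent.Props12.Components

/-!
# Local freeness on a regular projective scheme through cohomology of negative twists
-/

set_option autoImplicit false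
set_option linter.style.haveILetI false
set_option backward.isDefEq.respectTransparency.types false

universe u

open CategoryTheory CategoryTheory.Limits AlgebraicGeometry Opposite TopologicalSpace IsLocalRing
open Groth.Agent.Coherent Groth.Agent.PicLib Groth.Agent.AmpleLib Groth.Agent.EulerLib

namespace Groth.Agent.SerreDual

/-- The depth of a direct image along a closed immersion. -/
theorem depth_push_stalk {X Y : Scheme.{u}} (f : X ⟶ Y) [IsClosedImmersion f] (M : X.Modules) (x : X) :
    LocCoh.depth (Y.presheaf.stalk (f.base x)) (((Scheme.Modules.pushforward f).obj M).presheaf.stalk (f.base x)) =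
      LocCoh.depth (X.presheaf.stalk x) (M.presheaf.stalk x) := by
  letI : Algebra (Y.presheaf.stalk (f.base x)) (X.presheaf.stalk x) := (f.stalkMap x).hom.toAlgebra
  letI : Module (Y.presheaf.stalk (f.base x)) (M.presheaf.stalk x) :=
    Module.compHom (M.presheaf.stalk x) (f.stalkMap x).hom
  haveI : IsScalarTower (Y.presheaf.stalk (f.base x)) (X.presheaf.stalk x) (M.presheaf.stalk x) :=
    IsScalarTower.of_algebraMap_smul fun _ _ => rfl
  obtain ⟨e, he⟩ := exists_push_stalk f M x
  let e' : ((Scheme.Modules.pushforward f).obj M).presheaf.stalk (f.base x) ≃ₗ[Y.presheaf.stalk (f.base x)]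
      M.presheaf.stalk x := { e with map_smul' := he }
  rw [CAlgH3.depth_congr e']
  exact (CAlgH3.depth_of_surjective (f.stalkMap_surjective x) (M.presheaf.stalk x)).symm

/-- A connected scheme with regular local rings, of finite type over a field, is integral. -/
theorem isIntegral_of_regular_connected {k : Type u} [Field k] {X : Scheme.{u}}
    (p : X ⟶ Spec (CommRingCat.of k)) [LocallyOfFiniteType p] [QuasiCompact p] [ConnectedSpace X]
    (hreg : ∀ x : X, IsRegularLocalRing (X.presheaf.stalk x)) : IsIntegral X := by
  have hd : ∀ x : X, IsDomain (X.presheaf.stalk x) := fun x =>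
    haveI := hreg x
    CAlgH3.isDomain_of_isRegularLocalRing _
  haveI := hd
  haveI : AlgebraicGeometry.IsReduced X := isReduced_of_isReduced_stalk X
  haveI : IsLocallyNoetherian X := LocallyOfFiniteType.isLocallyNoetherian p
  haveI : CompactSpace X := QuasiCompact.compactSpace_of_compactSpace p
  haveI : AlgebraicGeometry.IsNoetherian X := {}
  obtain ⟨x⟩ := (inferInstance : Nonempty X)
  have ho : IsOpen (irreducibleComponent x) :=
    Props12.isOpen_component hd (fun y => ⟨⊤, trivial, (NoetherianSpace.finite_irreducibleComponents).subset fun C hC => hC.1⟩)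
      (irreducibleComponent_mem_irreducibleComponents x)
  rcases isClopen_iff.1 (⟨isClosed_irreducibleComponent, ho⟩ : IsClopen (irreducibleComponent x)) with h | h
  · exact absurd (mem_irreducibleComponent (x := x)) (h ▸ Set.notMem_empty x)
  haveI : IrreducibleSpace X := by
    rw [irreducibleSpace_def, Set.top_eq_univ, ← h]
    exact isIrreducible_irreducibleComponent
  exact isIntegral_of_irreducibleSpace_of_isReduced X

section

variable {k : Type u} [Field k] {N : ℕ} {X : Scheme.{u}} [X.Over (Spec (CommRingCat.of k))]
  (ι : X ⟶ CohB1.ProjSpace N k) [IsClosedImmersion ι]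
  (hι : ι ≫ CohB1.ProjSpace.toSpec N k = X ↘ Spec (CommRingCat.of k))

include hι in
/-- Cohomology of the twists of a direct image. -/
theorem subsingleton_HH_push_tensor_iff (M : X.Modules) (hM : Coh.IsCoh M) (a : ℤ) (j : ℕ) :
    Subsingleton (Coh.HH (CohB1.ProjSpace N k) (CohB1.tensorMod ((Scheme.Modules.pushforward ι).obj M)
      (Twist.twistProjSpace N k a)) j) ↔
    Subsingleton (Coh.HH X (CohB1.tensorMod M ((Scheme.Modules.pullback ι).obj (Twist.twistProjSpace N k a))) j) := by
  haveI : IsProper ((CohB1.ProjSpace N k) ↘ Spec (CommRingCat.of k)) := isProper_projSpace_toSpec N k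
  haveI := isNoetherian_of_proper (k := k) (X := CohB1.ProjSpace N k)
  haveI := (isProper_and_ample_of_closedImmersion ι hι).1
  haveI := isNoetherian_of_proper (k := k) (X := X)
  have hinv := PicLoc.isInvertible_pullback ι (isInvertible_twist N k a)
  haveI := isIso_projHom (f := ι) (isFinLocFree_of_invertible (isInvertible_twist N k a)) M
  let B := CohB1.tensorMod M ((Scheme.Modules.pullback ι).obj (Twist.twistProjSpace N k a))
  haveI : Coh.IsQCoh B := (isCoh_twist hinv hM).1
  let e : CohB1.tensorMod ((Scheme.Modules.pushforward ι).obj M) (Twist.twistProjSpace N k a) ≅ (Coh.push ι).obj B :=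
    tensorComm _ _ ≪≫ asIso (projHom ι (Twist.twistProjSpace N k a) M) ≪≫
      (Scheme.Modules.pushforward ι).mapIso (tensorComm _ _)
  constructor
  · intro h
    haveI : Subsingleton (Coh.HH (CohB1.ProjSpace N k) ((Coh.push ι).obj B) j) := subsingleton_HH_of_iso k e.symm j
    exact (hpush ι k hι B j).toEquiv.subsingleton
  · intro h
    haveI : Subsingleton (Coh.HH (CohB1.ProjSpace N k) ((Coh.push ι).obj B) j) :=
      (hpush ι k hι B j).symm.toEquiv.subsingleton
    exact subsingleton_HH_of_iso k e j

include hι in
/-- `H^i(M(-m)) = 0` for `i ≤ a` and large `m` iff the depth of `M` at closed points exceeds `a`. -/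
theorem vanishing_closed_iff_depth {M : X.Modules} (hM : Coh.IsCoh M) (a : ℕ) :
    (∀ i : ℕ, i ≤ a → ∃ q : ℕ, ∀ m : ℕ, q ≤ m → Subsingleton
      (Coh.HH X (CohB1.tensorMod M ((Scheme.Modules.pullback ι).obj (Twist.twistProjSpace N k (-(m : ℤ))))) i)) ↔
    ∀ x : X, IsClosed ({x} : Set X) → (a : ℕ∞) < LocCoh.depth (X.presheaf.stalk x) (M.presheaf.stalk x) := by
  haveI : IsProper ((CohB1.ProjSpace N k) ↘ Spec (CommRingCat.of k)) := isProper_projSpace_toSpec N k
  haveI := isNoetherian_of_proper (k := k) (X := CohB1.ProjSpace N k)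
  haveI := (isProper_and_ample_of_closedImmersion ι hι).1
  haveI := isNoetherian_of_proper (k := k) (X := X)
  have hpc : Coh.IsCoh ((Scheme.Modules.pushforward ι).obj M) := isCoh_push_finite ι hM
  haveI := hpc.1
  have h := vanishing_iff_depth (n := N) (k := k) hpc a
  simp only [subsingleton_HH_push_tensor_iff ι hι M hM] at h
  refine h.trans ⟨fun H x hx => ?_, fun H y hy => ?_⟩
  · rw [← depth_push_stalk ι M x]
    refine H _ ?_
    simpa using ι.isClosedEmbedding.isClosedMap _ hx
  · by_cases hy' : y ∈ Set.range ι.base
    · obtain ⟨x, rfl⟩ := hy'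
      rw [depth_push_stalk ι M x]
      refine H x ?_
      have : ({x} : Set X) = ι.base ⁻¹' {ι.base x} := by
        ext z
        exact ⟨fun h => h ▸ rfl, fun h => ι.isClosedEmbedding.injective h⟩
      exact this ▸ hy.preimage ι.continuous
    · haveI : Subsingleton (((Scheme.Modules.pushforward ι).obj M).presheaf.stalk y) :=
        DCat.ClosedPush.subsingleton_stalk_push ι M y hy'
      haveI := Props12.finite_stalk_of_isFT _ hpc.2 y
      rw [CAlgH3.depth_eq_top_of_subsingleton]
      exact ENat.natCast_lt_top a

include hι in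
/-- Local freeness through cohomology of negative twists, for regular connected schemes. -/
theorem isFinLocFree_iff_vanishing_of_regular [ConnectedSpace X]
    (hreg : ∀ x : X, IsRegularLocalRing (X.presheaf.stalk x)) {d : ℕ}
    (hd : topologicalKrullDim X = (d : WithBot ℕ∞)) {M : X.Modules} (hM : Coh.IsCoh M) :
    FlatMod.IsFinLocFree M ↔ ∀ i : ℕ, i < d → ∃ q : ℕ, ∀ m : ℕ, q ≤ m → Subsingleton
      (Coh.HH X (CohB1.tensorMod M ((Scheme.Modules.pullback ι).obj (Twist.twistProjSpace N k (-(m : ℤ))))) i) := by
  haveI := (isProper_and_ample_of_closedImmersion ι hι).1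
  haveI := isNoetherian_of_proper (k := k) (X := X)
  haveI := isIntegral_of_regular_connected (X ↘ Spec (CommRingCat.of k)) hreg
  haveI := hM.1
  let p := X ↘ Spec (CommRingCat.of k)
  have hgen : ∀ z : X, (∀ w, w ⤳ z → z = w) → DimLib.ptDim p z = d := fun z hz => by
    have h := DimLib.topologicalKrullDim_eq_ptDim_genericPoint (X := X) p
    rw [hd] at h
    rw [hz _ (genericPoint_specializes z)]
    exact_mod_cast h.symm
  have hdim : ∀ x : X, IsClosed ({x} : Set X) → ringKrullDim (X.presheaf.stalk x) = (d : WithBot ℕ∞) := fun x hx => by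
    rw [ringKrullDim_stalk_eq_coheight, (FlatMor12.coheight_add_ptDim p d hgen x).2,
      (DimLib.ptDim_eq_zero_iff p x).2 hx, Nat.sub_zero]
    rfl
  have hfree : FlatMod.IsFinLocFree M ↔ ∀ x : X, IsClosed ({x} : Set X) →
      (d : ℕ∞) ≤ LocCoh.depth (X.presheaf.stalk x) (M.presheaf.stalk x) := by
    constructor
    · intro h x hx
      haveI := hreg x
      haveI := CAlgH3.isCohenMacaulayLocalRing_of_regular (X.presheaf.stalk x)
      haveI := Props12.finite_stalk_of_isFT M hM.2 x
      haveI := (RefHullLib.isFinLocFree_iff_free_stalks hM).1 h x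
      rcases subsingleton_or_nontrivial (M.presheaf.stalk x) with hs | hs
      · rw [CAlgH3.depth_eq_top_of_subsingleton]; exact le_top
      · have h1 : LocCoh.depth (X.presheaf.stalk x) (X.presheaf.stalk x) = (d : ℕ∞) := by
          have := LocCoh.IsCohenMacaulayLocalRing.supportDim_eq_depth (R := X.presheaf.stalk x)
          rw [Module.supportDim_self_eq_ringKrullDim, hdim x hx] at this
          exact_mod_cast this.symm
        exact h1.symm.le.trans (CAlgH3.depth_free (R := X.presheaf.stalk x) (M.presheaf.stalk x)).ge
    · intro h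
      refine isFinLocFree_of_free_closed_stalks M (Coherent.isFP_of_isCoh hM) fun x hx => ?_
      haveI := hreg x
      haveI := Props12.finite_stalk_of_isFT M hM.2 x
      refine CAlgH3.free_of_le_depth d _ ?_ _ (h x hx)
      have := IsRegularLocalRing.spanFinrank_maximalIdeal (R := X.presheaf.stalk x)
      rw [hdim x hx] at this
      exact_mod_cast this
  rw [hfree]
  rcases d with - | e
  · simp
  · have hv := vanishing_closed_iff_depth ι hι hM e
    constructor
    · intro h i hi
      exact hv.2 (fun x hx => lt_of_lt_of_le (ENat.natCast_lt_natCast.2 e.lt_succ_self) (h x hx)) i (by omega)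
    · intro h x hx
      exact Order.add_one_le_of_lt (hv.1 (fun i hi => h i (by omega)) x hx)

end

end Groth.Agent.SerreDual
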