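import Groth.Agent.Coherent.ProjSpaceFinite
import Groth.Agent.EulerLib.Scalar

/-!
# Multiplication by a homogeneous element between twisting sheaves
-/

set_option autoImplicit false

universe u

open CategoryTheory CategoryTheory.Limits AlgebraicGeometry TopologicalSpace Opposite
open Groth.Agent.Coherent

namespace Groth.Agent.SerreDual

variable {R A : Type u} [CommRing R] [CommRing A] [Algebra R A] {𝒜 : ℕ → Submodule R A}
  [GradedAlgebra 𝒜] {d e : ℤ} {m : ℕ}

theorem mul_mem_twistAt (a : 𝒜 m) (h : d + m = e) (x : ProjectiveSpectrum 𝒜) {q : Twist.Loc 𝒜 x}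
    (hq : q ∈ Twist.twistAt 𝒜 d x) : Localization.mk a.1 1 * q ∈ Twist.twistAt 𝒜 e x := by
  induction hq using Submodule.span_induction with
  | mem q hq =>
    obtain ⟨i, j, b, s, hs, hdeg, rfl⟩ := hq
    refine Submodule.subset_span ⟨m + i, j, ⟨a.1 * b.1, SetLike.mul_mem_graded a.2 b.2⟩, s, hs,
      by push_cast; omega, ?_⟩
    rw [Localization.mk_mul, one_mul]
  | zero => rw [mul_zero]; exact zero_mem _
  | add q r _ _ hq hr => rw [mul_add]; exact add_mem hq hr
  | smul c q _ hq =>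
    rw [Algebra.smul_def, mul_left_comm, ← Algebra.smul_def]
    exact Submodule.smul_mem _ _ hq

/-- Multiplication by `a` on sections. -/
noncomputable def mulSect (a : 𝒜 m) (h : d + m = e) {U : (Opens (ProjectiveSpectrum.top 𝒜))ᵒᵖ}
    (s : Twist.sectN (𝒜 := 𝒜) d U) : Twist.sectN (𝒜 := 𝒜) e U :=
  ⟨fun x => ⟨Localization.mk a.1 1 * (s.1 x).1, mul_mem_twistAt a h x.1 (s.1 x).2⟩, fun x => by
    obtain ⟨V, hxV, iV, i, j, b, t, nin, hdeg, hw⟩ := s.2 x
    refine ⟨V, hxV, iV, m + i, j, ⟨a.1 * b.1, SetLike.mul_mem_graded a.2 b.2⟩, t, nin, ?_, fun y => ?_⟩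
    · rcases hdeg with hd | hd
      · exact Or.inl (by push_cast; omega)
      · exact Or.inr (show a.1 * b.1 = 0 by rw [hd, mul_zero])
    · refine (congrArg (Localization.mk a.1 1 * ·) (hw y)).trans ?_
      rw [Localization.mk_mul, one_mul]⟩

theorem mulSect_val (a : 𝒜 m) (h : d + m = e) {U : (Opens (ProjectiveSpectrum.top 𝒜))ᵒᵖ}
    (s : Twist.sectN (𝒜 := 𝒜) d U) (x : U.unop) :
    ((mulSect a h s).1 x).1 = Localization.mk a.1 1 * (s.1 x).1 := rfl

/-- Multiplication by `a`, as a map of abelian presheaves. -/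
noncomputable def mulPre (a : 𝒜 m) (h : d + m = e) : Twist.twistPre 𝒜 d ⟶ Twist.twistPre 𝒜 e where
  app U := AddCommGrpCat.ofHom (X := Twist.sectN (𝒜 := 𝒜) d U) (Y := Twist.sectN (𝒜 := 𝒜) e U)
    { toFun := mulSect a h
      map_zero' := sectN_ext fun x => mul_zero _
      map_add' := fun s t => sectN_ext fun x => mul_add _ _ _ }
  naturality U V i := by
    ext s
    rfl

/-- Multiplication by a homogeneous element of degree `m`, `O(d) → O(d + m)`. -/
noncomputable def mulHom (a : 𝒜 m) (h : d + m = e) : Twist.twist 𝒜 d ⟶ Twist.twist 𝒜 e :=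
  ⟨PresheafOfModules.homMk (mulPre a h) fun U c s => sectN_ext fun x => by
    refine (congrArg (Localization.mk a.1 1 * ·) (oSmul_val (d := d) c s x)).trans ?_
    refine Eq.trans ?_ (oSmul_val (d := e) c (mulSect a h s) x).symm
    rw [mulSect_val]
    exact mul_left_comm _ _ _⟩

theorem mulHom_app_val (a : 𝒜 m) (h : d + m = e) (U : (Proj 𝒜).Opens)
    (s : Γ(Twist.twist 𝒜 d, U)) (x : (U : Opens (ProjectiveSpectrum.top 𝒜))) :
    ((show Twist.sectN (𝒜 := 𝒜) e (op U) from (mulHom a h).app U s).1 x).1 =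
      Localization.mk a.1 1 * ((show Twist.sectN (𝒜 := 𝒜) d (op U) from s).1 x).1 := rfl

theorem mulHom_add (a b : 𝒜 m) (h : d + m = e) : mulHom (a + b) h = mulHom a h + mulHom b h :=
  Scheme.Modules.hom_ext _ _ fun U => ConcreteCategory.hom_ext _ _ fun s => sectN_ext (d := e) fun x => by
    refine (mulHom_app_val (a + b) h U s x).trans ?_
    show Localization.mk (a.1 + b.1) 1 * _ = Localization.mk a.1 1 * _ + Localization.mk b.1 1 * _
    rw [← add_mul]
    congr 1
    simp only [Localization.mk_one_eq_algebraMap, map_add]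

end Groth.Agent.SerreDual
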