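import Groth.Agent.SerreDual.Trace
import Groth.Agent.SerreDual.Mul
import Groth.Agent.DimLib.ProjDim
import Groth.Agent.CurveLib.ProjLine

/-!
# `O(-n-1)` represents the dual of top cohomology of coherent modules on `P^n`
-/

set_option autoImplicit false
set_option linter.style.haveILetI false

universe u

open CategoryTheory CategoryTheory.Limits AlgebraicGeometry Opposite TopologicalSpace
open Groth.Agent.Coherent Groth.Agent.EulerLib Groth.Agent.PicLib

namespace Groth.Agent.SerreDual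

section General

variable (k : Type u) [Field k] {X : Scheme.{u}} [X.Over (Spec (CommRingCat.of k))]
  [AlgebraicGeometry.IsNoetherian X] [X.IsSeparated]

theorem stalk_map_germ {X : Scheme.{u}} {M N : X.Modules} (φ : M ⟶ N) (V : X.Opens) {y : X} (hy : y ∈ V)
    (c : Γ(M, V)) :
    (DerSch.stalkFunctor X y).map φ (M.presheaf.germ V y hy c) = N.presheaf.germ V y hy (φ.app V c) :=
  TopCat.Presheaf.stalkFunctor_map_germ_apply V y hy φ.mapPresheaf c

/-- A map which is surjective over a dense open set is surjective on top cohomology. -/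
theorem hmap_surjective_of_open [IrreducibleSpace X] {M N : X.Modules} [Coh.IsQCoh M] [Coh.IsQCoh N]
    (φ : M ⟶ N) (W : X.Opens) (hW : (W : Set X).Nonempty)
    (hφ : ∀ V : X.Opens, V ≤ W → Function.Surjective (φ.app V)) {d : ℕ}
    (hd : topologicalKrullDim X ≤ d) : Function.Surjective (hmap k φ d) := by
  let ι := Abelian.image.ι φ
  have hI : Coh.IsQCoh (Abelian.image φ) := isQCoh_image φ
  have hK : Coh.IsQCoh (kernel φ) := isQCoh_kernel φ
  have hQ : Coh.IsQCoh (cokernel φ) := isQCoh_cokernel φ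
  let S₁ : ShortComplex X.Modules := ShortComplex.mk (kernel.ι φ) (Abelian.factorThruImage φ) (by
    rw [← cancel_mono ι, Category.assoc, Abelian.image.fac, kernel.condition, zero_comp])
  have hS₁ : S₁.ShortExact :=
    { mono_f := inferInstanceAs (Mono (kernel.ι φ))
      epi_g := inferInstanceAs (Epi (Abelian.factorThruImage φ))
      exact := ShortComplex.exact_of_f_is_kernel _
        (isKernelOfComp (f := Abelian.factorThruImage φ) ι φ (kernelIsKernel φ) S₁.zero (Abelian.image.fac φ)) }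
  let S₂ : ShortComplex X.Modules :=
    ShortComplex.mk ι (cokernel.π φ) (kernel.condition (cokernel.π φ))
  have hS₂ : S₂.ShortExact :=
    { exact := ShortComplex.exact_of_f_is_kernel _ (kernelIsKernel (cokernel.π φ))
      mono_f := inferInstanceAs (Mono (kernel.ι (cokernel.π φ)))
      epi_g := inferInstanceAs (Epi (cokernel.π φ)) }
  have h1 : Function.Surjective (hmap k S₁.g d) :=
    hmap_surjective_of_shortExact k hS₁ d (subsingleton_HH_of_dim (kernel φ) hd (Nat.lt_succ_self d))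
  -- the cokernel lives off `W`
  have hsupp : CohB1.support (cokernel φ) ⊆ ((W : Set X))ᶜ := fun y hy hyW => hy
    (subsingleton_of_forall_eq 0 fun a => by
      obtain ⟨b, rfl⟩ :=
        (ModuleCat.epi_iff_surjective ((DerSch.stalkFunctor X y).map (cokernel.π φ))).1 inferInstance a
      obtain ⟨V, hV, s, hs⟩ := N.presheaf.exists_germ_eq b
      obtain ⟨c, hc⟩ := hφ (V ⊓ W) inf_le_right (N.presheaf.map (homOfLE (inf_le_left : V ⊓ W ≤ V)).op s)
      have hb : b = (DerSch.stalkFunctor X y).map φ (M.presheaf.germ (V ⊓ W) y ⟨hV, hyW⟩ c) := by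
        refine Eq.trans ?_ (stalk_map_germ φ (V ⊓ W) ⟨hV, hyW⟩ c).symm
        rw [hc, ← hs]
        exact (TopCat.Presheaf.germ_res_apply N.presheaf (homOfLE inf_le_left) y ⟨hV, hyW⟩ s).symm
      rw [hb]
      refine (stalk_comp_apply _ _ _).trans ?_
      rw [cokernel.condition]
      exact stalk_zero_apply _)
  have hlt : topologicalKrullDim ((W : Set X)ᶜ : Set X) < (d : WithBot ℕ∞) :=
    dim_lt_of_notMem W.2.isClosed_compl (Set.subset_univ _) isClosed_univ
      (genericPoint_spec X) (fun h => h (((genericPoint_spec X).mem_open_set_iff W.2).2 (by simpa using hW)))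
      ((Topology.IsInducing.subtypeVal.topologicalKrullDim_le).trans hd)
  have hQ0 : Subsingleton (Coh.HH X (cokernel φ) d) :=
    subsingleton_HH_of_support ⟨(W : Set X)ᶜ, W.2.isClosed_compl⟩ _ hQ hsupp d hlt
  have h2 : Function.Surjective (hmap k S₂.f d) := fun x => (exact_hmap k hS₂ d x).1 (hQ0.elim _ _)
  have e : hmap k φ d = hmap k S₂.f d ∘ₗ hmap k S₁.g d := by
    rw [← hmap_comp]
    exact congrArg (fun ψ => hmap k ψ d) (Abelian.image.fac φ).symm
  rw [e]
  exact h2.comp h1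

omit [AlgebraicGeometry.IsNoetherian X] [X.IsSeparated] in
theorem eq_zero_of_gens {L M : X.Modules} (φ : L ⟶ M) {ι : Type*} (U : ι → X.Opens) (hU : iSup U = ⊤)
    (τ : ∀ i, Γ(L, U i)) (hτ : ∀ i, PicLib.IsGen L (U i) (τ i)) (h : ∀ i, φ.app (U i) (τ i) = 0) :
    φ = 0 := by
  refine Scheme.Modules.hom_ext _ _ fun V => ConcreteCategory.hom_ext _ _ fun s => ?_
  refine TopCat.Sheaf.eq_of_locally_eq' (⟨M.presheaf, M.isSheaf⟩ : TopCat.Sheaf AddCommGrpCat.{u} X.toPresheafedSpace.carrier)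
    (fun i => V ⊓ U i) V (fun i => homOfLE inf_le_left) (fun x hx => ?_) _ _ fun i => ?_
  · obtain ⟨i, hi⟩ := TopologicalSpace.Opens.mem_iSup.1 (hU.ge (Set.mem_univ x))
    exact TopologicalSpace.Opens.mem_iSup.2 ⟨i, hx, hi⟩
  · obtain ⟨g, hg⟩ := ((hτ i) (V ⊓ U i) inf_le_right).2 (resM L inf_le_left s)
    show resM M (inf_le_left : V ⊓ U i ≤ V) (φ.app V s) = resM M (inf_le_left : V ⊓ U i ≤ V) 0
    rw [map_zero, ← app_resM, ← hg]
    refine (Scheme.Modules.Hom.app_smul φ g _).trans ?_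
    rw [app_resM, h i, map_zero, smul_zero]

omit [AlgebraicGeometry.IsNoetherian X] [X.IsSeparated] in
theorem surjective_app_of_gen {L M : X.Modules} (φ : L ⟶ M) {U : X.Opens} {τ : Γ(L, U)} {σ : Γ(M, U)}
    (hσ : PicLib.IsGen M U σ) {r : Γ(X, U)} (hr : φ.app U τ = r • σ) {V : X.Opens}
    (hV : V ≤ X.basicOpen r) : Function.Surjective (φ.app V) := fun s => by
  have hVU : V ≤ U := hV.trans (X.basicOpen_le r)
  obtain ⟨g, hg⟩ := (hσ V hVU).2 s
  have hu : IsUnit (PicLib.res hVU r) := by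
    have h1 := (RingedSpace.isUnit_res_basicOpen X.toRingedSpace r).map (X.presheaf.map (homOfLE hV).op).hom
    convert h1 using 1
    show X.presheaf.map _ r = X.presheaf.map _ (X.presheaf.map _ r)
    rw [← CommRingCat.comp_apply, ← Functor.map_comp]
    rfl
  obtain ⟨u, hu⟩ := hu
  refine ⟨(g * (↑u⁻¹ : Γ(X, V))) • resM L hVU τ, ?_⟩
  refine (Scheme.Modules.Hom.app_smul φ _ _).trans ?_
  rw [app_resM, hr, resM_smul, smul_smul, mul_assoc, ← hu, Units.inv_mul, mul_one]
  exact hg

end General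

variable {k : Type u} [Field k] {n : ℕ}

local notation "P" => CohB1.ProjSpace n k
local notation "𝒫" => CohB1.polyGrading n k
local notation "O'(" d ")" => Twist.twistProjSpace n k d

theorem mk_injective (x : ProjectiveSpectrum 𝒫) {a : MvPolynomial (Fin (n + 1)) k}
    {s : x.asHomogeneousIdeal.toIdeal.primeCompl} (h : Localization.mk a s = 0) : a = 0 := by
  haveI := x.isPrime
  rw [← Localization.mk_zero s, Localization.mk_eq_mk_iff, Localization.r_iff_exists] at h
  obtain ⟨c, hc⟩ := h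
  rw [mul_zero, mul_zero] at hc
  have hc0 : (c : MvPolynomial (Fin (n + 1)) k) ≠ 0 := fun e => c.2 (e ▸ x.asHomogeneousIdeal.toIdeal.zero_mem)
  have hs0 : (s : MvPolynomial (Fin (n + 1)) k) ≠ 0 := fun e => s.2 (e ▸ x.asHomogeneousIdeal.toIdeal.zero_mem)
  exact ((mul_eq_zero.1 ((mul_eq_zero.1 hc).resolve_left hc0)).resolve_left hs0)

/-- A section of `O(e)` vanishing on a nonempty open subset vanishes. -/
theorem eq_zero_of_resM {e : ℤ} {V W : (P).Opens} (h : W ≤ V)
    (hW : (W : Set P).Nonempty) (s : Γ(O'(e), V)) (hs : resM (O'(e)) h s = 0) : s = 0 := by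
  haveI := CurveLib.isIntegral_projSpace k n
  haveI : IrreducibleSpace ↥(P) := inferInstance
  refine sectN_ext (d := e) (U := op V) fun x => ?_
  obtain ⟨V', hxV', iV, i, j, a, t, nin, -, hw⟩ :=
    (show Twist.sectN (𝒜 := 𝒫) e (op V) from s).2 x
  let Q : Scheme.{u} := CohB1.ProjSpace n k
  let V₁ : Q.Opens := V'
  obtain ⟨y, hyV', hyW⟩ : ∃ y : Q, y ∈ V₁ ∧ y ∈ (W : Q.Opens) :=
    ⟨genericPoint Q, ((genericPoint_spec Q).mem_open_set_iff V₁.2).2 ⟨x.1, trivial, hxV'⟩,
      ((genericPoint_spec Q).mem_open_set_iff (W : Q.Opens).2).2 (by simpa using hW)⟩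
  have h0 : Localization.mk a.1 (⟨t.1, nin ⟨y, hyV'⟩⟩ : y.asHomogeneousIdeal.toIdeal.primeCompl) = 0 :=
    (hw ⟨y, hyV'⟩).symm.trans
      (congrArg (fun z => ((show Twist.sectN (𝒜 := 𝒫) e (op W) from z).1 ⟨y, hyW⟩).1) hs)
  have ha : a.1 = 0 := mk_injective y h0
  refine (hw ⟨x.1, hxV'⟩).trans ?_
  rw [ha, Localization.mk_zero]
  rfl

theorem mulHom_eq_zero_iff {d e : ℤ} {m : ℕ} (a : ↥(CohB1.polyGrading n k m)) (h : d + m = e) :
    mulHom (𝒜 := 𝒫) a h = 0 ↔ a = 0 := by
  constructor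
  · intro h0
    let i : Fin (n + 1) := 0
    obtain ⟨y, hy⟩ : ∃ y : ProjectiveSpectrum 𝒫, y ∈ (DX n k i : Opens (ProjectiveSpectrum.top 𝒫)) := by
      obtain ⟨η, hη⟩ := DimLib.PN.exists_point (n := n) (k := k) Ideal.isPrime_bot
        DimLib.PN.bot_isHomogeneous DimLib.PN.bot_ne_m0
      refine ⟨η, fun h => MvPolynomial.X_ne_zero (R := k) i ?_⟩
      have h' : (MvPolynomial.X i : MvPolynomial (Fin (n + 1)) k) ∈ η.asHomogeneousIdeal.toIdeal := h
      rwa [hη, Ideal.mem_bot] at h'
    let τ := tauSec (ProjLib.X_mem_polyGrading n k i) d (DX n k i) le_rfl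
    have h1 := congrArg (fun ψ : O'(d) ⟶ O'(e) =>
      ((show Twist.sectN (𝒜 := 𝒫) e (op (DX n k i)) from ψ.app (DX n k i) τ).1 ⟨y, hy⟩).1) h0
    have h2 : Localization.mk a.1 1 * ((τ.1 ⟨y, hy⟩).1) = 0 := h1
    rw [tauSec_val, Localization.mk_mul] at h2
    have h3 := (mul_eq_zero.1 (mk_injective y h2)).resolve_right
      (pow_ne_zero _ (MvPolynomial.X_ne_zero i))
    exact Subtype.ext h3
  · rintro rfl
    refine Scheme.Modules.hom_ext _ _ fun U => ConcreteCategory.hom_ext _ _ fun s => sectN_ext (d := e) fun x => ?_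
    show Localization.mk (0 : MvPolynomial (Fin (n + 1)) k) 1 * _ = 0
    rw [Localization.mk_zero, zero_mul]

/-- Scalars act on `mulHom` through the global functions. -/
theorem mulHom_smul {d e : ℤ} {m : ℕ} (a : ↥(CohB1.polyGrading n k m)) (h : d + m = e) (c : k) :
    mulHom (𝒜 := 𝒫) (c • a) h =
      smulMod (O'(d)) (Coh.toGlobal ((P) ↘ Spec (CommRingCat.of k)) c) ≫ mulHom (𝒜 := 𝒫) a h := by
  refine Scheme.Modules.hom_ext _ _ fun U => ConcreteCategory.hom_ext _ _ fun s => sectN_ext (d := e) fun x => ?_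
  let g : Twist.O (𝒜 := 𝒫) (op ⊤) := Coh.toGlobal ((P) ↘ Spec (CommRingCat.of k)) c
  show Localization.mk (c • a.1) 1 * ((show Twist.sectN (𝒜 := 𝒫) d (op U) from s).1 x).1 =
    Localization.mk a.1 1 * ((oSmul (d := d) (⟨fun z => g.1 ⟨z.1, trivial⟩, _⟩ : Twist.O (𝒜 := 𝒫) (op U)) s).1 x).1
  rw [oSmul_val, ← mul_assoc]
  congr 1
  refine Eq.trans ?_ (congrArg (Localization.mk a.1 1 * ·) (val_toGlobal n k c x.1)).symm
  rw [Localization.mk_mul, one_mul, MvPolynomial.smul_eq_C_mul, mul_comm]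

theorem hmap_smulMod {X : Scheme.{u}} [X.Over (Spec (CommRingCat.of k))] (M : X.Modules) (q : ℕ) (c : k) :
    hmap k (smulMod M (Coh.toGlobal (X ↘ Spec (CommRingCat.of k)) c)) q = c • LinearMap.id :=
  LinearMap.ext fun x => by
    refine (hmap_eq k _ q x).trans ?_
    show _ = Sheaf.H.map (Coh.smulAb M (Coh.toGlobal (X ↘ Spec (CommRingCat.of k)) c)) q x
    congr 1

/-- The chart generator of `O(d)`. -/
noncomputable def chartGen (d : ℤ) (i : Fin (n + 1)) : Γ(O'(d), DP n k i) :=
  tauSec (ProjLib.X_mem_polyGrading n k i) d (DX n k i) le_rfl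

theorem mul_eq_left_of {B : Type*} [CommRing B] (a : B) {b : B} (h : b = 1) : a * b = a := by
  rw [h, mul_one]

theorem isGen_chartGen (d : ℤ) (i : Fin (n + 1)) :
    PicLib.IsGen (O'(d)) (DP n k i) (chartGen (n := n) (k := k) d i) :=
  fun V h => smul_tauSec_bijective (ProjLib.X_mem_polyGrading n k i) d V h

variable (t : Coh.HH (CohB1.ProjSpace n k) (Twist.twistProjSpace n k (-((n : ℤ) + 1))) n →ₗ[k] k)

/-- Twists negative enough are represented. -/
theorem rep_twist (ht : Function.Injective t) (m : ℕ) : Rep t (O'(-((n : ℤ) + 1 + m))) := by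
  have := CurveLib.isIntegral_projSpace k n
  haveI : IsProper ((P) ↘ Spec (CommRingCat.of k)) := isProper_projSpace_toSpec n k
  haveI := isNoetherian_of_proper (k := k) (X := P)
  haveI : (P).IsSeparated := inferInstanceAs (Proj 𝒫).IsSeparated
  haveI := isQCoh_twistProjSpace (n := n) (R := k) (-((n : ℤ) + 1))
  haveI := isQCoh_twistProjSpace (n := n) (R := k) (-((n : ℤ) + 1 + m))
  -- injectivity
  have hinj : Function.Injective (theta t (O'(-((n : ℤ) + 1 + m)))) := by
    refine (injective_iff_map_eq_zero _).2 fun φ hφ => ?_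
    by_contra hne
    obtain ⟨i, hi⟩ : ∃ i : Fin (n + 1),
        φ.app (DP n k i) (chartGen (n := n) (k := k) (-((n : ℤ) + 1 + m)) i) ≠ 0 := by
      by_contra hall
      simp only [not_exists, not_not] at hall
      exact hne (eq_zero_of_gens φ (fun i => DP n k i) (projPowCover n k).cover _
        (fun i => isGen_chartGen _ i) hall)
    obtain ⟨r, hr⟩ := (isGen_chartGen (n := n) (k := k) (-((n : ℤ) + 1)) i _ le_rfl).2
      (φ.app (DP n k i) (chartGen (n := n) (k := k) (-((n : ℤ) + 1 + m)) i))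
    rw [resM_self] at hr
    let W : (P).Opens := (P).basicOpen r
    have hWne : (W : Set (P : Scheme.{u})).Nonempty := by
      refine Set.nonempty_iff_ne_empty.2 fun he => hi ?_
      have hr0 : r = 0 := AlgebraicGeometry.eq_zero_of_basicOpen_eq_bot _ (TopologicalSpace.Opens.ext he)
      rw [← hr]
      show r • _ = _
      rw [hr0, zero_smul]
    have hsurj : ∀ V : (P).Opens, V ≤ W → Function.Surjective (φ.app V) := fun V hV =>
      surjective_app_of_gen φ (isGen_chartGen _ i) hr.symm hV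
    have hs := hmap_surjective_of_open k φ W hWne hsurj
      (DimLib.PN.topologicalKrullDim_projSpace n k).le
    obtain ⟨e⟩ := nonempty_HH_top_twist (n := n) (R := k) 0
    obtain ⟨z, hz⟩ : ∃ z : Coh.HH P (O'(-((n : ℤ) + 1))) n, z ≠ 0 := by
      rw [show (-((n : ℤ) + 1 + (0 : ℕ))) = -((n : ℤ) + 1) by simp] at e
      refine ⟨e.symm ⟨1, MvPolynomial.isHomogeneous_one _ _⟩, fun h0 => ?_⟩
      have := congrArg (fun z => (e z : MvPolynomial (Fin (n + 1)) k)) h0
      simp at this
    obtain ⟨w, rfl⟩ := hs z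
    exact hz (ht (((LinearMap.congr_fun hφ w)).trans (map_zero t).symm))
  refine ⟨hinj, fun ψ => ?_⟩
  let g : MvPolynomial.homogeneousSubmodule (Fin (n + 1)) k m →ₗ[k]
      Module.Dual k (Coh.HH P (O'(-((n : ℤ) + 1 + m))) n) :=
    { toFun := fun a => theta t _ (mulHom (𝒜 := 𝒫) a (by ring))
      map_add' := fun a b => by rw [mulHom_add]; exact map_add _ _ _
      map_smul' := fun c a => by
        refine (congrArg (theta t _) (mulHom_smul a _ c)).trans ?_
        refine (theta_comp t _ _).trans ?_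
        refine (congrArg (theta t _ (mulHom (𝒜 := 𝒫) a _) ∘ₗ ·) (hmap_smulMod (X := P) _ n c)).trans ?_
        exact LinearMap.ext fun x => (theta t _ _).map_smul c x }
  have hg : Function.Injective g := (injective_iff_map_eq_zero _).2 fun a ha =>
    (mulHom_eq_zero_iff a _).1 (hinj (ha.trans (map_zero _).symm))
  obtain ⟨e⟩ := nonempty_HH_top_twist (n := n) (R := k) m
  haveI : Module.Finite k (MvPolynomial.homogeneousSubmodule (Fin (n + 1)) k m) :=
    Module.Finite.iff_fg.2 (MvPolynomial.homogeneousSubmodule_fg (Fin (n + 1)) k m)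
  haveI := Module.Finite.equiv e.symm
  have hdim : Module.finrank k (MvPolynomial.homogeneousSubmodule (Fin (n + 1)) k m) =
      Module.finrank k (Module.Dual k (Coh.HH P (O'(-((n : ℤ) + 1 + m))) n)) := by
    rw [Subspace.dual_finrank_eq, e.finrank_eq]
  obtain ⟨a, ha⟩ := (LinearMap.injective_iff_surjective_of_finrank_eq_finrank hdim).1 hg ψ
  exact ⟨_, ha⟩

/-- A trace on `H^n(O(-n-1))`. -/
theorem exists_trace : ∃ t : Coh.HH P (O'(-((n : ℤ) + 1))) n →ₗ[k] k, Function.Injective t := by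
  obtain ⟨e⟩ := nonempty_HH_top_twist (n := n) (R := k) 0
  rw [show (-((n : ℤ) + 1 + (0 : ℕ))) = -((n : ℤ) + 1) by simp] at e
  refine ⟨(MvPolynomial.lcoeff k 0).comp ((Submodule.subtype _).comp e.toLinearMap), fun x y h => ?_⟩
  refine e.injective (Subtype.ext ?_)
  have hc : ∀ p : MvPolynomial.homogeneousSubmodule (Fin (n + 1)) k 0,
      (p : MvPolynomial (Fin (n + 1)) k) = MvPolynomial.C (MvPolynomial.coeff 0 p.1) := fun p =>
    MvPolynomial.totalDegree_eq_zero_iff_eq_C.mp
      ((MvPolynomial.totalDegree_zero_iff_isHomogeneous _).2 ((MvPolynomial.mem_homogeneousSubmodule 0 _).mp p.2))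
  rw [hc (e x), hc (e y)]
  exact congrArg MvPolynomial.C h

/-- All coherent modules on `P^n` are represented. -/
theorem rep_coh (ht : Function.Injective t) {F : (P).Modules} (hF : Coh.IsCoh F) : Rep t F := by
  haveI := hasFiniteBiproducts (P)
  haveI : IsProper ((P) ↘ Spec (CommRingCat.of k)) := isProper_projSpace_toSpec n k
  haveI := isNoetherian_of_proper (k := k) (X := P)
  have hcov : ∀ {M : (P).Modules}, Coh.IsCoh M → ∃ (E : (P).Modules) (p : E ⟶ M),
      Epi p ∧ Coh.IsCoh E ∧ Rep t E := by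
    intro M hM
    haveI : Coh.IsQCoh M := hM.1
    obtain ⟨N₀, hN₀⟩ := (projPowCover n k).exists_epi hM
    obtain ⟨r, π, hπ⟩ := hN₀ (n + 1 + N₀) (by omega) _ (twistGens n k (n + 1 + N₀))
    haveI := isQCoh_twistProjSpace (n := n) (R := k) (-((n + 1 + N₀ : ℕ) : ℤ))
    refine ⟨_, π, hπ, isCoh_biproduct _ fun _ => isCoh_of_gens (twistGens n k (n + 1 + N₀)),
      Rep.biproduct t fun _ => ?_⟩
    rw [show (-((n + 1 + N₀ : ℕ) : ℤ)) = -((n : ℤ) + 1 + N₀) by push_cast; ring]
    exact rep_twist t ht N₀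
  haveI : Coh.IsQCoh F := hF.1
  obtain ⟨E, p, hp, hE, hrep⟩ := hcov hF
  have hK : Coh.IsCoh (kernel p) := isCoh_kernel p hE hF.1
  haveI : Coh.IsQCoh (kernel p) := hK.1
  obtain ⟨E', p', hp', -, hrep'⟩ := hcov hK
  have hS : (ShortComplex.mk (kernel.ι p) p (kernel.condition p)).ShortExact :=
    { exact := ShortComplex.exact_of_f_is_kernel _ (kernelIsKernel p), mono_f := inferInstance, epi_g := hp }
  exact Rep.of_shortExact t hS (theta_injective_of_epi t p' hrep'.1) hrep
    (subsingleton_HH_projSpace_of_lt _ (n + 1) (Nat.lt_succ_self n))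

end Groth.Agent.SerreDual
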