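import Groth.Prelude.Def_QCohCat
import Groth.Agent.Coherent.SubFTApps
import Groth.Agent.Coherent.FinMor
import Groth.Agent.Coherent.FinitePres
import Groth.Agent.AffSchLib.TildeExact
import Groth.Agent.DCat.ModulesGrothendieck
import Mathlib.CategoryTheory.Adjunction.AdjointFunctorTheorems
import Mathlib.CategoryTheory.Abelian.Subobject
import Mathlib.CategoryTheory.Abelian.GrothendieckCategory.Basic

/-!
# Quasi-coherent modules on a qcqs scheme: colimits and a small separating set
-/

set_option autoImplicit false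
set_option linter.style.haveILetI false

universe u u'

open CategoryTheory CategoryTheory.Limits AlgebraicGeometry Opposite TopologicalSpace
open Groth.Agent.Coherent

namespace Groth.Agent.SerreDual

variable (X : Scheme.{u})

theorem isQCoh_colimit {J : Type u} [SmallCategory J] (F : J ⥤ X.Modules)
    (hF : ∀ j, Coh.IsQCoh (F.obj j)) : Coh.IsQCoh (colimit F) := by
  refine isQCoh_of_openImmersion_cover (colimit F) (fun U : X.affineOpens => U.2.fromSpec) (fun x => ?_)
    fun U => ?_
  · obtain ⟨V, hV, hxV, -⟩ := Opens.isBasis_iff_nbhd.mp X.isBasis_affineOpens (Opens.mem_top x)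
    exact ⟨⟨V, hV⟩, by rwa [IsAffineOpen.opensRange_fromSpec]⟩
  · haveI : PreservesColimitsOfSize.{u, u} (Scheme.Modules.restrictFunctor U.2.fromSpec) :=
      (Scheme.Modules.restrictAdjunction U.2.fromSpec).leftAdjoint_preservesColimits
    haveI : Coh.IsQCoh (colimit (F ⋙ Scheme.Modules.restrictFunctor U.2.fromSpec)) :=
      AffSchLib.isQuasicoherent_colimit (Γ(X, U.1)) _ fun j => by
        haveI := hF j
        exact inferInstanceAs (((Scheme.Modules.restrictFunctor U.2.fromSpec).obj (F.obj j)).IsQuasicoherent)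
    exact isQCoh_of_iso (preservesColimitIso (Scheme.Modules.restrictFunctor U.2.fromSpec) F).symm

instance closedUnderColimits_qcoh (J : Type u) [SmallCategory J] :
    (QCohCat.isQCoh X).IsClosedUnderColimitsOfShape J where
  colimitsOfShape_le := fun M ⟨h⟩ => by
    exact isQCoh_of_iso ((colimit.isColimit h.diag).coconePointUniqueUpToIso h.isColimit)
      (h := isQCoh_colimit X h.diag h.prop_diag_obj)

instance hasColimits_qcoh : HasColimitsOfSize.{u, u} (QCohCat.QCoh X) :=
  ⟨fun _ _ => inferInstance⟩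

instance preservesColimits_ι : PreservesColimitsOfSize.{u, u} (QCohCat.isQCoh X).ι :=
  ⟨fun {_} _ => inferInstance⟩

theorem wellPowered_qcoh_op : WellPowered.{u} (QCohCat.QCoh X)ᵒᵖ := by
  refine ⟨fun M => ?_⟩
  haveI : ∀ {A B : (QCohCat.QCoh X)ᵒᵖ} (f : A ⟶ B) [Mono f], Mono ((QCohCat.isQCoh X).ι.op.map f) :=
    fun f _ => (inferInstance : Mono ((QCohCat.isQCoh X).ι.map f.unop).op)
  refine small_of_injective (f := fun S : Subobject M =>
    Subobject.mk ((QCohCat.isQCoh X).ι.op.map S.arrow)) fun S T h => ?_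
  refine Subobject.eq_of_comm
    ((QCohCat.isQCoh X).ι.op.preimageIso (Subobject.isoOfMkEqMk _ _ h)) ?_
  apply (QCohCat.isQCoh X).ι.op.map_injective
  rw [Functor.map_comp, Functor.preimageIso_hom, Functor.map_preimage]
  exact Subobject.ofMkLEMk_comp h.le

variable [CompactSpace X] [QuasiSeparatedSpace X]

/-- Finite type quasi-coherent modules. -/
def isFTQ : ObjectProperty (QCohCat.QCoh X) := fun G => CohB1.IsFT G.obj

theorem isSeparating_isFTQ : (isFTQ X).IsSeparating := by
  intro M N f g h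
  refine ObjectProperty.hom_ext _ (Scheme.Modules.hom_ext _ _ fun V => ConcreteCategory.hom_ext _ _ fun s => ?_)
  haveI : Coh.IsQCoh M.obj := M.property
  refine TopCat.Sheaf.eq_of_locally_eq'
    (⟨N.obj.presheaf, N.obj.isSheaf⟩ : TopCat.Sheaf AddCommGrpCat.{u} X.toPresheafedSpace.carrier)
    (fun U : {U : X.affineOpens // U.1 ≤ V} => U.1.1) V (fun U => homOfLE U.2) (fun x hx => ?_) _ _ fun U => ?_
  · obtain ⟨U, hU, hxU, hUV⟩ := Opens.isBasis_iff_nbhd.mp X.isBasis_affineOpens hx
    exact TopologicalSpace.Opens.mem_iSup.2 ⟨⟨⟨U, hU⟩, hUV⟩, hxU⟩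
  obtain ⟨Q, hQ, hs⟩ := exists_good_containing_qcqs (F := M.obj) (U := U.1.1) U.1.2.isCompact
    (I := PUnit.{u + 1}) (fun _ => resM M.obj U.2 s)
  let G : QCohCat.QCoh X := ⟨Q.toMod, SubM.isQCoh hQ⟩
  have e := congrArg (fun z : G ⟶ N => z.hom.app U.1.1 ⟨_, hs ⟨⟩⟩)
    (h G (SubM.isFT hQ) (ObjectProperty.homMk Q.toι))
  show resM N.obj U.2 (f.hom.app V s) = resM N.obj U.2 (g.hom.app V s)
  rw [← app_resM, ← app_resM]
  exact e

theorem nonempty_cokernel_iso {C : Type*} [Category C] [Abelian C] {A G : C} (p : A ⟶ G) [Epi p]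
    (S : Subobject A) (hS : S = kernelSubobject p) : Nonempty (cokernel S.arrow ≅ G) := by
  subst hS
  exact ⟨cokernelIsoOfEq (kernelSubobject_arrow p).symm ≪≫ cokernelEpiComp _ _ ≪≫
    (cokernelIsCokernel _).coconePointUniqueUpToIso (Abelian.epiIsCokernelOfKernel _ (kernelIsKernel p))⟩

omit [QuasiSeparatedSpace X] in
/-- Finite type quasi-coherent modules form a set up to isomorphism. -/
theorem essentiallySmall_isFTQ : ObjectProperty.EssentiallySmall.{u} (isFTQ X) := by
  classical
  haveI := hasFiniteBiproducts X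
  obtain ⟨t, ht, hcov⟩ := isCompact_iff_finite_and_eq_biUnion_affineOpens.1
    (show IsCompact ((⊤ : X.Opens) : Set X) from isCompact_univ)
  haveI := ht.to_subtype
  obtain ⟨m, ⟨e⟩⟩ := Finite.exists_equiv_fin t
  let U : Fin m → X.Opens := fun i => (e.symm i).1.1
  let B : (n : Fin m → ℕ) → (∀ i, Shrink.{u} (Subobject (Coherent.freeMod (U i : Scheme.{u}) (ULift.{u} (Fin (n i)))))) →
      X.Modules := fun n S => ⨁ fun i => (Coh.push (U i).ι).obj (cokernel ((equivShrink _).symm (S i)).arrow)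
  let idx := Σ (n : Fin m → ℕ) (S : ∀ i, Shrink.{u} (Subobject (Coherent.freeMod (U i : Scheme.{u}) (ULift.{u} (Fin (n i)))))),
    Shrink.{u} (Subobject (B n S))
  let Idx := {a : idx // Coh.IsQCoh (((equivShrink _).symm a.2.2 : Subobject (B a.1 a.2.1)) : X.Modules)}
  let E : Idx → QCohCat.QCoh X := fun a => ⟨(((equivShrink _).symm a.1.2.2 : Subobject (B a.1.1 a.1.2.1)) : X.Modules), a.2⟩
  refine ⟨⟨ObjectProperty.ofObj E, inferInstance, fun G hG => ?_⟩⟩
  haveI : Coh.IsQCoh G.obj := G.property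
  have hGc : Coh.IsCoh G.obj := ⟨G.property, hG⟩
  have hloc : ∀ i, ∃ (n : ℕ) (p : Coherent.freeMod (U i : Scheme.{u}) (ULift.{u} (Fin n)) ⟶ G.obj.restrict (U i).ι),
      Epi p := fun i => by
    haveI : IsAffine (U i : Scheme.{u}) := (e.symm i).1.2
    have hc := isCoh_restrict (U i) hGc
    haveI : Coh.IsQCoh (G.obj.restrict (U i).ι) := hc.1
    obtain ⟨n, s, hs⟩ := (((isCoh_iff_finite_sections _).1 hc).2 ⊤ (isAffineOpen_top _)).exists_fin
    refine ⟨n, freeDesc fun j => unitDesc (G.obj.restrict (U i).ι) (s j.down),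
      epi_of_genOn_top (genOn_of_span_top _ (isAffineOpen_top _) (fun j : ULift.{u} (Fin n) => s j.down) ?_)⟩
    rw [← hs]
    exact congrArg _ (Equiv.ulift.surjective.range_comp s)
  choose n p hp using hloc
  let S : ∀ i, Shrink.{u} (Subobject (Coherent.freeMod (U i : Scheme.{u}) (ULift.{u} (Fin (n i))))) := fun i =>
    equivShrink _ (kernelSubobject (p i))
  have q : ∀ i, Nonempty (cokernel ((equivShrink _).symm (S i)).arrow ≅ G.obj.restrict (U i).ι) := fun i =>
    haveI := hp i
    nonempty_cokernel_iso (p i) _ (Equiv.symm_apply_apply _ _)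
  let q := fun i => q i
  let u₀ : G.obj ⟶ B n S := biproduct.lift fun i =>
    (Scheme.Modules.restrictAdjunction (U i).ι).unit.app G.obj ≫
      (Coh.push (U i).ι).map (q i).some.inv
  haveI : Mono u₀ := by
    refine Preadditive.mono_of_cancel_zero _ fun {P} g hg => ?_
    refine Scheme.Modules.hom_ext _ _ fun V => ConcreteCategory.hom_ext _ _ fun a => ?_
    refine TopCat.Sheaf.eq_of_locally_eq'
      (⟨G.obj.presheaf, G.obj.isSheaf⟩ : TopCat.Sheaf AddCommGrpCat.{u} X.toPresheafedSpace.carrier)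
      (fun i => (U i).ι ''ᵁ (U i).ι ⁻¹ᵁ V) V (fun i => homOfLE ((U i).ι.image_preimage_le V))
      (fun x hx => ?_) _ _ fun i => ?_
    · have hxt : x ∈ ⋃ W ∈ t, ((W : X.affineOpens) : Set X) := by
        have := hcov.le (Opens.mem_top x)
        simpa using this
      obtain ⟨W, hWt, hxW⟩ := Set.mem_iUnion₂.1 hxt
      refine TopologicalSpace.Opens.mem_iSup.2 ⟨e ⟨W, hWt⟩, ⟨x, ?_⟩, hx, rfl⟩
      show x ∈ (e.symm (e ⟨W, hWt⟩)).1.1
      rwa [Equiv.symm_apply_apply]
    · have h1 := congrArg (fun z => z ≫ biproduct.π _ i) hg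
      simp only [u₀, Category.assoc, biproduct.lift_π, zero_comp] at h1
      rw [← Category.assoc, ← IsIso.eq_comp_inv, zero_comp] at h1
      have h2 := congrArg (fun z => z.app V a) h1
      exact h2.trans (map_zero _).symm
  refine ⟨E ⟨⟨n, S, equivShrink _ (Subobject.mk u₀)⟩, ?_⟩, ⟨_⟩, ⟨?_⟩⟩
  · simp only [Equiv.symm_apply_apply]
    exact isQCoh_of_iso (Subobject.underlyingIso u₀).symm
  · refine (QCohCat.isQCoh X).isoMk ?_
    exact (Subobject.underlyingIso u₀).symm ≪≫ eqToIso (by simp [E])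

/-- The adjoint functor theorem for quasi-coherent modules. -/
theorem isLeftAdjoint_qcoh {A : Type u'} [Category.{u} A] (F : QCohCat.QCoh X ⥤ A)
    [PreservesColimitsOfSize.{u, u} F] : F.IsLeftAdjoint := by
  haveI := essentiallySmall_isFTQ X
  haveI := wellPowered_qcoh_op X
  obtain ⟨Q, hQ, hQle, hle⟩ := ObjectProperty.EssentiallySmall.exists_small_le (isFTQ X)
  refine isLeftAdjoint_of_preservesColimits_of_isSeparating (P := Q) ?_ F
  intro M N f g h
  refine isSeparating_isFTQ X f g fun G hG k => ?_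
  obtain ⟨G', hG', ⟨i⟩⟩ := hle G hG
  have := h G' hG' (i.inv ≫ k)
  rwa [Category.assoc, Category.assoc, cancel_epi] at this

end Groth.Agent.SerreDual
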