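import Groth.Agent.AmpleLib.Ample
import Groth.Agent.AmpleLib.GenLocus
import Groth.Agent.MorProj.QuasiAff
import Groth.Agent.UPLib.ProjSpace
import Groth.Agent.PnEmb.Criterion
import Groth.Agent.ProjLib.ProjSpace
import Groth.Agent.EulerLib.Degree
import Groth.Agent.Coherent.ProjSpaceFinite

/-!
# Finite morphisms to projective space of the same dimension
-/

set_option autoImplicit false
set_option linter.style.haveILetI false
set_option backward.isDefEq.respectTransparency.types false

universe u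

open CategoryTheory CategoryTheory.Limits AlgebraicGeometry Opposite TopologicalSpace
open Groth.Agent.Coherent Groth.Agent.PicLib Groth.Agent.AmpleLib Groth.Agent.EulerLib

namespace Groth.Agent.SerreDual

theorem le_of_lt_succ {x : WithBot ℕ∞} {r : ℕ} (h : x < ((r + 1 : ℕ) : WithBot ℕ∞)) :
    x ≤ ((r : ℕ) : WithBot ℕ∞) := by
  induction x with
  | bot => exact bot_le
  | coe a =>
    have h' : a < ((r + 1 : ℕ) : ℕ∞) := WithBot.coe_lt_coe.1 h
    push_cast at h'
    exact WithBot.coe_le_coe.2 (ENat.lt_add_one_iff (ENat.coe_ne_top r) |>.1 h')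

variable {X : Scheme.{u}} {L : X.Modules}

/-- `r` sections of powers of an ample module cover a closed set of dimension less than `r`. -/
theorem exists_powers_cover [NoetherianSpace X] (hL : CohB1.IsAmple L) : ∀ (r : ℕ) (Z : Set X),
    IsClosed Z → (∀ z ∈ Z, topologicalKrullDim (closure ({z} : Set X)) < (r : ℕ)) →
    ∃ (m : Fin r → ℕ) (b : ∀ i, Γ(CohB1.tensorPow L (m i), ⊤)), (∀ i, 0 < m i) ∧
      ∀ z ∈ Z, ∃ i, z ∈ glocus _ (b i)
  | 0, Z, _, h => by
    refine ⟨fun i => i.elim0, fun i => i.elim0, fun i => i.elim0, fun z hz => ?_⟩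
    have h1 := h z hz
    have : (0 : WithBot ℕ∞) ≤ topologicalKrullDim (closure ({z} : Set X)) := by
      haveI : Nonempty (IrreducibleCloseds (closure ({z} : Set X))) :=
        ⟨⟨Set.univ, (irreducibleSpace_def _).1
          (Subtype.irreducibleSpace isIrreducible_singleton.closure), isClosed_univ⟩⟩
      exact Order.krullDim_nonneg
    exact absurd (lt_of_le_of_lt this h1) (by simp)
  | r + 1, Z, hZ, h => by
    classical
    obtain ⟨S, hSf, hSc, hSi, hZS⟩ := NoetherianSpace.exists_finite_set_isClosed_irreducible hZ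
    choose g hg using fun C : S => QuasiSober.sober (hSi C.1 C.2) (hSc C.1 C.2)
    haveI := hSf.to_subtype
    obtain ⟨m₀, hm₀, b₀, hb₀, -, -⟩ :=
      exists_affine_glocus_finite (U := (⊤ : X.Opens)) hL (Set.range g) (Set.finite_range g) (fun _ _ => trivial)
    let Z' : Set X := Z ∩ ((glocus _ b₀ : X.Opens) : Set X)ᶜ
    obtain ⟨m, b, hm, hb⟩ := exists_powers_cover hL r Z' (hZ.inter (glocus _ b₀).2.isClosed_compl)
      fun z hz => by
        obtain ⟨C, hC, hzC⟩ : z ∈ ⋃₀ S := hZS ▸ hz.1
        have hgC : closure ({g ⟨C, hC⟩} : Set X) = C := hg ⟨C, hC⟩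
        have hgZ : g ⟨C, hC⟩ ∈ Z := by
          rw [hZS]; exact ⟨C, hC, hgC.le (subset_closure rfl)⟩
        have hle : topologicalKrullDim C ≤ (r : ℕ) := by
          have h1 := h _ hgZ
          rw [hgC] at h1
          exact le_of_lt_succ h1
        refine dim_lt_of_notMem isClosed_closure (closure_minimal (Set.singleton_subset_iff.2 hzC) (hSc C hC))
          (hSc C hC) hgC (fun hin => hz.2 ?_) hle
        exact (specializes_iff_mem_closure.2 hin).mem_open (glocus _ b₀).2 (hb₀ ⟨⟨C, hC⟩, rfl⟩)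
    refine ⟨Fin.cons m₀ m, Fin.cons b₀ b, Fin.cases hm₀ hm, fun z hz => ?_⟩
    by_cases hz0 : z ∈ glocus _ b₀
    · exact ⟨0, hz0⟩
    · obtain ⟨i, hi⟩ := hb z ⟨hz, hz0⟩
      exact ⟨i.succ, hi⟩

variable (k : Type u) [Field k] [X.Over (Spec (CommRingCat.of k))]
  [IsProper (X ↘ Spec (CommRingCat.of k))]

/-- A proper scheme with an ample module is finite over the projective space of its dimension, by a
morphism pulling `O(1)` back to a power of the module. -/
theorem exists_finite_to_projSpace_pow (hL : CohB1.IsAmple L) {d : ℕ} (hd : topologicalKrullDim X ≤ d) :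
    ∃ (π : X ⟶ CohB1.ProjSpace d k) (e : ℕ), IsFinite π ∧
      π ≫ CohB1.ProjSpace.toSpec d k = X ↘ Spec (CommRingCat.of k) ∧ 0 < e ∧
      Nonempty ((Scheme.Modules.pullback π).obj (Twist.twistProjSpace d k 1) ≅ CohB1.tensorPow L e) := by
  classical
  haveI := isNoetherian_of_proper (k := k) (X := X)
  obtain ⟨m, b, hm, hb⟩ := exists_powers_cover hL (d + 1) Set.univ isClosed_univ fun z _ =>
    lt_of_le_of_lt ((Topology.IsInducing.subtypeVal.topologicalKrullDim_le).trans hd)
      (by exact_mod_cast Nat.lt_succ_self d)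
  let e := ∏ i, m i
  have hpos : ∀ i, 0 < e / m i := fun i =>
    Nat.div_pos (Nat.le_of_dvd (Finset.prod_pos fun j _ => hm j) (Finset.dvd_prod_of_mem m (Finset.mem_univ i))) (hm i)
  have hLi := hL.1
  have hs : ∀ i, ∃ s : Γ(CohB1.tensorPow L e, ⊤), glocus _ s = glocus _ (b i) := fun i => by
    obtain ⟨ψ, -⟩ := exists_powPowIso hLi (m i) (e / m i)
    have hmul : m i * (e / m i) = e := Nat.mul_div_cancel' (Finset.dvd_prod_of_mem m (Finset.mem_univ i))
    refine ⟨(ψ ≪≫ eqToIso (congrArg (CohB1.tensorPow L) hmul)).hom.app ⊤ (powSec (b i) (e / m i)), ?_⟩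
    rw [glocus_map_iso]
    obtain ⟨n, hn⟩ := Nat.exists_eq_succ_of_ne_zero (hpos i).ne'
    rw [hn]
    exact glocus_powSec (isInvertible_tensorPow hLi (m i)) (b i) n
  choose s hs using hs
  have he : 0 < e := Finset.prod_pos fun j _ => hm j
  have hLe : CohB1.IsAmple (CohB1.tensorPow L e) := (isAmple_pow_iff hLi e he).2 hL
  obtain ⟨π, hπ, τ, hτ⟩ := UPLib.exists_hom_projSpace d (X ↘ Spec (CommRingCat.of k))
    (isInvertible_tensorPow hLi e) s fun x => by
      obtain ⟨i, hi⟩ := hb x trivial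
      exact ⟨i, hs i ▸ hi⟩
  haveI := isProper_projSpace_toSpec d k
  haveI : IsProper (π ≫ CohB1.ProjSpace.toSpec d k) := by rw [hπ]; infer_instance
  haveI : IsProper π := IsProper.of_comp π (CohB1.ProjSpace.toSpec d k)
  haveI : IsAffineHom π := by
    refine isAffineHom_of_forall_exists_isAffineOpen π fun y => ?_
    obtain ⟨i, hi⟩ := Opens.mem_iSup.1
      ((ProjLib.iSup_basicOpen_X d k).symm.le (Opens.mem_top y))
    refine ⟨PnEmb.chartOpen d k i, hi, PnEmb.isAffineOpen_chartOpen i, ?_⟩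
    rw [PnEmb.preimage_chartOpen π τ hτ i]
    exact MorProj.isAffineOpen_glocus_of_universallyClosed (X ↘ Spec (CommRingCat.of k)) hLe (s i)
  exact ⟨π, e, IsFinite.iff_isProper_and_isAffineHom.2 ⟨inferInstance, inferInstance⟩, hπ, he, ⟨τ⟩⟩

/-- A proper scheme with an ample module is finite over the projective space of its dimension. -/
theorem exists_finite_to_projSpace (hL : CohB1.IsAmple L) {d : ℕ} (hd : topologicalKrullDim X ≤ d) :
    ∃ π : X ⟶ CohB1.ProjSpace d k, IsFinite π ∧
      π ≫ CohB1.ProjSpace.toSpec d k = X ↘ Spec (CommRingCat.of k) := by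
  obtain ⟨π, e, h1, h2, -⟩ := exists_finite_to_projSpace_pow k hL hd
  exact ⟨π, h1, h2⟩

end Groth.Agent.SerreDual
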