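import Groth.Agent.SerreDual.Exist
import Groth.Agent.SerreDual.PushEquiv
import Groth.Agent.Coherent.SubFTApps
import Groth.Agent.AmpleLib.Tensor
import Groth.Agent.AmpleLib.Power

/-!
# Coherence of the dualizing module along finite morphisms
-/

set_option autoImplicit false
set_option linter.style.haveILetI false
set_option backward.isDefEq.respectTransparency.types false

universe u

open CategoryTheory CategoryTheory.Limits AlgebraicGeometry Opposite TopologicalSpace
open Groth.Agent.Coherent Groth.Agent.PicLib Groth.Agent.AmpleLib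

namespace Groth.Agent.SerreDual

variable {X P : Scheme.{u}}

/-- Sections of an invertible module on an integral scheme vanishing on a nonempty open vanish. -/
theorem eq_zero_of_resM_eq_zero [IsIntegral P] {L : P.Modules} (hL : PicF.IsInvertible L) {W V : P.Opens}
    (hV : (V : Set P).Nonempty) (s : Γ(L, W)) (h : resM L (inf_le_left : W ⊓ V ≤ W) s = 0) : s = 0 := by
  refine sec_ext L s 0 fun y hy => ?_
  obtain ⟨U, hyU, e, he⟩ := exists_isGen hL y
  refine ⟨W ⊓ U, inf_le_left, ⟨hy, hyU⟩, ?_⟩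
  rw [map_zero]
  obtain ⟨c, hc⟩ := (he (W ⊓ U) inf_le_right).2 (resM L inf_le_left s)
  beta_reduce at hc
  let D := (W ⊓ U) ⊓ V
  haveI : Nonempty D := by
    obtain ⟨z, hz⟩ := nonempty_preirreducible_inter (W ⊓ U).2 V.2 ⟨y, hy, hyU⟩ hV
    exact ⟨⟨z, hz⟩⟩
  have hD : res (inf_le_left : D ≤ W ⊓ U) c • resM L (inf_le_left.trans inf_le_right : D ≤ U) e = 0 := by
    rw [← resM_resM L (inf_le_right : W ⊓ U ≤ U) (inf_le_left : D ≤ W ⊓ U) e, ← resM_smul, hc, resM_resM,
      ← resM_resM L (inf_le_left : W ⊓ V ≤ W) (inf_le_inf_right V inf_le_left : D ≤ W ⊓ V) s, h, map_zero]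
  have h0 : res (inf_le_left : D ≤ W ⊓ U) c = 0 := (he D _).1 (hD.trans (zero_smul _ _).symm)
  have hc0 : c = 0 := map_injective_of_isIntegral P (homOfLE (inf_le_left : D ≤ W ⊓ U))
    (h0.trans (map_zero _).symm)
  rw [← hc, hc0, zero_smul]

section Finite

variable {k : Type u} [Field k] [X.Over (Spec (CommRingCat.of k))] [P.Over (Spec (CommRingCat.of k))]
  {d : ℕ} {ω : X.Modules} [Coh.IsQCoh ω] {t : Coh.HH X ω d →ₗ[k] k}
  {ωP : P.Modules} {tP : Coh.HH P ωP d →ₗ[k] k}
  (π : X ⟶ P) [IsFinite π] (hπ : π ≫ (P ↘ Spec (CommRingCat.of k)) = X ↘ Spec (CommRingCat.of k))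

include hπ in
/-- A map into `ω` whose direct image dies in `ωP` is zero. -/
theorem eq_zero_of_push_comp (hrep : ∀ F : X.Modules, Coh.IsQCoh F → Rep t F)
    (τ : (Coh.push π).obj ω ⟶ ωP) (hτ : theta tP _ τ = t ∘ₗ (hpush π k hπ ω d).symm.toLinearMap)
    {G : X.Modules} [Coh.IsQCoh G] (φ : G ⟶ ω) (h : (Coh.push π).map φ ≫ τ = 0) : φ = 0 := by
  refine (hrep G inferInstance).1 ?_
  rw [map_zero]
  refine LinearMap.ext fun x => ?_
  have h1 := congrArg (fun l => l (hpush π k hπ ω d (hmap k φ d x))) hτ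
  rw [theta_apply, LinearMap.comp_apply, LinearEquiv.coe_coe, LinearEquiv.symm_apply_apply] at h1
  rw [theta_apply, LinearMap.zero_apply]
  rw [hpush_natural π k hπ φ d x, ← hmap_eq k τ] at h1
  rw [← hmap_eq k φ]
  refine h1.symm.trans ?_
  rw [← LinearMap.comp_apply (hmap k τ d), ← hmap_comp, h, hmap_zero, LinearMap.zero_apply, map_zero]

variable [IsLocallyNoetherian X] [IsIntegral P]

include hπ in
/-- The trace pairing over an affine open is nondegenerate. -/
theorem eq_zero_of_trace_pairing (hωP : PicF.IsInvertible ωP)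
    (hrep : ∀ F : X.Modules, Coh.IsQCoh F → Rep t F)
    (τ : (Coh.push π).obj ω ⟶ ωP) (hτ : theta tP _ τ = t ∘ₗ (hpush π k hπ ω d).symm.toLinearMap)
    {V : P.Opens} (hV : IsAffineOpen V) (hne : (V : Set P).Nonempty) (a : Γ(ω, π ⁻¹ᵁ V))
    (ha : ∀ r : Γ(X, π ⁻¹ᵁ V), τ.app V (show Γ((Coh.push π).obj ω, V) from r • a) = 0) : a = 0 := by
  classical
  have hX : ∀ y : X, ∃ W : X.Opens, y ∈ W ∧ NoetherianSpace (W : Set X) := fun y => by
    obtain ⟨W, hW, hyW, -⟩ := exists_isAffineOpen_mem_and_subset (x := y) (U := ⊤) trivial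
    haveI : IsNoetherianRing Γ(X, W) := IsLocallyNoetherian.component_noetherian ⟨W, hW⟩
    exact ⟨W, hyW, noetherianSpace_of_isAffineOpen W hW⟩
  obtain ⟨U, hU, hcov, hcpt⟩ := exists_noetherian_affine_cover hX
  obtain ⟨Q, hQ, hagree⟩ := exists_good_extension U hU hcov (π ⁻¹ᵁ V) _
    (SubM.good_locSpan (F := ω) (I := PUnit.{u+1}) (fun _ => a)) (fun _ => True) trivial
    (fun _ _ _ _ => trivial) fun S _ hS => by
      obtain ⟨l, hl⟩ := (Set.ne_univ_iff_exists_notMem S).1 hS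
      exact ⟨l, hl, trivial, hcpt l _⟩
  haveI : Coh.IsQCoh Q.toMod := SubM.isQCoh hQ
  let β := (Coh.push π).map Q.toι ≫ τ
  have hπV : IsAffineOpen (π ⁻¹ᵁ V) := hV.preimage π
  have hβV : ∀ W : P.Opens, W ≤ V → ∀ x : Γ((Coh.push π).obj Q.toMod, W), β.app W x = 0 := by
    intro W hW x
    have hWV : π ⁻¹ᵁ W ≤ π ⁻¹ᵁ V := fun z hz => hW hz
    let b : Γ(ω, π ⁻¹ᵁ W) := Q.toι.app (π ⁻¹ᵁ W) x
    have hb : b ∈ (SubM.locSpan ω (π ⁻¹ᵁ V) fun _ : PUnit.{u+1} => a).carrier (π ⁻¹ᵁ W) := by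
      rw [← hagree _ hWV]
      exact (Q.mem_range_toι).1 ⟨x, rfl⟩
    show τ.app W (show Γ((Coh.push π).obj ω, W) from b) = 0
    refine sec_ext ωP _ 0 fun y hy => ?_
    obtain ⟨g, hgW, hyg⟩ := hV.exists_basicOpen_le (V := W) ⟨y, hy⟩ (hW hy)
    refine ⟨P.basicOpen g, hgW, hyg, ?_⟩
    rw [map_zero, ← app_resM]
    let D : X.Opens := π ⁻¹ᵁ P.basicOpen g
    have hDV : D ≤ π ⁻¹ᵁ V := fun z hz => P.basicOpen_le g hz
    have hDW : D ≤ π ⁻¹ᵁ W := fun z hz => hgW hz
    have hD : IsAffineOpen D := (hV.basicOpen g).preimage π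
    have hmem : resM ω hDW b ∈ Submodule.span Γ(X, D) (Set.range fun _ : PUnit.{u+1} => resM ω hDV a) := by
      refine mem_span_of_mem_locSpan hD _ _ ?_
      have h2 := (SubM.locSpan ω (π ⁻¹ᵁ V) fun _ : PUnit.{u+1} => a).res hDW hb
      intro z hz _
      obtain ⟨W', h₁, h₂, hz', hm⟩ := h2 z hz (hDV hz)
      refine ⟨W', h₁, h₁, hz', ?_⟩
      simpa only [resM_resM] using hm
    rw [Set.range_const, Submodule.mem_span_singleton] at hmem
    obtain ⟨r, hr⟩ := hmem
    show τ.app (P.basicOpen g) (show Γ((Coh.push π).obj ω, P.basicOpen g) from resM ω hDW b) = 0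
    rw [← hr]
    -- clear the denominator of `r`
    have hDeq : D = X.basicOpen (π.app V g) := Scheme.preimage_basicOpen π g
    obtain ⟨n, r', hr'⟩ : ∃ (n : ℕ) (r' : Γ(X, π ⁻¹ᵁ V)), res hDV (π.app V g) ^ n * r = res hDV r' := by
      haveI := hπV.isLocalization_basicOpen (π.app V g)
      obtain ⟨⟨r', ⟨_, n, rfl⟩⟩, h⟩ := IsLocalization.surj (Submonoid.powers (π.app V g))
        (res hDeq.ge r)
      change res hDeq.ge r * res (X.basicOpen_le _) (π.app V g ^ n) = res (X.basicOpen_le _) r' at h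
      refine ⟨n, r', ?_⟩
      have h' := congrArg (res hDeq.le) h
      rw [map_mul, PicLib.res_res, PicLib.res_res, PicLib.res_res, map_pow] at h'
      rw [mul_comm, ← h', show res (le_trans hDeq.le hDeq.ge) r = r from ConcreteCategory.congr_hom (X.presheaf.map_id _) r]
    have h1 : (res (P.basicOpen_le g) g) ^ n •
        τ.app (P.basicOpen g) (show Γ((Coh.push π).obj ω, P.basicOpen g) from r • resM ω hDV a) = 0 := by
      rw [← Scheme.Modules.Hom.app_smul]
      have h2 : ((res (P.basicOpen_le g) g) ^ n •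
          (show Γ((Coh.push π).obj ω, P.basicOpen g) from r • resM ω hDV a) :
            Γ((Coh.push π).obj ω, P.basicOpen g)) =
          resM ((Coh.push π).obj ω) (P.basicOpen_le g) (show Γ((Coh.push π).obj ω, V) from r' • a) := by
        show π.app (P.basicOpen g) ((res (P.basicOpen_le g) g) ^ n) • (r • resM ω hDV a) =
          resM ω hDV (r' • a)
        rw [resM_smul, ← hr', mul_smul, map_pow]
        congr 2
        exact ConcreteCategory.congr_hom (π.naturality (homOfLE (P.basicOpen_le g)).op) g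
      rw [h2, app_resM, ha r', map_zero]
    have hu : IsUnit ((res (P.basicOpen_le g) g) ^ n) :=
      (RingedSpace.isUnit_res_basicOpen P.toRingedSpace g).pow n
    exact hu.smul_eq_zero.1 h1
  have hβ : β = 0 := by
    refine Scheme.Modules.hom_ext _ _ fun W => ConcreteCategory.hom_ext _ _ fun x => ?_
    show β.app W x = 0
    refine eq_zero_of_resM_eq_zero hωP hne _ ?_
    rw [← app_resM]
    exact hβV _ inf_le_right _
  have h0 := eq_zero_of_push_comp π hπ hrep τ hτ Q.toι hβ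
  have hmem : a ∈ Q.carrier (π ⁻¹ᵁ V) := by
    rw [hagree _ le_rfl]; exact SubM.mem_locSpan_self _ PUnit.unit
  obtain ⟨x, hx⟩ := (Q.mem_range_toι).2 hmem
  rw [← hx, h0]
  rfl

include hπ in
/-- The dualizing module of a scheme finite over an integral one with invertible dualizing module is
coherent. -/
theorem isCoh_of_finite [IsLocallyNoetherian P] (hωP : PicF.IsInvertible ωP) (hωPc : Coh.IsCoh ωP)
    (hrepP : ∀ F : P.Modules, Coh.IsQCoh F → Rep tP F)
    (hrep : ∀ F : X.Modules, Coh.IsQCoh F → Rep t F) : Coh.IsCoh ω := by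
  haveI : Coh.IsQCoh ((Coh.push π).obj ω) := isQCoh_push π ω
  obtain ⟨τ, hτ⟩ := (hrepP _ inferInstance).2 (t ∘ₗ (hpush π k hπ ω d).symm.toLinearMap)
  choose V hV hxV using fun x : X => (exists_isAffineOpen_mem_and_subset (x := π x) (U := ⊤) trivial).imp
    fun _ h => (⟨h.1, h.2.1⟩ : _ ∧ _)
  refine isCoh_of_finite_sections_cover ω inferInstance (fun x => π ⁻¹ᵁ V x) (fun x => (hV x).preimage π)
    (fun x => ⟨x, hxV x⟩) fun x => ?_
  haveI : IsNoetherianRing Γ(P, V x) := IsLocallyNoetherian.component_noetherian ⟨V x, hV x⟩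
  haveI := ((isCoh_iff_finite_sections _).1 hωPc).2 (V x) (hV x)
  letI : Algebra Γ(P, V x) Γ(X, π ⁻¹ᵁ V x) := (π.app (V x)).hom.toAlgebra
  haveI : Module.Finite Γ(P, V x) Γ(X, π ⁻¹ᵁ V x) := π.finite_app (V x) (hV x)
  obtain ⟨s, hs⟩ := Module.Finite.fg_top (R := Γ(P, V x)) (M := Γ(X, π ⁻¹ᵁ V x))
  let F : Γ((Coh.push π).obj ω, V x) →ₗ[Γ(P, V x)] (s → Γ(ωP, V x)) :=
    { toFun := fun a b => τ.app (V x) (show Γ((Coh.push π).obj ω, V x) from b.1 • (show Γ(ω, π ⁻¹ᵁ V x) from a))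
      map_add' := fun a a' => funext fun b => (congrArg (τ.app (V x)) (smul_add b.1
        (show Γ(ω, π ⁻¹ᵁ V x) from a) (show Γ(ω, π ⁻¹ᵁ V x) from a'))).trans (map_add (τ.app (V x)).hom _ _)
      map_smul' := fun c a => funext fun b => by
        refine Eq.trans (congrArg (τ.app (V x)) ?_) (τ.app_smul c _)
        exact smul_comm b.1 ((π.app (V x)) c) (show Γ(ω, π ⁻¹ᵁ V x) from a) }
  have hF : Function.Injective F := (injective_iff_map_eq_zero _).2 fun a ha => by
    refine eq_zero_of_trace_pairing π hπ hωP hrep τ hτ (hV x) ⟨π x, hxV x⟩ a fun r => ?_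
    have hr : r ∈ Submodule.span Γ(P, V x) (s : Set Γ(X, π ⁻¹ᵁ V x)) := hs.ge trivial
    induction hr using Submodule.span_induction with
    | mem b hb => exact congrFun ha ⟨b, hb⟩
    | zero =>
      exact (congrArg (τ.app (V x)) (zero_smul Γ(X, π ⁻¹ᵁ V x) (show Γ(ω, π ⁻¹ᵁ V x) from a))).trans
        (map_zero (τ.app (V x)).hom)
    | add b b' _ _ h h' =>
      refine (congrArg (τ.app (V x)) (add_smul b b' (show Γ(ω, π ⁻¹ᵁ V x) from a))).trans ?_
      refine (map_add (τ.app (V x)).hom _ _).trans ?_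
      rw [h, h']; exact add_zero _
    | smul c b _ h =>
      refine Eq.trans (congrArg (τ.app (V x)) ?_) ((τ.app_smul c _).trans ((congrArg (c • ·) h).trans (smul_zero c)))
      exact mul_smul (π.app (V x) c) b (show Γ(ω, π ⁻¹ᵁ V x) from a)
  haveI : Module.Finite Γ(P, V x) Γ((Coh.push π).obj ω, V x) := Module.Finite.of_injective F hF
  obtain ⟨g, hg⟩ := Module.Finite.fg_top (R := Γ(P, V x)) (M := Γ((Coh.push π).obj ω, V x))
  refine ⟨⟨g, eq_top_iff.2 fun a _ => ?_⟩⟩
  suffices h : ∀ a' : Γ((Coh.push π).obj ω, V x), a' ∈ Submodule.span Γ(P, V x) (g : Set Γ((Coh.push π).obj ω, V x)) →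
      (show Γ(ω, π ⁻¹ᵁ V x) from a') ∈ Submodule.span Γ(X, π ⁻¹ᵁ V x) ((show Finset Γ(ω, π ⁻¹ᵁ V x) from g) : Set Γ(ω, π ⁻¹ᵁ V x)) from
    h a (hg.ge trivial)
  intro a' ha
  induction ha using Submodule.span_induction with
  | mem b hb => exact Submodule.subset_span hb
  | zero => exact zero_mem _
  | add b b' _ _ h h' => exact add_mem h h'
  | smul c b _ h => exact Submodule.smul_mem _ (π.app (V x) c) h

end Finite

end Groth.Agent.SerreDual
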