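import Groth.Agent.SerreDual.ProjRep
import Groth.Agent.SerreDual.Finite
import Groth.Agent.SerreDual.FinNormal
import Groth.Agent.Coherent.RpushSupport
import Groth.Agent.MorProj.VeryAmple

/-!
# Coherent dualizing modules of projective schemes over a field
-/

set_option autoImplicit false
set_option linter.style.haveILetI false
set_option backward.isDefEq.respectTransparency.types false

universe u

open CategoryTheory CategoryTheory.Limits AlgebraicGeometry Opposite TopologicalSpace
open Groth.Agent.Coherent Groth.Agent.PicLib Groth.Agent.AmpleLib Groth.Agent.EulerLib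

namespace Groth.Agent.SerreDual

section

variable {X : Scheme.{u}}

/-- Sections of quasi-coherent modules lie in coherent submodules. -/
theorem exists_coh_sub [AlgebraicGeometry.IsNoetherian X] {M : X.Modules} [Coh.IsQCoh M] {W : X.Opens}
    (a : Γ(M, W)) :
    ∃ (G : X.Modules) (ι : G ⟶ M), Mono ι ∧ Coh.IsCoh G ∧ a ∈ Set.range (ι.app W) := by
  obtain ⟨Q, hQ, hmem⟩ := exists_good_containing_locallyNoetherian (F := M)
    (fun y => ⟨⊤, trivial, inferInstance⟩) (I := PUnit.{u+1}) (fun _ => a)
  exact ⟨Q.toMod, Q.toι, inferInstance, ⟨SubM.isQCoh hQ, SubM.isFT hQ⟩,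
    (Q.mem_range_toι).2 (hmem PUnit.unit)⟩

variable {k : Type u} [Field k] [X.Over (Spec (CommRingCat.of k))]
  [IsProper (X ↘ Spec (CommRingCat.of k))] {d : ℕ}

/-- A module representing the dual of `H^d` on coherent modules represents it on all quasi-coherent ones. -/
theorem rep_qcoh_of_rep_coh (hd : topologicalKrullDim X ≤ d) {ω : X.Modules} (hω : Coh.IsCoh ω)
    {t : Coh.HH X ω d →ₗ[k] k} (h : ∀ F : X.Modules, Coh.IsCoh F → Rep t F) :
    ∀ F : X.Modules, Coh.IsQCoh F → Rep t F := by
  haveI := isNoetherian_of_proper (k := k) (X := X)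
  obtain ⟨ω', t', hq', h'⟩ := exists_dualizing k X hd
  haveI := hq'
  haveI := hω.1
  obtain ⟨ψ, hψ⟩ := (h' ω hω.1).2 t
  have hcomp : ∀ (G : X.Modules) (φ : G ⟶ ω), theta t' G (φ ≫ ψ) = theta t G φ := fun G φ => by
    rw [theta_comp, hψ]; rfl
  haveI : Mono ψ := by
    haveI : Coh.IsQCoh (kernel ψ) := isQCoh_kernel ψ
    have hK : Coh.IsCoh (kernel ψ) := isCoh_of_mono (kernel.ι ψ) hω inferInstance
    have h0 : kernel.ι ψ = 0 := (h _ hK).1 (by
      rw [← hcomp, kernel.condition, map_zero, map_zero])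
    exact Preadditive.mono_of_kernel_zero h0
  haveI : Epi ψ := by
    refine epi_of_locally_surjective ψ fun W a y hy => ⟨W, le_rfl, hy, ?_⟩
    obtain ⟨G, ι, -, hG, b, rfl⟩ := exists_coh_sub (M := ω') a
    obtain ⟨ρ, hρ⟩ := (h G hG).2 (theta t' G ι)
    have he : ρ ≫ ψ = ι := (h' G hG.1).1 (by rw [hcomp]; exact hρ)
    refine ⟨ρ.app W b, ?_⟩
    rw [resM_self, ← he]
    rfl
  haveI : IsIso ψ := isIso_of_mono_of_epi _
  intro F hF
  have hb := h' F hF
  have key : theta t F = (fun φ : F ⟶ ω => theta t' F (φ ≫ ψ)) := funext fun φ => (hcomp F φ).symm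
  show Function.Bijective (theta t F)
  rw [key]
  exact hb.comp ⟨fun a b e => (cancel_mono ψ).1 e, fun g => ⟨g ≫ inv ψ, by simp⟩⟩

end

/-- The twists are invertible. -/
theorem isInvertible_twist (n : ℕ) (k : Type u) [Field k] (e : ℤ) :
    PicF.IsInvertible (Twist.twistProjSpace n k e) := by
  refine isInvertible_of_gens fun y => ?_
  obtain ⟨i, hi⟩ := Opens.mem_iSup.1 ((projPowCover n k).cover.ge (Opens.mem_top y))
  exact ⟨_, hi, chartGen e i, isGen_chartGen e i⟩

variable (k : Type u) [Field k] {X : Scheme.{u}} [X.Over (Spec (CommRingCat.of k))]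
  [IsProper (X ↘ Spec (CommRingCat.of k))]

/-- The dualizing module of a proper scheme finite over projective space is coherent. -/
theorem isCoh_of_finite_projSpace {d : ℕ} (π : X ⟶ CohB1.ProjSpace d k) [IsFinite π]
    (hπ : π ≫ CohB1.ProjSpace.toSpec d k = X ↘ Spec (CommRingCat.of k))
    {ω : X.Modules} [Coh.IsQCoh ω] {t : Coh.HH X ω d →ₗ[k] k}
    (hrep : ∀ F : X.Modules, Coh.IsQCoh F → Rep t F) : Coh.IsCoh ω := by
  haveI := CurveLib.isIntegral_projSpace k d
  haveI : IsProper ((CohB1.ProjSpace d k) ↘ Spec (CommRingCat.of k)) := isProper_projSpace_toSpec d k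
  haveI := isNoetherian_of_proper (k := k) (X := X)
  haveI := isNoetherian_of_proper (k := k) (X := CohB1.ProjSpace d k)
  obtain ⟨tP, htP⟩ := exists_trace (n := d) (k := k)
  have hL := isInvertible_twist d k (-((d : ℤ) + 1))
  have hLc : Coh.IsCoh (Twist.twistProjSpace d k (-((d : ℤ) + 1))) := by
    rw [show (-((d : ℤ) + 1)) = (-((d + 1 : ℕ) : ℤ)) by push_cast; ring]
    haveI := isQCoh_twistProjSpace (n := d) (R := k) (-((d + 1 : ℕ) : ℤ))
    exact isCoh_of_gens (twistGens d k (d + 1))
  exact isCoh_of_finite π hπ hL hLc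
    (rep_qcoh_of_rep_coh (DimLib.PN.topologicalKrullDim_projSpace d k).le hLc
      fun F hF => rep_coh tP htP hF) hrep

/-- Existence of a coherent dualizing pair on a proper scheme with an ample module. -/
theorem exists_coh_dualizing {L : X.Modules} (hL : CohB1.IsAmple L) {d : ℕ}
    (hd : topologicalKrullDim X ≤ d) :
    ∃ (ω : X.Modules) (t : Coh.HH X ω d →ₗ[k] k), Coh.IsCoh ω ∧
      ∀ F : X.Modules, Coh.IsQCoh F → Rep t F := by
  obtain ⟨π, hfin, hπ⟩ := exists_finite_to_projSpace k hL hd
  haveI := hfin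
  obtain ⟨ω, t, hq, hrep⟩ := exists_dualizing k X hd
  haveI := hq
  exact ⟨ω, t, isCoh_of_finite_projSpace k π hπ hrep, hrep⟩

end Groth.Agent.SerreDual

namespace Groth.Agent.SerreDual

/-- `O(1)` is ample on projective space over a field. -/
theorem isAmple_projSpace_one (n : ℕ) (k : Type u) [Field k] :
    CohB1.IsAmple (Twist.twistProjSpace n k 1) := by
  classical
  exact TwistLib.G.isAmple_twist_one (𝒜 := CohB1.polyGrading n k)
    (Finset.univ.image MvPolynomial.X) (by
      intro g hg
      obtain ⟨j, -, rfl⟩ := Finset.mem_image.1 hg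
      exact MvPolynomial.isHomogeneous_X _ j)
    (by
      rw [Finset.coe_image, Finset.coe_univ, Set.image_univ]
      refine le_antisymm (ProjLib.irrelevant_le_span_X n _) (Ideal.span_le.2 ?_)
      rintro _ ⟨j, rfl⟩
      exact HomogeneousIdeal.mem_irrelevant_of_mem (CohB1.polyGrading n _) Nat.one_pos
        (MvPolynomial.isHomogeneous_X _ j))

/-- Closed subschemes of projective space over a field are proper and carry an ample module. -/
theorem isProper_and_ample_of_closedImmersion {k : Type u} [Field k] {n : ℕ} {X : Scheme.{u}}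
    [X.Over (Spec (CommRingCat.of k))] (ι : X ⟶ CohB1.ProjSpace n k) [IsClosedImmersion ι]
    (hι : ι ≫ CohB1.ProjSpace.toSpec n k = X ↘ Spec (CommRingCat.of k)) :
    IsProper (X ↘ Spec (CommRingCat.of k)) ∧ ∃ L : X.Modules, CohB1.IsAmple L := by
  haveI := isProper_projSpace_toSpec n k
  exact ⟨hι ▸ inferInstance, _, AmpleLib.isAmple_pullback_of_isAffineHom ι (isAmple_projSpace_one n k)⟩

end Groth.Agent.SerreDual
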