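import Mathlib.CategoryTheory.Abelian.Injective.Ext
import Mathlib.Algebra.Homology.ShortComplex.ShortExact
import Mathlib.Algebra.Homology.ShortComplex.HomologicalComplex
import Mathlib.CategoryTheory.Preadditive.AdditiveFunctor
import Mathlib.CategoryTheory.Adjunction.Additive
import Mathlib.CategoryTheory.Preadditive.Injective.Basic

/-!
# `Ext` in the first nonvanishing degree through an adjunction

For an adjunction `Φ ⊣ R` with `Φ` exact, morphisms into the first nonvanishing cohomology of `R` applied to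
an injective resolution of `G` are classes in `Ext(Φ -, G)`.
-/

set_option autoImplicit false
set_option linter.style.haveILetI false

universe u v

open CategoryTheory CategoryTheory.Abelian CategoryTheory.Limits Opposite

namespace Groth.Agent.SerreDual.ExtAdjoint

section Complex

variable {A : Type v} [Category.{u} A] [Abelian A] (K : CochainComplex A ℕ)

/-- The boundaries. -/
noncomputable abbrev bd (q : ℕ) : A := kernel (K.homologyπ q)

/-- The differential onto the boundaries. -/
noncomputable abbrev toBd (q : ℕ) : K.X q ⟶ bd K (q + 1) :=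
  kernel.lift _ (K.toCycles q (q + 1)) (K.toCycles_comp_homologyπ q (q + 1))

theorem iCycles_toBd (q : ℕ) : K.iCycles q ≫ toBd K q = 0 := by
  rw [← cancel_mono (kernel.ι (K.homologyπ (q + 1))), Category.assoc, kernel.lift_ι, zero_comp,
    ← cancel_mono (K.iCycles (q + 1)), Category.assoc, K.toCycles_i, K.iCycles_d, zero_comp]

theorem shortExact_cycles (q : ℕ) :
    (ShortComplex.mk (K.iCycles q) (toBd K q) (iCycles_toBd K q)).ShortExact := by
  haveI : Epi (toBd K q) :=
    (ShortComplex.exact_of_g_is_cokernel (ShortComplex.mk _ _ (K.toCycles_comp_homologyπ q (q + 1)))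
      (K.homologyIsCokernel q (q + 1) (by simp))).epi_kernelLift
  refine { exact := ?_, mono_f := inferInstanceAs (Mono (K.iCycles q)), epi_g := inferInstanceAs (Epi (toBd K q)) }
  refine ShortComplex.exact_of_f_is_kernel _ (isKernelOfComp (f := toBd K q)
    (kernel.ι (K.homologyπ (q + 1)) ≫ K.iCycles (q + 1)) (K.d q (q + 1))
    (K.cyclesIsKernel q (q + 1) (by simp)) (iCycles_toBd K q) ?_)
  rw [← Category.assoc, kernel.lift_ι, K.toCycles_i]

theorem shortExact_bd (q : ℕ) :
    (ShortComplex.mk (kernel.ι (K.homologyπ q)) (K.homologyπ q) (kernel.condition _)).ShortExact :=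
  { exact := ShortComplex.exact_of_f_is_kernel _ (kernelIsKernel (K.homologyπ q))
    mono_f := inferInstance
    epi_g := inferInstanceAs (Epi (K.homologyπ q)) }

theorem isIso_kernel_ι {M N : A} {f : M ⟶ N} (h : f = 0) : IsIso (kernel.ι f) :=
  ⟨kernel.lift f (𝟙 M) (by rw [h, comp_zero]), by simp [← cancel_mono (kernel.ι f)], by simp⟩

variable {K} {c : ℕ}

/-- The boundaries of a bounded below exact complex of injectives are injective. -/
theorem injective_bd (hinj : ∀ q, Injective (K.X q)) (hK : ∀ q, q < c → IsZero (K.homology q)) :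
    ∀ q, q ≤ c → Injective (bd K q)
  | 0, _ => by
    haveI : Mono (K.homologyπ 0) := inferInstance
    have hz : IsZero (bd K 0) := isZero_kernel_of_mono (K.homologyπ 0)
    exact ⟨fun _ _ _ => ⟨0, hz.eq_of_tgt _ _⟩⟩
  | q + 1, hq => by
    haveI := injective_bd hinj hK q (Nat.le_of_succ_le hq)
    haveI : IsIso (kernel.ι (K.homologyπ q)) := isIso_kernel_ι ((hK q hq).eq_of_tgt _ _)
    haveI : Injective (K.cycles q) := Injective.of_iso (asIso (kernel.ι (K.homologyπ q))) inferInstance
    haveI : Injective (ShortComplex.mk (K.iCycles q) (toBd K q) (iCycles_toBd K q)).X₁ :=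
      inferInstanceAs (Injective (K.cycles q))
    let σ := (shortExact_cycles K q).splittingOfInjective
    haveI : Injective (K.X q) := hinj q
    refine ⟨fun g f _ => ⟨Injective.factorThru (g ≫ σ.s) f ≫ toBd K q, ?_⟩⟩
    rw [← Category.assoc, Injective.comp_factorThru, Category.assoc]
    exact (congrArg (g ≫ ·) σ.s_g).trans (Category.comp_id g)

/-- Classes in the first nonvanishing degree lift to cycles. -/
theorem exists_section (hinj : ∀ q, Injective (K.X q)) (hK : ∀ q, q < c → IsZero (K.homology q)) :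
    ∃ s : K.homology c ⟶ K.cycles c, s ≫ K.homologyπ c = 𝟙 _ := by
  haveI : Injective (ShortComplex.mk (kernel.ι (K.homologyπ c)) (K.homologyπ c) (kernel.condition _)).X₁ :=
    injective_bd hinj hK c le_rfl
  exact ⟨(shortExact_bd K c).splittingOfInjective.s, (shortExact_bd K c).splittingOfInjective.s_g⟩

/-- Cycles vanishing in homology are boundaries. -/
theorem exists_boundary {q : ℕ} (hinj : ∀ q, Injective (K.X q)) (hK : ∀ i, i < q + 1 → IsZero (K.homology i))
    {F : A} (g : F ⟶ K.cycles (q + 1)) (hg : g ≫ K.homologyπ (q + 1) = 0) :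
    ∃ b : F ⟶ K.X q, b ≫ K.toCycles q (q + 1) = g := by
  haveI := injective_bd hinj (fun i hi => hK i (Nat.lt_succ_of_lt hi)) q le_rfl
  haveI : IsIso (kernel.ι (K.homologyπ q)) := isIso_kernel_ι ((hK q (Nat.lt_succ_self q)).eq_of_tgt _ _)
  haveI : Injective (ShortComplex.mk (K.iCycles q) (toBd K q) (iCycles_toBd K q)).X₁ :=
    (Injective.of_iso (asIso (kernel.ι (K.homologyπ q))) inferInstance : Injective (K.cycles q))
  let σ := (shortExact_cycles K q).splittingOfInjective
  refine ⟨kernel.lift _ g hg ≫ σ.s, ?_⟩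
  have h2 := congrArg (fun z => kernel.lift _ g hg ≫ z ≫ kernel.ι (K.homologyπ (q + 1))) σ.s_g
  simp only [Category.assoc, toBd, kernel.lift_ι, Category.id_comp] at h2
  rw [Category.assoc]
  exact h2

end Complex

variable {C D : Type v} [Category.{u} C] [Category.{u} D] [Abelian C] [Abelian D] [HasExt.{u} D]

/-- A degree zero cocycle with zero class is zero. -/
theorem eq_zero_of_extMk_eq_zero {G : D} (I : InjectiveResolution G) {M : D} (f : M ⟶ I.cocomplex.X 0)
    (hf : f ≫ I.cocomplex.d 0 1 = 0) (h : I.extMk f 1 rfl hf = 0) : f = 0 := by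
  rw [← I.extEquivCohomologyClass.apply_eq_iff_eq, InjectiveResolution.extEquivCohomologyClass_extMk,
    InjectiveResolution.extEquivCohomologyClass_zero, CochainComplex.HomComplex.CohomologyClass.mk_eq_zero_iff,
    CochainComplex.HomComplex.Cocycle.fromSingleMk_mem_coboundaries_iff _ _ _ _ _ (-1) (by simp)] at h
  obtain ⟨g, hg⟩ := h
  have hz : IsZero (I.cochainComplex.X (-1)) := CochainComplex.isZero_of_isStrictlyGE _ 0 (-1) (by simp)
  rw [hz.eq_of_tgt g 0, zero_comp] at hg
  exact (cancel_mono (I.cochainComplexXIso 0 0 rfl).inv).1 (hg.symm.trans zero_comp.symm)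

variable {Φ : C ⥤ D} {R : D ⥤ C} (adj : Φ ⊣ R) [R.Additive] [Φ.PreservesMonomorphisms]

include adj in
/-- Maps into the first nonvanishing cohomology of `R(I^•)` are `Ext` classes. -/
theorem exists_universal {G : D} (I : InjectiveResolution G) (c : ℕ)
    (hK : ∀ q, q < c → IsZero (((R.mapHomologicalComplex (ComplexShape.up ℕ)).obj I.cocomplex).homology q)) :
    ∃ ε : Ext (Φ.obj (((R.mapHomologicalComplex (ComplexShape.up ℕ)).obj I.cocomplex).homology c)) G c,
      ∀ F : C, Function.Bijective fun θ : F ⟶ ((R.mapHomologicalComplex (ComplexShape.up ℕ)).obj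
        I.cocomplex).homology c => (Ext.mk₀ (Φ.map θ)).comp ε (zero_add c) := by
  let K := (R.mapHomologicalComplex (ComplexShape.up ℕ)).obj I.cocomplex
  have hinj : ∀ q, Injective (K.X q) := fun q => adj.map_injective _ (I.injective q)
  obtain ⟨s, hs⟩ := exists_section hinj hK
  let tr : ∀ {F : C} (n : ℕ), (F ⟶ K.X n) → (Φ.obj F ⟶ I.cocomplex.X n) := fun {F} n g =>
    (adj.homEquiv F (I.cocomplex.X n)).symm g
  have hd : ∀ {F : C} (i j : ℕ) (g : F ⟶ K.X i),
      tr i g ≫ I.cocomplex.d i j = tr j (g ≫ K.d i j) := fun {F} i j g =>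
    (adj.homEquiv_naturality_right_symm g (I.cocomplex.d i j)).symm
  have htr0 : ∀ {F : C} (n : ℕ), tr n (0 : F ⟶ K.X n) = 0 := fun {F} n => by
    apply (adj.homEquiv F (I.cocomplex.X n)).injective
    rw [Equiv.apply_symm_apply, adj.homEquiv_unit, R.map_zero, comp_zero]
    rfl
  have hcyc : ∀ {F : C} (z : F ⟶ K.cycles c), tr c (z ≫ K.iCycles c) ≫ I.cocomplex.d c (c + 1) = 0 :=
    fun z => by rw [hd, Category.assoc, K.iCycles_d, comp_zero, htr0]
  refine ⟨I.extMk (tr c (s ≫ K.iCycles c)) (c + 1) rfl (hcyc s), fun F => ?_⟩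
  have key : ∀ θ : F ⟶ K.homology c,
      (Ext.mk₀ (Φ.map θ)).comp (I.extMk (tr c (s ≫ K.iCycles c)) (c + 1) rfl (hcyc s)) (zero_add c) =
        I.extMk (tr c ((θ ≫ s) ≫ K.iCycles c)) (c + 1) rfl (hcyc _) := fun θ => by
    rw [I.mk₀_comp_extMk]
    congr 1
    rw [Category.assoc]
    exact (adj.homEquiv_naturality_left_symm θ (s ≫ K.iCycles c)).symm
  have hsub : ∀ (a b : F ⟶ K.X c), tr c a - tr c b = tr c (a - b) := fun a b => by
    show (adj.homEquiv F _).symm a - (adj.homEquiv F _).symm b = (adj.homEquiv F _).symm (a - b)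
    apply (adj.homEquiv F (I.cocomplex.X c)).injective
    simp only [Equiv.apply_symm_apply]
    rw [adj.homEquiv_unit, R.map_sub, Preadditive.comp_sub, ← adj.homEquiv_unit, ← adj.homEquiv_unit,
      Equiv.apply_symm_apply, Equiv.apply_symm_apply]
    rfl
  have hzero : ∀ z : F ⟶ K.cycles c, I.extMk (tr c (z ≫ K.iCycles c)) (c + 1) rfl (hcyc z) = 0 ↔
      z ≫ K.homologyπ c = 0 := by
    intro z
    cases c with
    | zero =>
      haveI : Mono (K.homologyπ 0) := inferInstance
      refine ⟨fun h => ?_, fun h => ?_⟩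
      · have h1 := eq_zero_of_extMk_eq_zero I _ _ h
        rw [← htr0 (F := F) 0] at h1
        have h2 := (adj.homEquiv F (I.cocomplex.X 0)).symm.injective h1
        rw [show z = 0 from (cancel_mono (K.iCycles 0)).1 (h2.trans zero_comp.symm), zero_comp]
      · have : z = 0 := (cancel_mono (K.homologyπ 0)).1 (h.trans zero_comp.symm)
        subst this
        simp only [zero_comp, htr0]
        exact I.extMk_zero _ rfl
    | succ q =>
      rw [I.extMk_eq_zero_iff _ _ _ _ q rfl]
      refine ⟨fun h => ?_, fun h => ?_⟩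
      · obtain ⟨g, hg⟩ := h
        obtain ⟨b, rfl⟩ := (adj.homEquiv F (I.cocomplex.X q)).symm.surjective g
        rw [show (adj.homEquiv F (I.cocomplex.X q)).symm b ≫ I.cocomplex.d q (q + 1) =
          tr (q + 1) (b ≫ K.d q (q + 1)) from hd q (q + 1) b] at hg
        have h2 := (adj.homEquiv F (I.cocomplex.X (q + 1))).symm.injective hg
        have h3 : ((show F ⟶ K.X q from b) ≫ K.toCycles q (q + 1)) ≫ K.iCycles (q + 1) = z ≫ K.iCycles (q + 1) := by
          rw [Category.assoc, K.toCycles_i]
          exact h2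
        rw [← (cancel_mono (K.iCycles (q + 1))).1 h3, Category.assoc, K.toCycles_comp_homologyπ, comp_zero]
      · obtain ⟨b, rfl⟩ := exists_boundary hinj hK z h
        exact ⟨tr q b, by rw [hd, Category.assoc, K.toCycles_i]⟩
  refine ⟨fun θ θ' h => ?_, fun x => ?_⟩
  · simp only [key] at h
    rw [← sub_eq_zero, InjectiveResolution.sub_extMk] at h
    simp only [hsub, ← Preadditive.sub_comp] at h
    have h2 := (hzero _).1 h
    rwa [Category.assoc, hs, Category.comp_id, sub_eq_zero] at h2
  · obtain ⟨f, hf, rfl⟩ := I.extMk_surjective x (c + 1) rfl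
    obtain ⟨g, rfl⟩ := (adj.homEquiv F (I.cocomplex.X c)).symm.surjective f
    have hg : g ≫ K.d c (c + 1) = 0 := by
      apply (adj.homEquiv F (I.cocomplex.X (c + 1))).symm.injective
      exact ((hd c (c + 1) g).symm.trans hf).trans (htr0 (c + 1)).symm
    let z := K.liftCycles g (c + 1) (by simp) hg
    refine ⟨z ≫ K.homologyπ c, ?_⟩
    simp only [key]
    rw [← sub_eq_zero, InjectiveResolution.sub_extMk]
    have hgz : (adj.homEquiv F (I.cocomplex.X c)).symm g = tr c (z ≫ K.iCycles c) := by
      rw [K.liftCycles_i]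
    simp only [hgz, hsub, ← Preadditive.sub_comp]
    exact (hzero _).2 (by rw [Preadditive.sub_comp, Category.assoc, hs, Category.comp_id, sub_self])

end Groth.Agent.SerreDual.ExtAdjoint
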