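import Groth.Agent.SerreDual.ProjDualAll
import Groth.Agent.SerreDual.ExtLocFree
import Mathlib.LinearAlgebra.Basis.VectorSpace

/-!
# The Yoneda pairing and its perfectness

`Ext^i(F, ω) → (Ext^j(O, F))'` for `j + i = n`, natural in `F` by associativity of the Yoneda product.
-/

set_option autoImplicit false
set_option linter.style.haveILetI false
set_option backward.isDefEq.respectTransparency.types false

universe u

open CategoryTheory CategoryTheory.Abelian CategoryTheory.Limits AlgebraicGeometry Opposite TopologicalSpace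
open Groth.Agent.Coherent Groth.Agent.EulerLib

namespace Groth.Agent.SerreDual

variable {k : Type u} [Field k] {X : Scheme.{u}} [X.Over (Spec (CommRingCat.of k))] [HasExt.{u} X.Modules]
  {n : ℕ} {ω : X.Modules} (t : Coh.HH X ω n →ₗ[k] k)

/-- The trace on `Ext^n(O, ω)`. -/
noncomputable def extTrace : Ext ((freeModOn X).obj ⊤) ω n →ₗ[k] k :=
  t ∘ₗ (extHHLin k ω n).toLinearMap

/-- The Yoneda pairing. -/
noncomputable def pairing (F : X.Modules) {i j : ℕ} (h : j + i = n) :
    Ext F ω i →ₗ[k] Module.Dual k (Ext ((freeModOn X).obj ⊤) F j) :=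
  ((Ext.bilinearCompOfLinear k ((freeModOn X).obj ⊤) F ω j i n h).compr₂ (extTrace t)).flip

theorem pairing_apply {F : X.Modules} {i j : ℕ} (h : j + i = n) (x : Ext F ω i)
    (y : Ext ((freeModOn X).obj ⊤) F j) : pairing t F h x y = extTrace t (y.comp x h) := rfl

/-- Naturality of the pairing. -/
theorem pairing_natural {F G : X.Modules} (f : F ⟶ G) {i j : ℕ} (h : j + i = n) (x : Ext G ω i)
    (y : Ext ((freeModOn X).obj ⊤) F j) :
    pairing t F h ((Ext.mk₀ f).comp x (zero_add i)) y = pairing t G h x (y.comp (Ext.mk₀ f) (add_zero j)) := by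
  rw [pairing_apply, pairing_apply, Ext.comp_assoc_of_second_deg_zero]

/-- In degree zero the pairing is the representing map. -/
theorem pairing_mk₀ {F : X.Modules} (φ : F ⟶ ω) (y : Ext ((freeModOn X).obj ⊤) F n) :
    pairing t F (add_zero n) (Ext.mk₀ φ) y = t (hmap k φ n (extHHLin k F n y)) := by
  show t (extHH ω n (y.comp (Ext.mk₀ φ) (add_zero n))) = t (hmap k φ n (extHH F n y))
  rw [extHH_natural, hmap_eq]

theorem bijective_pairing_zero {F : X.Modules} (hF : Rep t F) :
    Function.Bijective (pairing t F (add_zero n)) := by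
  have key : ∀ φ : F ⟶ ω, pairing t F (add_zero n) (Ext.mk₀ φ) =
      (extHHLin k F n).toLinearMap.dualMap (dualEquiv t hF φ) := fun φ =>
    LinearMap.ext fun y => pairing_mk₀ t φ y
  refine ⟨fun a b h => ?_, fun ψ => ?_⟩
  · obtain ⟨φ, rfl⟩ := (Ext.mk₀_bijective _ _).2 a
    obtain ⟨φ', rfl⟩ := (Ext.mk₀_bijective _ _).2 b
    rw [key, key] at h
    exact congrArg Ext.mk₀ ((dualEquiv t hF).injective
      (LinearMap.dualMap_injective_of_surjective (extHHLin k F n).surjective h))
  · refine ⟨Ext.mk₀ ((dualEquiv t hF).symm ((extHHLin k F n).symm.toLinearMap.dualMap ψ)), ?_⟩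
    rw [key, LinearEquiv.apply_symm_apply]
    exact LinearMap.ext fun y => congrArg ψ ((extHHLin k F n).symm_apply_apply y)

/-- Perfectness of the pairing up to degree `s`, by dimension shifting. -/
theorem bijective_pairing (P : X.Modules → Prop) (hrep : ∀ F, P F → Rep t F) (s : ℕ)
    (hcov : ∀ F, P F → ∃ (K E : X.Modules) (ι : K ⟶ E) (p : E ⟶ F) (w : ι ≫ p = 0),
      (ShortComplex.mk ι p w).ShortExact ∧ P K ∧ P E ∧
      (∀ i, i < s → Subsingleton (Ext E ω (i + 1))) ∧
      ∀ q, q < n → n ≤ q + s → Subsingleton (Ext ((freeModOn X).obj ⊤) E q)) :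
    ∀ (i : ℕ), i ≤ s → ∀ (F : X.Modules), P F → ∀ (j : ℕ) (h : j + i = n),
      Function.Bijective (pairing t F h)
  | 0, _, F, hF, j, h => by
    obtain rfl : j = n := by omega
    exact bijective_pairing_zero t (hrep F hF)
  | i + 1, hi, F, hF, j, h => by
    obtain ⟨K, E, ι, p, w, hS, hK, hE, hExt, hH⟩ := hcov F hF
    have h' : j + 1 + i = n := by omega
    have ihK := bijective_pairing P hrep s hcov i (by omega) K hK (j + 1) h'
    have ihE := bijective_pairing P hrep s hcov i (by omega) E hE (j + 1) h'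
    let δ : Ext ((freeModOn X).obj ⊤) F j →ₗ[k] Ext ((freeModOn X).obj ⊤) K (j + 1) :=
      hS.extClass.postcompOfLinear k _ rfl
    have hδ : Function.Injective δ := (injective_iff_map_eq_zero _).2 fun y hy => by
      haveI := hH j (by omega) (by omega)
      obtain ⟨z, hz⟩ := Ext.covariant_sequence_exact₃ _ hS y rfl hy
      rw [← hz, Subsingleton.elim z 0, Ext.zero_comp]
    have hD : ∀ (x : Ext K ω i) (y : Ext ((freeModOn X).obj ⊤) F j),
        pairing t F h (hS.extClass.comp x (Nat.add_comm 1 i)) y = pairing t K h' x (δ y) := fun x y => by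
      rw [pairing_apply, pairing_apply]
      exact congrArg (extTrace t) (Ext.comp_assoc y hS.extClass x rfl (Nat.add_comm 1 i) (by omega)).symm
    have hsurj : ∀ x : Ext F ω (i + 1), ∃ x' : Ext K ω i, hS.extClass.comp x' (Nat.add_comm 1 i) = x :=
      fun x => by
        haveI : Subsingleton (Ext (ShortComplex.mk ι p w).X₂ ω (i + 1)) := hExt i (by omega)
        exact Ext.contravariant_sequence_exact₃ hS ω x (Subsingleton.elim _ _) (Nat.add_comm 1 i)
    refine ⟨(injective_iff_map_eq_zero _).2 fun x hx => ?_, fun ψ => ?_⟩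
    · obtain ⟨x', rfl⟩ := hsurj x
      let post : Ext ((freeModOn X).obj ⊤) K (j + 1) →ₗ[k] Ext ((freeModOn X).obj ⊤) E (j + 1) :=
        (Ext.mk₀ ι).postcompOfLinear k _ (add_zero (j + 1))
      have hle : LinearMap.ker post ≤ LinearMap.ker (pairing t K h' x') := fun z hz => by
        obtain ⟨y, rfl⟩ := Ext.covariant_sequence_exact₁ _ hS z hz rfl
        exact (hD x' y).symm.trans (LinearMap.congr_fun hx y)
      obtain ⟨χ, hχ⟩ : ∃ χ : Module.Dual k (Ext ((freeModOn X).obj ⊤) E (j + 1)),
          χ ∘ₗ post = pairing t K h' x' := by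
        have hmem : pairing t K h' x' ∈ LinearMap.range post.dualMap := by
          rw [LinearMap.range_dualMap_eq_dualAnnihilator_ker]
          exact (Submodule.mem_dualAnnihilator _).2 fun z hz => hle hz
        exact hmem
      obtain ⟨z, rfl⟩ := ihE.2 χ
      have he : x' = (Ext.mk₀ ι).comp z (zero_add i) := ihK.1 (LinearMap.ext fun y => by
        rw [pairing_natural, ← hχ]
        rfl)
      rw [he, ← Ext.comp_assoc_of_second_deg_zero, hS.extClass_comp, Ext.zero_comp]
    · obtain ⟨ψ', rfl⟩ := LinearMap.dualMap_surjective_of_injective hδ ψ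
      obtain ⟨x', rfl⟩ := ihK.2 ψ'
      exact ⟨hS.extClass.comp x' (Nat.add_comm 1 i), LinearMap.ext fun y => hD x' y⟩

section ProjSpace

variable (n k) [HasExt.{u} (CohB1.ProjSpace n k).Modules]

/-- Serre duality on projective space by the natural pairing. -/
theorem exists_bijective_pairing :
    ∃ t : Coh.HH (CohB1.ProjSpace n k) (Twist.twistProjSpace n k (-((n : ℤ) + 1))) n →ₗ[k] k,
      ∀ (i : ℕ), i ≤ n → ∀ (F : (CohB1.ProjSpace n k).Modules), Coh.IsCoh F → ∀ (j : ℕ) (h : j + i = n),
        Function.Bijective (pairing t F h) := by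
  haveI : IsProper ((CohB1.ProjSpace n k) ↘ Spec (CommRingCat.of k)) := isProper_projSpace_toSpec n k
  haveI := isNoetherian_of_proper (k := k) (X := CohB1.ProjSpace n k)
  haveI := hasFiniteBiproducts (CohB1.ProjSpace n k)
  obtain ⟨t, ht⟩ := exists_trace (n := n) (k := k)
  refine ⟨t, bijective_pairing t Coh.IsCoh (fun F hF => rep_coh t ht hF) n fun M hM => ?_⟩
  haveI : Coh.IsQCoh M := hM.1
  obtain ⟨N₀, hN₀⟩ := (projPowCover n k).exists_epi hM
  obtain ⟨r, π, hπ⟩ := hN₀ (n + 1 + N₀) (by omega) _ (twistGens n k (n + 1 + N₀))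
  haveI := isQCoh_twistProjSpace (n := n) (R := k) (-((n + 1 + N₀ : ℕ) : ℤ))
  haveI := hπ
  have hE : Coh.IsCoh (⨁ fun _ : Fin r => Twist.twistProjSpace n k (-((n + 1 + N₀ : ℕ) : ℤ))) :=
    isCoh_biproduct _ fun _ => isCoh_of_gens (twistGens n k (n + 1 + N₀))
  refine ⟨kernel π, _, kernel.ι π, π, kernel.condition π,
    { exact := ShortComplex.exact_of_f_is_kernel _ (kernelIsKernel π), mono_f := inferInstance, epi_g := hπ },
    isCoh_kernel π hE hM.1, hE,
    fun q _ => subsingleton_ext_biproduct _ _ fun _ => subsingleton_ext_twist n k _ (by omega) q,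
    fun q hq _ => ?_⟩
  haveI : Subsingleton (Coh.HH (CohB1.ProjSpace n k)
      (⨁ fun _ : Fin r => Twist.twistProjSpace n k (-((n + 1 + N₀ : ℕ) : ℤ))) q) :=
    subsingleton_HH_biproduct (k := k) q fun _ =>
      subsingleton_HH_twist (n := n) (R := k) (d := -((n + 1 + N₀ : ℕ) : ℤ)) q (fun h => by omega) (fun h => by omega)
  exact (extHH _ q).toEquiv.subsingleton

end ProjSpace

end Groth.Agent.SerreDual
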