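import Groth.Agent.SerreDual.ExtShProj
import Groth.Agent.SerreDual.ExtAdjoint
import Groth.Agent.SerreDual.ExtPairing
import Groth.Agent.TopDim.Basic
import Mathlib.CategoryTheory.Adjunction.Restrict
import Mathlib.CategoryTheory.Adjunction.FullyFaithful

/-!
# The dualizing module of a closed subscheme as a sheaf `Ext`
-/

set_option autoImplicit false
set_option linter.style.haveILetI false
set_option backward.isDefEq.respectTransparency.types false

universe u

open CategoryTheory CategoryTheory.Abelian CategoryTheory.Limits AlgebraicGeometry Opposite TopologicalSpace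
open Groth.Agent.Coherent Groth.Agent.PicLib Groth.Agent.AmpleLib Groth.Agent.EulerLib

namespace Groth.Agent.SerreDual

/-- A space all of whose irreducible components have dimension at most `r` has dimension at most `r`. -/
theorem dim_le_of_components {T : Type u} [TopologicalSpace T] {r : ℕ}
    (h : ∀ Z : Set T, Z ∈ irreducibleComponents T → topologicalKrullDim Z ≤ (r : WithBot ℕ∞)) :
    topologicalKrullDim T ≤ (r : WithBot ℕ∞) := by
  refine TopDim.dim_le_iff.2 fun l => ?_
  obtain ⟨Z, hZ, hle⟩ := exists_mem_irreducibleComponents_subset_of_isIrreducible _ l.last.isIrreducible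
  exact (TopDim.le_dim_of_subset l Z hle).trans (h Z hZ)

section Adjoint

variable {X Y : Scheme.{u}} (ι : X ⟶ Y) [IsClosedImmersion ι]

/-- `O` is a unit for the tensor product, naturally. -/
noncomputable def unitTensENatIso : tensE (Coh.structureModule X) ≅ 𝟭 X.Modules :=
  NatIso.ofComponents (fun M => unitTensorIso M) fun {M N} g => AmpleLib.hom_ext fun U a b => by
    show (unitBilin N).desc.app U ((tE (Coh.structureModule X) g).app U (tmul a b)) =
      g.app U ((unitBilin M).desc.app U (tmul a b))
    rw [show (tE (Coh.structureModule X) g).app U (tmul a b) = tmul a (g.app U b) from tensE_map_tmul _ g U a b,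
      Bilin.desc_tmul, Bilin.desc_tmul]
    exact (Scheme.Modules.Hom.app_smul g (show Γ(X, U) from a) b).symm

/-- `ι_* ι^*` is tensoring with `ι_* O`. -/
noncomputable def pushPullTensIso : Scheme.Modules.pullback ι ⋙ Scheme.Modules.pushforward ι ≅
    tensE ((Scheme.Modules.pushforward ι).obj (Coh.structureModule X)) :=
  Functor.isoWhiskerRight
      ((Functor.rightUnitor _).symm ≪≫ Functor.isoWhiskerLeft _ (unitTensENatIso (X := X)).symm)
      (Scheme.Modules.pushforward ι) ≪≫
    (NatIso.ofComponents (fun N => asIso (DCat.ClosedPush.projMap ι (Coh.structureModule X) N)) fun {N N'} ψ =>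
      DCat.ClosedPush.projMap_nat₂ ι (Coh.structureModule X) ψ :
      tensE ((Scheme.Modules.pushforward ι).obj (Coh.structureModule X)) ≅
        (Scheme.Modules.pullback ι ⋙ tensE (Coh.structureModule X)) ⋙ Scheme.Modules.pushforward ι).symm

/-- The right adjoint of `ι_*`. -/
noncomputable abbrev shriekR : Y.Modules ⥤ X.Modules :=
  internalHomFunctor ((Scheme.Modules.pushforward ι).obj (Coh.structureModule X)) ⋙ Scheme.Modules.pullback ι

/-- `Hom(ι_* O, -)` is the right adjoint of `ι_* ι^*`. -/
noncomputable def pushPullAdj : Scheme.Modules.pullback ι ⋙ Scheme.Modules.pushforward ι ⊣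
    internalHomFunctor ((Scheme.Modules.pushforward ι).obj (Coh.structureModule X)) :=
  (tensorHomAdj ((Scheme.Modules.pushforward ι).obj (Coh.structureModule X))).ofNatIsoLeft (pushPullTensIso ι).symm

/-- `Hom(ι_* O, I)` is a module on the closed subscheme. -/
theorem isIso_unit_internalHom (I : Y.Modules) :
    IsIso ((Scheme.Modules.pullbackPushforwardAdjunction ι).unit.app
      (internalHom ((Scheme.Modules.pushforward ι).obj (Coh.structureModule X)) I)) := by
  let adj := Scheme.Modules.pullbackPushforwardAdjunction ι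
  let a := pushPullAdj ι
  let S := Scheme.Modules.pullback ι ⋙ Scheme.Modules.pushforward ι
  let H := internalHomFunctor ((Scheme.Modules.pushforward ι).obj (Coh.structureModule X))
  haveI hc : ∀ M : X.Modules, IsIso (adj.counit.app M) := fun M => DCat.ClosedPush.isIso_counit ι M
  haveI hu : ∀ G : Y.Modules, IsIso (adj.unit.app (S.obj G)) := fun G => by
    show IsIso (adj.unit.app ((Scheme.Modules.pushforward ι).obj ((Scheme.Modules.pullback ι).obj G)))
    exact IsIso.of_isIso_fac_right (adj.right_triangle_components ((Scheme.Modules.pullback ι).obj G))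
  have hidem : ∀ G : Y.Modules, S.map (adj.unit.app G) = adj.unit.app (S.obj G) := fun G => by
    have h1 : adj.unit.app (S.obj G) ≫
        (Scheme.Modules.pushforward ι).map (adj.counit.app ((Scheme.Modules.pullback ι).obj G)) = 𝟙 (S.obj G) :=
      adj.right_triangle_components ((Scheme.Modules.pullback ι).obj G)
    have h2 : S.map (adj.unit.app G) ≫
        (Scheme.Modules.pushforward ι).map (adj.counit.app ((Scheme.Modules.pullback ι).obj G)) = 𝟙 (S.obj G) := by
      show (Scheme.Modules.pushforward ι).map ((Scheme.Modules.pullback ι).map (adj.unit.app G)) ≫ _ = _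
      rw [← Functor.map_comp]
      exact (congrArg (Scheme.Modules.pushforward ι).map (adj.left_triangle_components G)).trans
        ((Scheme.Modules.pushforward ι).map_id _)
    exact (cancel_mono _).1 (h2.trans h1.symm)
  show IsIso (adj.unit.app (H.obj I))
  let ρ : S.obj (H.obj I) ⟶ H.obj I := a.homEquiv _ _ (inv (adj.unit.app (S.obj (H.obj I))) ≫ a.counit.app I)
  have h1 : adj.unit.app (H.obj I) ≫ ρ = 𝟙 _ := by
    apply (a.homEquiv (H.obj I) I).symm.injective
    rw [a.homEquiv_naturality_left_symm, Equiv.symm_apply_apply, a.homEquiv_counit]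
    show S.map (adj.unit.app (H.obj I)) ≫ inv (adj.unit.app (S.obj (H.obj I))) ≫ a.counit.app I =
      S.map (𝟙 (H.obj I)) ≫ a.counit.app I
    rw [hidem, S.map_id, IsIso.hom_inv_id_assoc, Category.id_comp]
  refine ⟨ρ, h1, ?_⟩
  have h2 : ρ ≫ adj.unit.app (H.obj I) = adj.unit.app (S.obj (H.obj I)) ≫ S.map ρ := adj.unit.naturality ρ
  rw [h2, ← hidem, ← Functor.map_comp, h1]
  exact S.map_id _

/-- `Hom(ι_* O, -)` factors through the closed subscheme. -/
noncomputable def internalHomPushIso :
    internalHomFunctor ((Scheme.Modules.pushforward ι).obj (Coh.structureModule X)) ≅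
      shriekR ι ⋙ Scheme.Modules.pushforward ι :=
  NatIso.ofComponents (fun I => @asIso _ _ _ _ ((Scheme.Modules.pullbackPushforwardAdjunction ι).unit.app _)
    (isIso_unit_internalHom ι I)) fun g =>
    (Scheme.Modules.pullbackPushforwardAdjunction ι).unit.naturality
      ((internalHomFunctor ((Scheme.Modules.pushforward ι).obj (Coh.structureModule X))).map g)

theorem isIso_counit_nat : IsIso (Scheme.Modules.pullbackPushforwardAdjunction ι).counit :=
  haveI : ∀ M : X.Modules, IsIso ((Scheme.Modules.pullbackPushforwardAdjunction ι).counit.app M) := fun M =>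
    DCat.ClosedPush.isIso_counit ι M
  NatIso.isIso_of_isIso_app _

/-- Direct image along a closed immersion is fully faithful. -/
noncomputable def pushFF : (Scheme.Modules.pushforward ι).FullyFaithful :=
  haveI := isIso_counit_nat ι
  (Scheme.Modules.pullbackPushforwardAdjunction ι).fullyFaithfulROfIsIsoCounit

/-- The adjunction `ι_* ⊣ ι^* Hom(ι_* O, -)`. -/
noncomputable def shriekAdj : Scheme.Modules.pushforward ι ⊣ shriekR ι :=
  haveI := isIso_counit_nat ι
  (pushPullAdj ι).restrictFullyFaithful (pushFF ι) (Functor.FullyFaithful.id Y.Modules)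
    (Functor.isoWhiskerRight (asIso (Scheme.Modules.pullbackPushforwardAdjunction ι).counit)
      (Scheme.Modules.pushforward ι))
    (internalHomPushIso ι)

/-- The universal class: maps into the first nonvanishing sheaf `Ext` are `Ext` classes. -/
theorem exists_universal_push [HasExt.{u} Y.Modules] {G : Y.Modules} (I : InjectiveResolution G) (c : ℕ)
    (hlow : ∀ q, q < c →
      IsZero ((homCx ((Scheme.Modules.pushforward ι).obj (Coh.structureModule X)) I).homology q))
    {ω : X.Modules} (e : (Scheme.Modules.pushforward ι).obj ω ≅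
      (homCx ((Scheme.Modules.pushforward ι).obj (Coh.structureModule X)) I).homology c) :
    ∃ ε : Ext ((Scheme.Modules.pushforward ι).obj ω) G c, ∀ F : X.Modules,
      Function.Bijective fun φ : F ⟶ ω =>
        (Ext.mk₀ ((Scheme.Modules.pushforward ι).map φ)).comp ε (zero_add c) := by
  let q := Scheme.Modules.pushforward ι
  haveI : q.IsLeftAdjoint := (shriekAdj ι).isLeftAdjoint
  haveI : q.IsRightAdjoint := (Scheme.Modules.pullbackPushforwardAdjunction ι).isRightAdjoint
  haveI : PreservesFiniteColimits q := inferInstance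
  haveI : PreservesFiniteLimits q := inferInstance
  haveI : q.Additive := Functor.additive_of_preserves_binary_products q
  haveI : (shriekR ι).Additive := (shriekAdj ι).right_adjoint_additive
  haveI : q.Faithful := (pushFF ι).faithful
  let A := q.obj (Coh.structureModule X)
  haveI : (internalHomFunctor A).Additive := additive_internalHomFunctor A
  let L := ((shriekR ι).mapHomologicalComplex (ComplexShape.up ℕ)).obj I.cocomplex
  let w : (q.mapHomologicalComplex (ComplexShape.up ℕ)).obj L ≅ homCx A I :=
    (NatIso.mapHomologicalComplex (internalHomPushIso ι) (ComplexShape.up ℕ)).symm.app I.cocomplex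
  have hL : ∀ i, Nonempty (q.obj (L.homology i) ≅ (homCx A I).homology i) := fun i =>
    ⟨((L.sc i).mapHomologyIso q).symm ≪≫
      (HomologicalComplex.homologyFunctor _ (ComplexShape.up ℕ) i).mapIso w⟩
  have hlow' : ∀ i, i < c → IsZero (L.homology i) := fun i hi => by
    obtain ⟨v⟩ := hL i
    rw [IsZero.iff_id_eq_zero]
    apply q.map_injective
    rw [q.map_id, q.map_zero]
    exact (IsZero.iff_id_eq_zero _).1 ((hlow i hi).of_iso v)
  obtain ⟨ε, hε⟩ := ExtAdjoint.exists_universal (shriekAdj ι) I c hlow'
  obtain ⟨v⟩ := hL c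
  let e' : ω ≅ L.homology c := (pushFF ι).preimageIso (e ≪≫ v.symm)
  refine ⟨(Ext.mk₀ (q.map e'.hom)).comp ε (zero_add c), fun F => ?_⟩
  have key : ∀ φ : F ⟶ ω, (Ext.mk₀ (q.map φ)).comp ((Ext.mk₀ (q.map e'.hom)).comp ε (zero_add c)) (zero_add c) =
      (Ext.mk₀ (q.map (φ ≫ e'.hom))).comp ε (zero_add c) := fun φ => by
    rw [Ext.mk₀_comp_mk₀_assoc, ← q.map_comp]
  exact (congrArg Function.Bijective (funext key)).mpr
    ((hε F).comp ⟨fun a b h => (cancel_mono e'.hom).1 h, fun θ => ⟨θ ≫ e'.inv, by simp⟩⟩)

end Adjoint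

section Trace

variable {k : Type u} [Field k] {N : ℕ}
variable {X : Scheme.{u}} [X.Over (Spec (CommRingCat.of k))] (ι : X ⟶ CohB1.ProjSpace N k) [IsClosedImmersion ι]
  (hι : ι ≫ CohB1.ProjSpace.toSpec N k = X ↘ Spec (CommRingCat.of k))

include hι in
/-- Sheaf `Ext` of `ι_* O` into the dualizing sheaf vanishes below the codimension. -/
theorem isZero_homology_push_of_dim (I : InjectiveResolution (Twist.twistProjSpace N k (-((N : ℤ) + 1)))) {r : ℕ}
    (hdim : topologicalKrullDim X ≤ (r : WithBot ℕ∞)) {i : ℕ} (hi : i + r < N) :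
    IsZero ((homCx ((Scheme.Modules.pushforward ι).obj (Coh.structureModule X)) I).homology i) := by
  haveI := (isProper_and_ample_of_closedImmersion ι hι).1
  haveI := isNoetherian_of_proper (k := k) (X := X)
  haveI := isSeparated_of_proper (k := k) (X := X)
  refine (isZero_homology_push_iff ι hι I (Nat.sub_add_cancel (show i ≤ N by omega))).2 ⟨0, fun m _ => ?_⟩
  haveI : Coh.IsQCoh ((Scheme.Modules.pullback ι).obj (Twist.twistProjSpace N k (-(m : ℤ)))) :=
    (CohBC.isCoh_of_isFinLocFree (isFinLocFree_of_invertible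
      (PicLoc.isInvertible_pullback ι (isInvertible_twist N k (-(m : ℤ)))))).1
  exact subsingleton_HH_of_dim _ hdim (by omega)

include hι in
/-- Cohomology on the closed subscheme as `Ext` on projective space. -/
theorem exists_trace_extSh (I : InjectiveResolution (Twist.twistProjSpace N k (-((N : ℤ) + 1)))) {r : ℕ}
    (hr : r ≤ N) (hdim : topologicalKrullDim X ≤ (r : WithBot ℕ∞)) {ω : X.Modules}
    (e : (Scheme.Modules.pushforward ι).obj ω ≅
      (homCx ((Scheme.Modules.pushforward ι).obj (Coh.structureModule X)) I).homology (N - r)) :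
    ∃ t : Coh.HH X ω r →ₗ[k] k, ∀ F : X.Modules, Coh.IsCoh F → Rep t F := by
  haveI : HasExt.{u} (CohB1.ProjSpace N k).Modules :=
    haveI : IsGrothendieckAbelian.{u} (CohB1.ProjSpace N k).Modules :=
      DCat.schemeModules_isGrothendieckAbelian _
    inferInstance
  haveI : IsProper ((CohB1.ProjSpace N k) ↘ Spec (CommRingCat.of k)) := isProper_projSpace_toSpec N k
  haveI := isNoetherian_of_proper (k := k) (X := CohB1.ProjSpace N k)
  haveI := (isProper_and_ample_of_closedImmersion ι hι).1
  haveI := isNoetherian_of_proper (k := k) (X := X)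
  haveI : Coh.IsQCoh ω := (isCoh_of_push_homology ι hι I (N - r) e).1
  obtain ⟨tP, htP⟩ := exists_bijective_pairing (n := N) k
  obtain ⟨ε, hε⟩ := exists_universal_push ι I (N - r)
    (fun q hq => isZero_homology_push_of_dim ι hι I hdim (by omega)) e
  have h : r + (N - r) = N := Nat.add_sub_of_le hr
  let q := Scheme.Modules.pushforward ι
  let a : ∀ (M : X.Modules) [Coh.IsQCoh M],
      Coh.HH X M r ≃ₗ[k] Ext ((freeModOn (CohB1.ProjSpace N k)).obj ⊤) (q.obj M) r :=
    fun M _ => (hpush ι k hι M r).trans (extHHLin k (q.obj M) r).symm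
  refine ⟨(pairing tP (q.obj ω) h ε) ∘ₗ (a ω).toLinearMap, fun F hF => ?_⟩
  haveI : Coh.IsQCoh F := hF.1
  have hnat : ∀ (φ : F ⟶ ω) (x : Coh.HH X F r),
      a ω (hmap k φ r x) = (a F x).comp (Ext.mk₀ (q.map φ)) (add_zero r) := fun φ x => by
    apply (extHHLin k (q.obj ω) r).injective
    show extHHLin k (q.obj ω) r ((extHHLin k (q.obj ω) r).symm (hpush ι k hι ω r (hmap k φ r x))) =
      extHH (q.obj ω) r ((a F x).comp (Ext.mk₀ (q.map φ)) (add_zero r))
    rw [LinearEquiv.apply_symm_apply, extHH_natural, hpush_natural, hmap_eq]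
    refine congrArg _ ?_
    exact ((extHHLin k (q.obj F) r).apply_symm_apply (hpush ι k hι F r x)).symm
  have hb : Function.Bijective fun φ : F ⟶ ω =>
      (pairing tP (q.obj F) h ((Ext.mk₀ (q.map φ)).comp ε (zero_add (N - r)))) ∘ₗ (a F).toLinearMap := by
    have h1 := (htP (N - r) (Nat.sub_le N r) (q.obj F) (isCoh_push_finite ι hF) r h).comp (hε F)
    have h2 : Function.Bijective fun ψ : Module.Dual k (Ext ((freeModOn (CohB1.ProjSpace N k)).obj ⊤) (q.obj F) r) =>
        ψ ∘ₗ (a F).toLinearMap := by
      exact (a F).dualMap.bijective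
    exact h2.comp h1
  refine (congrArg Function.Bijective (funext fun φ => ?_)).mpr hb
  refine LinearMap.ext fun x => ?_
  show pairing tP (q.obj ω) h ε (a ω (hmap k φ r x)) =
    pairing tP (q.obj F) h ((Ext.mk₀ (q.map φ)).comp ε (zero_add (N - r))) (a F x)
  rw [hnat, pairing_natural]

end Trace

end Groth.Agent.SerreDual
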