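import Groth.Agent.CurveRR24.Degree
import Groth.Agent.CurveRR24.PointInv
import Groth.Agent.CurveRR24.Ample
import Groth.Agent.VarietyLib.Dual
import Groth.Agent.MorProj.InvTensor

/-!
# Proper integral curves carry ample invertible modules
-/

set_option autoImplicit false
set_option linter.style.haveILetI false
set_option backward.isDefEq.respectTransparency.types false

universe u

open CategoryTheory CategoryTheory.Limits AlgebraicGeometry Opposite TopologicalSpace
open Groth.Agent.Coherent Groth.Agent.PicLib Groth.Agent.AmpleLib Groth.Agent.EulerLib Groth.Agent.CurveRR24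

namespace Groth.Agent.SerreDual

variable (k : Type u) [Field k] {X : Scheme.{u}} [X.Over (Spec (CommRingCat.of k))]
  [IsProper (X ↘ Spec (CommRingCat.of k))] [IsIntegral X]

include k in
/-- An ideal, locally principal, cutting out finitely many points. -/
theorem exists_invertible_ideal (hdim : topologicalKrullDim X = 1) :
    ∃ I : X.IdealSheafData, PicF.IsInvertible (ClSub.idealMod I) ∧
      genericPoint X ∉ (I.support : Set X) ∧ (I.support : Set X).Nonempty := by
  haveI := isNoetherian_of_proper k (X := X)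
  obtain ⟨P, -, hP⟩ := (isClosed_univ (X := X)).exists_closed_singleton ⟨genericPoint X, trivial⟩
  obtain ⟨U, hU, hPU, -⟩ := exists_isAffineOpen_mem_and_subset (x := P) (U := ⊤) trivial
  have hηU : genericPoint X ∈ U :=
    (genericPoint_spec X).mem_open_set_iff U.2 |>.2 ⟨P, trivial, hPU⟩
  have hPη : P ≠ genericPoint X := fun h => CurvesLib24.not_isClosed_genericPoint hdim (h ▸ hP)
  haveI : Nonempty U := ⟨⟨P, hPU⟩⟩
  haveI : IsDomain Γ(X, U) := inferInstance
  -- a function vanishing at `P`
  obtain ⟨a, ha0, haP⟩ : ∃ a : Γ(X, U), a ≠ 0 ∧ P ∉ X.basicOpen a := by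
    by_contra h
    push Not at h
    have hbot : ∀ b : Γ(X, U), b ∈ (hU.primeIdealOf ⟨P, hPU⟩).asIdeal → b = 0 := fun b hb => by
      by_contra hb0
      have h1 := h b hb0
      have h2 : hU.fromSpec (hU.primeIdealOf ⟨P, hPU⟩) = P := hU.fromSpec_primeIdealOf ⟨P, hPU⟩
      rw [← h2] at h1
      have h3 : hU.primeIdealOf ⟨P, hPU⟩ ∈ PrimeSpectrum.basicOpen b := by
        rw [← hU.fromSpec_preimage_basicOpen b]; exact h1
      exact h3 hb
    have h2 : hU.fromSpec (hU.primeIdealOf ⟨P, hPU⟩) = P := hU.fromSpec_primeIdealOf ⟨P, hPU⟩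
    have h3 : hU.fromSpec (hU.primeIdealOf ⟨genericPoint X, hηU⟩) = genericPoint X :=
      hU.fromSpec_primeIdealOf ⟨genericPoint X, hηU⟩
    have hgen : P ⤳ genericPoint X := by
      rw [← h2, ← h3]
      refine Specializes.map ((PrimeSpectrum.le_iff_specializes _ _).1 ?_) hU.fromSpec.continuous
      intro b hb
      rw [hbot b hb]
      exact zero_mem _
    exact hPη (hgen.mem_closed hP rfl).symm
  let q : Γ(X, U) →+* Γ(X, U) ⧸ Ideal.span {a} := Ideal.Quotient.mk _
  let j : Spec (CommRingCat.of (Γ(X, U) ⧸ Ideal.span {a})) ⟶ Spec Γ(X, U) := Spec.map (CommRingCat.ofHom q)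
  haveI : IsClosedImmersion j := IsClosedImmersion.spec_of_surjective _ Ideal.Quotient.mk_surjective
  let ι := j ≫ hU.fromSpec
  -- the image
  have hrange : Set.range ι = hU.fromSpec '' PrimeSpectrum.zeroLocus {a} := by
    show Set.range (⇑hU.fromSpec ∘ ⇑j) = _
    rw [Set.range_comp]
    congr 1
    show Set.range (PrimeSpectrum.comap q) = _
    rw [range_comap_of_surjective _ _ Ideal.Quotient.mk_surjective, Ideal.mk_ker,
      PrimeSpectrum.zeroLocus_span]
  have hηr : genericPoint X ∉ Set.range ι := by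
    rintro ⟨w, hw⟩
    have h1 : genericPoint X ∈ hU.fromSpec '' PrimeSpectrum.zeroLocus {a} := hrange ▸ ⟨w, hw⟩
    obtain ⟨p, hp, hpη⟩ := h1
    have h2 : genericPoint X ∈ X.basicOpen a := by
      refine (genericPoint_spec X).mem_open_set_iff (X.basicOpen a).2 |>.2 ?_
      have : X.basicOpen a ≠ ⊥ := by rw [Ne, basicOpen_eq_bot_iff]; exact ha0
      obtain ⟨z, hz⟩ := Set.nonempty_iff_ne_empty.2 fun h => this (Opens.ext h)
      exact ⟨z, trivial, hz⟩
    rw [← hpη] at h2
    have h3 : p ∈ PrimeSpectrum.basicOpen a := by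
      rw [← hU.fromSpec_preimage_basicOpen a]; exact h2
    exact h3 (hp rfl)
  have hclosed : IsClosed (Set.range ι) := by
    let C := closure (Set.range ι)
    have hηC : genericPoint X ∉ C := by
      intro h
      have hr : Set.range ι = (U : Set X) ∩ C := by
        refine Set.Subset.antisymm ?_ ?_
        · intro z hz
          refine ⟨?_, subset_closure hz⟩
          rw [hrange] at hz
          obtain ⟨p, -, rfl⟩ := hz
          exact hU.range_fromSpec.subset ⟨p, rfl⟩
        · rintro z ⟨hzU, hzC⟩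
          obtain ⟨p, rfl⟩ := hU.range_fromSpec.superset hzU
          rw [show C = closure (hU.fromSpec '' PrimeSpectrum.zeroLocus {a}) from congrArg closure hrange] at hzC
          rw [hrange]
          refine ⟨p, ?_, rfl⟩
          have hcl := (PrimeSpectrum.isClosed_zeroLocus {a})
          have h1 : p ∈ closure (PrimeSpectrum.zeroLocus {a}) :=
            hU.fromSpec.isOpenEmbedding.isInducing.closure_eq_preimage_closure_image _ ▸ hzC
          rwa [hcl.closure_eq] at h1
      exact hηr (hr ▸ ⟨hηU, h⟩)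
    obtain ⟨hfin, hpts, -⟩ := closed_small k hdim.le isClosed_closure hηC
    have : Set.range ι = ⋃ y ∈ Set.range ι, ({y} : Set X) := (Set.biUnion_of_singleton _).symm
    rw [this]
    exact (hfin.subset subset_closure).isClosed_biUnion fun y hy => hpts y (subset_closure hy)
  haveI : IsClosedImmersion ι := .of_isPreimmersion _ hclosed
  let I := ι.ker
  have hsupp : (I.support : Set X) = Set.range ι := by
    rw [ι.support_ker, hclosed.closure_eq]
  have hgen : I.ideal ⟨U, hU⟩ = Ideal.span {a} := by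
    rw [Scheme.Hom.ker_apply]
    have hpre : ι ⁻¹ᵁ U = ⊤ := Opens.ext (Set.eq_univ_of_forall fun w => hU.range_fromSpec.subset ⟨j w, rfl⟩)
    ext b
    rw [RingHom.mem_ker]
    let R := CommRingCat.of (Γ(X, U) ⧸ Ideal.span {a})
    let e : Γ(Spec R, ι ⁻¹ᵁ U) →+* R :=
      ((Spec R).presheaf.map (eqToHom hpre.symm).op ≫ (Scheme.ΓSpecIso R).hom).hom
    have he : Function.Injective e := by
      haveI : IsIso ((Spec R).presheaf.map (eqToHom hpre.symm).op ≫ (Scheme.ΓSpecIso R).hom) := inferInstance
      exact (ConcreteCategory.bijective_of_isIso ((Spec R).presheaf.map (eqToHom hpre.symm).op ≫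
        (Scheme.ΓSpecIso R).hom)).1
    have key : e (ι.app U b) = q b := by
      have h1 : ι.app U ≫ (Spec R).presheaf.map (eqToHom hpre.symm).op ≫ (Scheme.ΓSpecIso R).hom =
          CommRingCat.ofHom q := by
        calc _ = ι.appLE U ⊤ hpre.ge ≫ (Scheme.ΓSpecIso R).hom := by rfl
          _ = CommRingCat.ofHom q := by
            show (j ≫ hU.fromSpec).appLE U ⊤ hpre.ge ≫ _ = _
            rw [Scheme.Hom.comp_appLE, hU.fromSpec_app_self, Category.assoc, Category.assoc,
              Scheme.Hom.map_appLE_assoc]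
            show _ ≫ (j.app ⊤ ≫ (Spec R).presheaf.map (homOfLE (le_refl (⊤ : (Spec R).Opens))).op) ≫ _ = _
            rw [show (homOfLE (le_refl (⊤ : (Spec R).Opens))).op = 𝟙 _ from rfl]; erw [CategoryTheory.Functor.map_id, Category.comp_id]
            show _ ≫ (Spec.map (CommRingCat.ofHom q)).appTop ≫ _ = _
            rw [Scheme.ΓSpecIso_naturality]; exact Iso.inv_hom_id_assoc (Scheme.ΓSpecIso Γ(X, U)) (CommRingCat.ofHom q)
      exact ConcreteCategory.congr_hom h1 b
    rw [← map_eq_zero_iff e he, key, Ideal.Quotient.eq_zero_iff_mem]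
  refine ⟨I, isInvertible_of_gens fun y => ?_, hsupp ▸ hηr, ⟨P, ?_⟩⟩
  · by_cases hy : y ∈ (I.support : Set X)
    · have haU : a ∈ I.ideal ⟨U, hU⟩ := hgen ▸ Ideal.mem_span_singleton_self a
      obtain ⟨s, hs⟩ := (mem_range_idealModι I U a).2
        (RingHom.mem_ker.1 ((I.ker_subschemeι_app ⟨U, hU⟩).symm ▸ haU))
      refine ⟨U, ?_, s, bijective_smul_of_affine_gen I hU hs (IsRegular.of_ne_zero ha0).left hgen⟩
      rw [hsupp, hrange] at hy
      obtain ⟨p, -, rfl⟩ := hy
      exact hU.range_fromSpec.subset ⟨p, rfl⟩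
    · obtain ⟨s, hs⟩ := exists_idealModι_eq_one I
      haveI := mono_idealModι I
      refine ⟨_, hy, s, fun V hV => ?_⟩
      have hkV : (ClSub.idealModι I).app V (resM _ hV s) = (1 : Γ(X, V)) := by
        rw [app_resM]
        exact (congrArg (resM (Coh.structureModule X) hV) hs).trans (map_one (res hV))
      have key : ∀ r : Γ(X, V), (ClSub.idealModι I).app V (r • resM _ hV s) = r := fun r => by
        rw [Scheme.Modules.Hom.app_smul, hkV]; exact mul_one r
      refine ⟨fun b c h => ?_, fun x => ⟨(ClSub.idealModι I).app V x, ?_⟩⟩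
      · exact (key b).symm.trans ((congrArg _ h).trans (key c))
      · exact app_injective_of_mono (ClSub.idealModι I) V (key _)
  · rw [hsupp, hrange]
    refine ⟨hU.primeIdealOf ⟨P, hPU⟩, ?_, hU.fromSpec_primeIdealOf ⟨P, hPU⟩⟩
    show ({a} : Set Γ(X, U)) ⊆ ((hU.primeIdealOf ⟨P, hPU⟩).asIdeal : Set Γ(X, U))
    rw [Set.singleton_subset_iff]
    by_contra hb
    apply haP
    have h3 : hU.primeIdealOf ⟨P, hPU⟩ ∈ hU.fromSpec ⁻¹ᵁ X.basicOpen a := by
      rw [hU.fromSpec_preimage_basicOpen a]; exact hb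
    have h4 : hU.fromSpec (hU.primeIdealOf ⟨P, hPU⟩) ∈ X.basicOpen a := h3
    rwa [hU.fromSpec_primeIdealOf ⟨P, hPU⟩] at h4

include k in
/-- A proper integral curve has an ample invertible module, of positive degree. -/
theorem exists_ample_curve (hdim : topologicalKrullDim X = 1) :
    ∃ L : X.Modules, PicF.IsInvertible L ∧ CohB1.IsAmple L ∧ 0 < Curv2.deg k X L 1 := by
  haveI := isLocallyNoetherian_of_proper k (X := X)
  obtain ⟨I, hI, hη, hne⟩ := exists_invertible_ideal k hdim
  obtain ⟨L, hL⟩ := VarietyLib.exists_isInverseOf hI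
  obtain ⟨e⟩ := hL
  have hLinv : PicF.IsInvertible L := MorProj.isInvertible_of_tensor_iso (tensorComm L _ ≪≫ e)
  have hpos : (0 : ℤ) < Module.finrank k (Coh.HH X (ClSub.quotMod I) 0) := by
    haveI := finite_HH_of_isCoh k (isCoh_quotMod I) 0
    haveI : Nonempty I.subscheme := by
      obtain ⟨z, hz⟩ := hne
      obtain ⟨w, -⟩ := I.range_subschemeι.superset hz
      exact ⟨w⟩
    haveI : Nonempty (I.subschemeι ⁻¹ᵁ (⊤ : X.Opens)) := ⟨⟨Classical.arbitrary _, trivial⟩⟩
    haveI : Nontrivial (GA (baseHom k X) (ClSub.quotMod I)) :=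
      inferInstanceAs (Nontrivial Γ(I.subscheme, I.subschemeι ⁻¹ᵁ (⊤ : X.Opens)))
    haveI : Nontrivial (Coh.HH X (ClSub.quotMod I) 0) := (hhZero k _).toEquiv.nontrivial
    exact_mod_cast Module.finrank_pos
  have hchi := euler_idealTwist k hdim.le I hη (L := Coh.structureModule X) isInvertible_structureModule
  rw [euler_congr k X (tensorComm (ClSub.idealMod I) (Coh.structureModule X) ≪≫ unitTensorIso _)] at hchi
  have hdegI : Curv2.deg k X (ClSub.idealMod I) 1 < 0 := by
    simp only [Curv2.deg, Nat.cast_one, one_mul]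
    omega
  have hsum := deg_tensor k hdim.le hI hLinv
  rw [deg_congr k e, deg_structure] at hsum
  have hdeg : 0 < Curv2.deg k X L 1 := by omega
  exact ⟨L, hLinv, isAmple_of_deg_pos k hdim hLinv hdeg, hdeg⟩

end Groth.Agent.SerreDual
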