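import Groth.Agent.SerreDual.Exist
import Groth.Agent.SerreDual.HomLinear
import Groth.Agent.SerreDual.CurveAmple
import Groth.Agent.EulerLib.HilbPoly
import Groth.Agent.Coherent.SubFTApps
import Groth.Agent.Coherent.RpushSupport

/-!
# The dualizing module of a proper integral curve is coherent
-/

set_option autoImplicit false
set_option linter.style.haveILetI false
set_option backward.isDefEq.respectTransparency.types false

universe u

open CategoryTheory CategoryTheory.Limits AlgebraicGeometry Opposite TopologicalSpace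
open Groth.Agent.Coherent Groth.Agent.PicLib Groth.Agent.AmpleLib Groth.Agent.EulerLib Groth.Agent.CurveRR24

namespace Groth.Agent.SerreDual

section General

variable {X : Scheme.{u}}

theorem mono_of_app_injective {M N : X.Modules} (φ : M ⟶ N)
    (h : ∀ W : X.Opens, Function.Injective (φ.app W)) : Mono φ :=
  ⟨fun g g' e => Scheme.Modules.hom_ext _ _ fun W => by
    ext a
    exact h W (congr($e |>.app W a))⟩

/-- A map into `F` with values in `P` factors through `P`. -/
theorem exists_lift_subM {M F : X.Modules} (φ : M ⟶ F) (P : SubM F)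
    (h : ∀ (W : X.Opens) (a : Γ(M, W)), φ.app W a ∈ P.carrier W) : ∃ j : M ⟶ P.toMod, j ≫ P.toι = φ := by
  let g : M.val ⟶ P.toSub.toPresheafOfModules :=
    { app := fun W => ModuleCat.ofHom ((φ.val.app W).hom.codRestrict (P.carrier W.unop) fun a => h W.unop a)
      naturality := fun {W W'} f => by
        refine ModuleCat.hom_ext (LinearMap.ext fun a => Subtype.ext ?_)
        exact PresheafOfModules.naturality_apply φ.val f a }
  exact ⟨⟨g⟩, rfl⟩

/-- Comparable submodules with the same module are equal. -/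
theorem subM_eq_of_isIso {F : X.Modules} {P P' : SubM F} (i : P.toMod ⟶ P'.toMod) (hi : i ≫ P'.toι = P.toι)
    [IsIso i] (W : X.Opens) : P'.carrier W ≤ P.carrier W := by
  intro a ha
  obtain ⟨b, hb⟩ := (P'.mem_range_toι).2 ha
  obtain ⟨c, rfl⟩ := (ConcreteCategory.bijective_of_isIso (i.app W)).2 b
  refine (P.mem_range_toι).1 ⟨c, ?_⟩
  rw [← hb, ← hi, Scheme.Modules.Hom.comp_app, ConcreteCategory.comp_apply]

end General

section Curve

variable {k : Type u} [Field k] {X : Scheme.{u}} [X.Over (Spec (CommRingCat.of k))]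
  [IsProper (X ↘ Spec (CommRingCat.of k))]

omit [IsProper (X ↘ Spec (CommRingCat.of k))] in
/-- Global sections of a submodule. -/
theorem finrank_h0_le_of_mono {G H : X.Modules} (ι : G ⟶ H) [Mono ι]
    [Module.Finite k (Coh.HH X H 0)] :
    Module.Finite k (Coh.HH X G 0) ∧
      Module.finrank k (Coh.HH X G 0) ≤ Module.finrank k (Coh.HH X H 0) := by
  let f : Coh.HH X G 0 →ₗ[k] Coh.HH X H 0 :=
    (homUnitHH k H).toLinearMap ∘ₗ Linear.rightComp k (Coh.structureModule X) ι ∘ₗ
      (homUnitHH k G).symm.toLinearMap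
  have hf : Function.Injective f := fun a b h =>
    (homUnitHH k G).symm.injective ((cancel_mono ι).1 ((homUnitHH k H).injective h))
  exact ⟨Module.Finite.of_injective f hf, LinearMap.finrank_le_finrank_of_injective hf⟩

variable {ω : X.Modules} {t : Coh.HH X ω 1 →ₗ[k] k}
  (hrep : ∀ F : X.Modules, Coh.IsQCoh F → Rep t F)

include hrep

theorem finrank_hom_eq_h1 {F : X.Modules} (hF : Coh.IsCoh F) :
    Module.Finite k (F ⟶ ω) ∧ Module.finrank k (F ⟶ ω) = Module.finrank k (Coh.HH X F 1) := by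
  haveI := finite_HH_of_isCoh k hF 1
  let e := dualEquiv t (hrep F hF.1)
  exact ⟨Module.Finite.equiv e.symm, e.finrank_eq.trans Subspace.dual_finrank_eq⟩

theorem h0_omega_eq :
    Module.Finite k (Coh.HH X ω 0) ∧
      Module.finrank k (Coh.HH X ω 0) = Module.finrank k (Coh.HH X (Coh.structureModule X) 1) := by
  haveI := isLocallyNoetherian_of_proper k (X := X)
  obtain ⟨hfin, hrank⟩ := finrank_hom_eq_h1 hrep (isCoh_structureModule X)
  haveI := hfin
  exact ⟨Module.Finite.equiv (homUnitHH k ω), (homUnitHH k ω).finrank_eq.symm.trans hrank⟩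

variable [IsIntegral X]

/-- Maps from modules with small support vanish. -/
theorem hom_eq_zero_of_small (hdim : topologicalKrullDim X ≤ 1) {Q : X.Modules} (hQ : Coh.IsQCoh Q)
    {T : Set X} (hT : IsClosed T) (hη : genericPoint X ∉ T) (hQT : CohB1.support Q ⊆ T) (φ : Q ⟶ ω) :
    φ = 0 := by
  haveI := subsingleton_HH_of_small k hdim hQ hT hη hQT Nat.one_pos
  refine (hrep Q hQ).1 ?_
  exact LinearMap.ext fun x => by rw [Subsingleton.elim x 0, map_zero, map_zero]

/-- A map into `ω` vanishing on a nonempty open is zero. -/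
theorem hom_eq_zero_of_app (hdim : topologicalKrullDim X ≤ 1) (hω : Coh.IsQCoh ω) {F : X.Modules}
    (hF : Coh.IsCoh F) (φ : F ⟶ ω) {V : X.Opens} (hV : (V : Set X).Nonempty)
    (h : ∀ W : X.Opens, W ≤ V → ∀ a : Γ(F, W), φ.app W a = 0) : φ = 0 := by
  haveI := hω
  haveI := hF.1
  have hq : Coh.IsQCoh (Abelian.image φ) := isQCoh_image φ
  have hη : genericPoint X ∉ ((V : Set X)ᶜ) := fun h' =>
    h' ((genericPoint_spec X).mem_open_set_iff V.2 |>.2 (by simpa using hV))
  have hsupp : CohB1.support (Abelian.image φ) ⊆ (V : Set X)ᶜ := by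
    intro z hz hzV
    refine hz (subsingleton_of_forall_eq 0 fun a => ?_)
    obtain ⟨w, rfl⟩ := (ModuleCat.epi_iff_surjective
      ((DerSch.stalkFunctor X z).map (Abelian.factorThruImage φ))).1 inferInstance a
    apply (ModuleCat.mono_iff_injective ((DerSch.stalkFunctor X z).map (Abelian.image.ι φ))).1 inferInstance
    refine Eq.trans ?_ (map_zero ((DerSch.stalkFunctor X z).map (Abelian.image.ι φ)).hom).symm
    rw [← ConcreteCategory.comp_apply, ← CategoryTheory.Functor.map_comp, Abelian.image.fac]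
    obtain ⟨W, hW, s, rfl⟩ := TopCat.Presheaf.exists_germ_eq F.presheaf w
    rw [← TopCat.Presheaf.germ_res_apply F.presheaf (homOfLE (inf_le_left : W ⊓ V ≤ W)) z ⟨hW, hzV⟩ s]
    refine (stalk_map_germ φ (W := W ⊓ V) ⟨hW, hzV⟩ _).trans ?_
    exact (congrArg _ (h _ inf_le_right _)).trans (map_zero _)
  have h0 := hom_eq_zero_of_small hrep hdim hq V.2.isClosed_compl hη hsupp (Abelian.image.ι φ)
  rw [← Abelian.image.fac φ, h0, comp_zero]

/-- Nonzero maps from invertible modules to `ω` are injective. -/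
theorem mono_of_ne_zero (hdim : topologicalKrullDim X ≤ 1) (hω : Coh.IsQCoh ω) {M : X.Modules}
    (hM : PicF.IsInvertible M) (φ : M ⟶ ω) (hne : φ ≠ 0) : Mono φ := by
  refine mono_of_app_injective φ fun V => (injective_iff_map_eq_zero _).2 fun s hs => ?_
  refine sec_ext M s 0 fun y hy => ?_
  obtain ⟨U, hyU, e, he⟩ := exists_isGen hM y
  refine ⟨V ⊓ U, inf_le_left, ⟨hy, hyU⟩, ?_⟩
  rw [map_zero]
  obtain ⟨c, hc⟩ := (he (V ⊓ U) inf_le_right).2 (resM M inf_le_left s)
  beta_reduce at hc
  rcases eq_or_ne c 0 with rfl | hc0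
  · rw [← hc, zero_smul]
  exfalso
  refine hne (hom_eq_zero_of_app hrep hdim hω (isCoh_of_isInvertible k hM) φ (V := X.basicOpen c) ?_ ?_)
  · refine Set.nonempty_iff_ne_empty.2 fun h => hc0 ?_
    exact (basicOpen_eq_bot_iff c).1 (Opens.ext h)
  intro W hW a
  have hWVU : W ≤ V ⊓ U := hW.trans (X.basicOpen_le c)
  obtain ⟨r, hr⟩ := (he W (hWVU.trans inf_le_right)).2 a
  beta_reduce at hr
  have hu : IsUnit (res hWVU c) := by
    have h1 := (RingedSpace.isUnit_res_basicOpen X.toRingedSpace c).map (res hW)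
    exact (PicLib.res_res (X.basicOpen_le c) hW c) ▸ h1
  obtain ⟨v, hv⟩ := hu.exists_left_inv
  have h1 : φ.app W (res hWVU c • resM M (hWVU.trans inf_le_right) e) = 0 := by
    rw [← resM_resM M (inf_le_right : V ⊓ U ≤ U) hWVU e, ← resM_smul, hc, resM_resM, app_resM, hs, map_zero]
  rw [← hr, Scheme.Modules.Hom.app_smul]
  rw [Scheme.Modules.Hom.app_smul] at h1
  have h2 := congrArg (v • ·) h1
  simp only [smul_smul, hv, one_smul, smul_zero] at h2
  rw [h2, smul_zero]

/-- The bound on the Euler characteristic of twisted coherent submodules of `ω`. -/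
theorem euler_twist_le (hdim : topologicalKrullDim X = 1) {G : X.Modules} (hG : Coh.IsCoh G) (ι : G ⟶ ω)
    [Mono ι] {N : X.Modules} (hN : PicF.IsInvertible N) (hdeg : 0 < Curv2.deg k X N 1) :
    Curv2.euler k X (CohB1.tensorMod G N) ≤
      Curv2.deg k X N 1 - Curv2.euler k X (Coh.structureModule X) := by
  haveI := isLocallyNoetherian_of_proper k (X := X)
  obtain ⟨L', ⟨e⟩⟩ := VarietyLib.exists_isInverseOf hN
  let e' : CohB1.tensorMod L' N ≅ Coh.structureModule X := tensorComm _ _ ≪≫ e
  have hL' : PicF.IsInvertible L' := MorProj.isInvertible_of_tensor_iso e'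
  obtain ⟨hfin, hhom⟩ := finrank_hom_eq_h1 hrep (isCoh_of_isInvertible k hL')
  haveI := hfin
  obtain ⟨hfin0, h0⟩ := SerreDual.finrank_hom_eq k ω hL' hN e'
  haveI := hfin0
  haveI := mono_tensorMap hN ι
  obtain ⟨-, hle⟩ := finrank_h0_le_of_mono (k := k) (tensorMap ι (𝟙 N))
  have hdegL : Curv2.deg k X L' 1 = - Curv2.deg k X N 1 := by
    have := deg_tensor k hdim.le hL' hN
    rw [deg_congr k e', deg_structure] at this
    omega
  haveI := subsingleton_h0_of_deg_neg k hdim.le hL' (by omega)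
  have hχ := euler_eq_h0_sub_h1 k hdim.le L' (isCoh_of_isInvertible k hL').1
  rw [Module.finrank_zero_of_subsingleton (M := Coh.HH X L' 0)] at hχ
  simp only [Curv2.deg, Nat.cast_one, one_mul] at hdegL ⊢
  rw [euler_eq_h0_sub_h1 k hdim.le _ (isCoh_twist hN hG).1]
  rw [h0, hhom] at hle
  push_cast at hχ
  omega

/-- Coherent submodules of `ω` are rank one. -/
theorem genericPoint_notMem_support_cokernel (hdim : topologicalKrullDim X = 1) {M G : X.Modules}
    (hM : PicF.IsInvertible M) (hG : Coh.IsCoh G) (ι : G ⟶ ω) [Mono ι] (j : M ⟶ G) [Mono j] :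
    genericPoint X ∉ CohB1.support (cokernel j) := by
  haveI := isNoetherian_of_proper k (X := X)
  obtain ⟨L, hL, hA, hdegL⟩ := exists_ample_curve k hdim (X := X)
  have hMc := isCoh_of_isInvertible k hM
  have hQ : Coh.IsCoh (cokernel j) := isCoh_cokernel j hMc.1 hG
  let S := ShortComplex.mk j (cokernel.π j) (cokernel.condition j)
  have hS : S.ShortExact := { exact := ShortComplex.exact_of_g_is_cokernel _ (cokernelIsCokernel _) }
  intro hη
  have hclosed := isClosed_support (cokernel j) (locallyFinGen_of_isFT _ hQ.2)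
  have huniv : CohB1.support (cokernel j) = Set.univ := Set.eq_univ_of_univ_subset
    ((genericPoint_spec X : closure ({genericPoint X} : Set X) = Set.univ).ge.trans
      (hclosed.closure_subset_iff.2 (Set.singleton_subset_iff.2 hη)))
  have hdimQ : topologicalKrullDim (CohB1.support (cokernel j)) = ((1 : ℕ) : WithBot ℕ∞) := by
    rw [huniv, (Homeomorph.Set.univ X).isHomeomorph.topologicalKrullDim_eq, hdim]; rfl
  obtain ⟨P, hP⟩ := exists_isHilbPoly k hL hQ hdimQ.le
  have hpos := alpha_pos k hA hQ hP hdimQ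
  have hnat := (alpha_eq_interDeg k hL hQ hP hdimQ.le).1
  simp only [StabCat.alpha, Nat.factorial_one, Nat.cast_one, one_mul] at hpos
  let c : ℤ := -2 * Curv2.euler k X (Coh.structureModule X) - Curv2.deg k X M 1
  have hbound : ∀ m : ℕ, 0 < m → P.eval (m : ℚ) ≤ (c : ℚ) := by
    intro m hm
    rw [← hP m, ShStab.twist]
    have hN := isInvertible_tensorPow hL m
    have hdN : 0 < Curv2.deg k X (CohB1.tensorPow L m) 1 := by
      rw [deg_tensorPow k hdim.le hL]; exact mul_pos (by exact_mod_cast hm) hdegL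
    have h1 := euler_twist_le hrep hdim hG ι hN hdN
    have h2 := euler_additive k X (twistSeq S (CohB1.tensorPow L m)) (twistSeq_shortExact hN hS)
      (isCoh_twist hN hMc) (isCoh_twist hN hG) (isCoh_twist hN hQ)
    change Curv2.euler k X (CohB1.tensorMod G (CohB1.tensorPow L m)) =
      Curv2.euler k X (CohB1.tensorMod M (CohB1.tensorPow L m)) +
        Curv2.euler k X (CohB1.tensorMod (cokernel j) (CohB1.tensorPow L m)) at h2
    have h3 := deg_tensor k hdim.le hM hN
    simp only [Curv2.deg, Nat.cast_one, one_mul] at h1 h3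
    have h4 : Curv2.euler k X (CohB1.tensorMod (cokernel j) (CohB1.tensorPow L m)) ≤ c := by
      simp only [c, Curv2.deg, Nat.cast_one, one_mul]; omega
    exact_mod_cast h4
  obtain ⟨m, hm⟩ := exists_nat_gt (((c : ℚ) - P.coeff 0) / P.coeff 1)
  have hb := hbound (m + 1) m.succ_pos
  rw [Polynomial.eval_eq_sum_range' (Nat.lt_succ_of_le hnat)] at hb
  simp [Finset.sum_range_succ] at hb
  rw [div_lt_iff₀ hpos] at hm
  nlinarith

/-- The dualizing module of a proper integral curve is coherent. -/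
theorem isCoh_dualizing (hdim : topologicalKrullDim X = 1) (hω : Coh.IsQCoh ω) : Coh.IsCoh ω := by
  classical
  haveI := isNoetherian_of_proper k (X := X)
  haveI := hω
  -- an invertible module mapping to `ω`
  obtain ⟨L, hL, -, hdegL⟩ := exists_ample_curve k hdim (X := X)
  obtain ⟨M, hM, h1M⟩ : ∃ M : X.Modules, PicF.IsInvertible M ∧ 0 < Module.finrank k (Coh.HH X M 1) := by
    let m := (Curv2.euler k X (Coh.structureModule X)).toNat + 1
    have hN := isInvertible_tensorPow hL m
    obtain ⟨M, ⟨e⟩⟩ := VarietyLib.exists_isInverseOf hN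
    have hM : PicF.IsInvertible M := MorProj.isInvertible_of_tensor_iso (tensorComm M _ ≪≫ e)
    refine ⟨M, hM, ?_⟩
    have h := deg_tensor k hdim.le hN hM
    rw [deg_congr k e, deg_structure, deg_tensorPow k hdim.le hL] at h
    have hm : (m : ℤ) * 1 ≤ (m : ℤ) * Curv2.deg k X L 1 := by gcongr; omega
    have hχ := euler_eq_h0_sub_h1 k hdim.le M (isCoh_of_isInvertible k hM).1
    simp only [m, Curv2.deg, Nat.cast_one, one_mul] at h hm hχ ⊢
    push_cast at h hm hχ ⊢
    omega
  obtain ⟨hfinM, hrankM⟩ := finrank_hom_eq_h1 hrep (isCoh_of_isInvertible k hM)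
  haveI := hfinM
  haveI : Nontrivial (M ⟶ ω) := Module.nontrivial_of_finrank_pos (R := k) (hrankM ▸ h1M)
  obtain ⟨φ, hne⟩ := exists_ne (0 : M ⟶ ω)
  haveI := mono_of_ne_zero hrep hdim.le hω hM φ hne
  -- a good submodule containing its image
  have hloc : ∀ y : X, ∃ W : X.Opens, y ∈ W ∧ NoetherianSpace (W : Set X) := fun y =>
    ⟨⊤, trivial, inferInstance⟩
  choose U hyU gen hgen using exists_isGen hM
  obtain ⟨T, hT⟩ := isCompact_univ.elim_finite_subcover (fun y => (U y : Set X)) (fun y => (U y).2)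
    (fun y _ => Set.mem_iUnion.2 ⟨y, hyU y⟩)
  have hext : ∀ y : T, ∃ Q : SubM ω, Q.Good ⊤ ∧ φ.app _ (gen y.1) ∈ Q.carrier (U y.1) := fun y => by
    obtain ⟨Q, hQ, hmem⟩ := exists_good_containing_locallyNoetherian (F := ω) hloc
      (I := PUnit.{u+1}) (fun _ => φ.app _ (gen y.1))
    exact ⟨Q, hQ, hmem PUnit.unit⟩
  choose Q hQ hQmem using hext
  let P₀ := SubM.sum Q
  have hP₀ : P₀.Good ⊤ := SubM.good_sum Q hQ
  have hφ : ∀ (W : X.Opens) (a : Γ(M, W)), φ.app W a ∈ P₀.carrier W := fun W a =>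
    P₀.of_local _ fun z hz => by
      obtain ⟨y, hy, hzy⟩ := Set.mem_iUnion₂.1 (hT (Set.mem_univ z))
      refine ⟨W ⊓ U y, inf_le_left, ⟨hz, hzy⟩, ?_⟩
      obtain ⟨r, hr⟩ := (hgen y (W ⊓ U y) inf_le_right).2 (resM M inf_le_left a)
      beta_reduce at hr
      rw [← app_resM, ← hr, Scheme.Modules.Hom.app_smul]
      refine Submodule.smul_mem _ _ ?_
      rw [app_resM]
      exact SubM.le_sum Q ⟨y, hy⟩ _ ((Q ⟨y, hy⟩).res _ (hQmem ⟨y, hy⟩))
  have hcoh : ∀ P : SubM ω, P.Good ⊤ → Coh.IsCoh P.toMod := fun P hP => ⟨SubM.isQCoh hP, SubM.isFT hP⟩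
  -- the Euler characteristics are bounded
  obtain ⟨hfinω, hω0⟩ := h0_omega_eq hrep
  haveI := hfinω
  let p : ℤ → Prop := fun n => ∃ P : SubM ω, P.Good ⊤ ∧ (∀ W, P₀.carrier W ≤ P.carrier W) ∧
    Curv2.euler k X P.toMod = n
  obtain ⟨n, ⟨P, hP, hP₀P, hPn⟩, hmax⟩ := Int.exists_greatest_of_bdd (P := p)
    ⟨Module.finrank k (Coh.HH X ω 0), by
      rintro z ⟨P, hP, -, rfl⟩
      rw [euler_eq_h0_sub_h1 k hdim.le _ (hcoh P hP).1]
      have := (finrank_h0_le_of_mono (k := k) P.toι).2
      omega⟩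
    ⟨_, P₀, hP₀, fun _ => le_rfl, rfl⟩
  have hstep : ∀ P' : SubM ω, P'.Good ⊤ → (∀ W, P.carrier W ≤ P'.carrier W) →
      ∀ W, P'.carrier W ≤ P.carrier W := by
    intro P' hP' hle
    obtain ⟨i, hi⟩ := exists_lift_subM P.toι P' fun W a => hle W a.2
    obtain ⟨j, hj⟩ := exists_lift_subM φ P fun W a => hP₀P W (hφ W a)
    haveI : Mono (i ≫ P'.toι) := by rw [hi]; infer_instance
    haveI : Mono i := mono_of_mono i P'.toι
    haveI : Mono (j ≫ P.toι) := by rw [hj]; infer_instance
    haveI : Mono j := mono_of_mono j P.toι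
    have hη := genericPoint_notMem_support_cokernel hrep hdim hM (hcoh P' hP') P'.toι (j ≫ i)
    have hcQ : Coh.IsCoh (cokernel i) := isCoh_cokernel i (hcoh P hP).1 (hcoh P' hP')
    let q : cokernel (j ≫ i) ⟶ cokernel i :=
      cokernel.desc _ (cokernel.π i) (by rw [Category.assoc, cokernel.condition, comp_zero])
    haveI : Epi q := by
      haveI : Epi (cokernel.π (j ≫ i) ≫ q) := by rw [cokernel.π_desc]; infer_instance
      exact epi_of_epi (cokernel.π (j ≫ i)) q
    have hηQ : genericPoint X ∉ CohB1.support (cokernel i) := fun h => hη (support_subset_of_epi q h)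
    have hclosed := isClosed_support (cokernel i) (locallyFinGen_of_isFT _ hcQ.2)
    have hadd := euler_additive k X (ShortComplex.mk i (cokernel.π i) (cokernel.condition i))
      { exact := ShortComplex.exact_of_g_is_cokernel _ (cokernelIsCokernel _) } (hcoh P hP) (hcoh P' hP') hcQ
    have hsmall := euler_eq_h0_of_small k hdim.le hcQ.1 hclosed hηQ subset_rfl
    have hge : Curv2.euler k X P'.toMod ≤ n :=
      hmax _ ⟨P', hP', fun W => (hP₀P W).trans (hle W), rfl⟩
    change Curv2.euler k X P'.toMod = Curv2.euler k X P.toMod + Curv2.euler k X (cokernel i) at hadd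
    haveI := finite_HH_of_isCoh k hcQ 0
    have hzero : Module.finrank k (Coh.HH X (cokernel i) 0) = 0 := by omega
    haveI : Subsingleton (Coh.HH X (cokernel i) 0) := Module.finrank_zero_iff.1 hzero
    haveI : Subsingleton (GA (baseHom k X) (cokernel i)) := (hhZero k _).symm.toEquiv.subsingleton
    obtain ⟨hfin, hpts, -⟩ := closed_small k hdim.le hclosed hηQ
    have hz := isZero_of_finite_support hfin hpts subset_rfl fun s =>
      (Subsingleton.elim (α := GA (baseHom k X) (cokernel i)) s 0)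
    haveI : Epi i := Preadditive.epi_of_isZero_cokernel i hz
    haveI : IsIso i := isIso_of_mono_of_epi i
    exact subM_eq_of_isIso i hi
  have hall : ∀ (W : X.Opens) (a : Γ(ω, W)), a ∈ P.carrier W := fun W a => by
    obtain ⟨Q', hQ', hmem⟩ := exists_good_containing_locallyNoetherian (F := ω) hloc
      (I := PUnit.{u+1}) (fun _ => a)
    let F : ULift.{u} Bool → SubM ω := fun b => if b.down then P else Q'
    have hgood : ∀ b, (F b).Good ⊤ := fun ⟨b⟩ => by cases b <;> assumption
    exact hstep (SubM.sum F) (SubM.good_sum F hgood) (fun W => SubM.le_sum F ⟨true⟩ W) W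
      (SubM.le_sum F ⟨false⟩ W (hmem PUnit.unit))
  haveI : Epi P.toι := epi_of_locally_surjective _ fun W a y hy =>
    ⟨W, le_rfl, hy, ⟨a, hall W a⟩, (resM_self ω _ a).symm⟩
  haveI : IsIso P.toι := isIso_of_mono_of_epi _
  exact isCoh_of_iso (asIso P.toι) (hcoh P hP)

/-- A coherent dualizing module with the universal property for all quasi-coherent modules. -/
theorem exists_dualizing_curve' (hdim : topologicalKrullDim X = 1) (hω : Coh.IsQCoh ω) :
    Coh.IsCoh ω ∧ Module.finrank k (Coh.HH X ω 0) = Curv2.genus k X :=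
  ⟨isCoh_dualizing hrep hdim hω, (h0_omega_eq hrep).2⟩

end Curve

end Groth.Agent.SerreDual
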