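import Groth.Agent.SerreDual.Trace
import Groth.Agent.SerreDual.HomLinear
import Groth.Agent.Coherent.CohOps
import Mathlib.Algebra.Homology.DerivedCategory.Ext.Linear
import Mathlib.Algebra.Homology.DerivedCategory.Ext.ExactSequences

/-!
# Duality in all degrees by dimension shifting
-/

set_option autoImplicit false
set_option linter.style.haveILetI false
set_option backward.isDefEq.respectTransparency.types false

universe u

open CategoryTheory CategoryTheory.Abelian CategoryTheory.Limits AlgebraicGeometry Opposite TopologicalSpace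
open Groth.Agent.Coherent Groth.Agent.EulerLib

namespace Groth.Agent.SerreDual

section LinAlg

variable {k : Type u} [Field k] {A B C : Type u} [AddCommGroup A] [Module k A] [AddCommGroup B]
  [Module k B] [AddCommGroup C] [Module k C]

/-- The dual of a kernel is the cokernel of the transpose. -/
noncomputable def quotRangeDualEquiv (f : A →ₗ[k] B) (g : C →ₗ[k] A) (hg : Function.Injective g)
    (h : Function.Exact g f) :
    (Module.Dual k A ⧸ LinearMap.range f.dualMap) ≃ₗ[k] Module.Dual k C :=
  (Submodule.quotEquivOfEq _ _ (by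
      rw [LinearMap.range_dualMap_eq_dualAnnihilator_ker, LinearMap.exact_iff.1 h,
        LinearMap.ker_dualMap_eq_dualAnnihilator_range])).trans
    (g.dualMap.quotKerEquivOfSurjective (LinearMap.dualMap_surjective_of_injective hg))

end LinAlg

variable {k : Type u} [Field k] {X : Scheme.{u}} [X.Over (Spec (CommRingCat.of k))] [IsLocallyNoetherian X]

/-- The connecting map on cohomology. -/
noncomputable def hdelta {S : ShortComplex X.Modules} (hS : S.ShortExact) (q : ℕ) :
    Coh.HH X S.X₃ q →ₗ[k] Coh.HH X S.X₁ (q + 1) :=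
  (HHBaseEquiv k S.X₁ (q + 1)).symm.toLinearMap ∘ₗ deltaA (baseHom k X) hS ⊤ q ∘ₗ
    (HHBaseEquiv k S.X₃ q).toLinearMap

omit [IsLocallyNoetherian X] in
theorem hdelta_injective {S : ShortComplex X.Modules} (hS : S.ShortExact) (q : ℕ)
    [Subsingleton (Coh.HH X S.X₂ q)] : Function.Injective (hdelta (k := k) hS q) := by
  haveI : Subsingleton (HA (baseHom k X) S.X₂ (⊤ : X.Opens) q) :=
    (HHBaseEquiv k S.X₂ q).symm.toEquiv.subsingleton
  refine (injective_iff_map_eq_zero _).2 fun x hx => ?_
  simp only [hdelta, LinearMap.coe_comp, LinearEquiv.coe_coe, Function.comp_apply, LinearEquiv.map_eq_zero_iff] at hx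
  obtain ⟨y, hy⟩ := (exact_postA_deltaA (baseHom k X) hS ⊤ q _).1 hx
  rw [Subsingleton.elim y 0, map_zero] at hy
  exact (HHBaseEquiv k S.X₃ q).map_eq_zero_iff.1 hy.symm

omit [IsLocallyNoetherian X] in
theorem exact_hdelta_hmap {S : ShortComplex X.Modules} (hS : S.ShortExact) (q : ℕ) :
    Function.Exact (hdelta (k := k) hS q) (hmap k S.f (q + 1)) := fun x => by
  have e : HHBaseEquiv k S.X₂ (q + 1) (hmap k S.f (q + 1) x) =
      postA (baseHom k X) S.f ⊤ (q + 1) (HHBaseEquiv k S.X₁ (q + 1) x) := by
    rw [hmap_eq]; exact hhBaseEquiv_natural k S.f (q + 1) x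
  rw [← (HHBaseEquiv k S.X₂ (q + 1)).map_eq_zero_iff, e, exact_deltaA_postA (baseHom k X) hS ⊤ q _]
  constructor
  · rintro ⟨y, hy⟩
    refine ⟨(HHBaseEquiv k S.X₃ q).symm y, ?_⟩
    simp only [hdelta, LinearMap.coe_comp, LinearEquiv.coe_coe, Function.comp_apply,
      LinearEquiv.apply_symm_apply, hy, LinearEquiv.symm_apply_apply]
  · rintro ⟨y, hy⟩
    refine ⟨HHBaseEquiv k S.X₃ q y, ?_⟩
    rw [← hy]
    simp only [hdelta, LinearMap.coe_comp, LinearEquiv.coe_coe, Function.comp_apply,
      LinearEquiv.apply_symm_apply]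

variable [HasExt.{u} X.Modules] {n : ℕ} {ω : X.Modules} (t : Coh.HH X ω n →ₗ[k] k)

omit [IsLocallyNoetherian X] in
/-- The precomposition with a morphism, on `Ext⁰`, is dual to `H^n`. -/
theorem dual_precomp {F G : X.Modules} (hF : Rep t F) (hG : Rep t G) (f : F ⟶ G) :
    ((Ext.linearEquiv₀ (R := k)).trans (dualEquiv t hF)).toLinearMap ∘ₗ
      (Ext.mk₀ f).precompOfLinear k ω (zero_add 0) =
    (hmap k f n).dualMap ∘ₗ ((Ext.linearEquiv₀ (R := k)).trans (dualEquiv t hG)).toLinearMap := by
  refine LinearMap.ext fun x => ?_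
  obtain ⟨φ, rfl⟩ := (Ext.mk₀_bijective _ _).2 x
  have h1 : ∀ {A : X.Modules} (ψ : A ⟶ ω), (Ext.linearEquiv₀ (R := k)) (Ext.mk₀ ψ) = ψ := fun ψ =>
    (Ext.linearEquiv₀ (R := k)).apply_symm_apply ψ
  show dualEquiv t hF ((Ext.linearEquiv₀ (R := k)) ((Ext.mk₀ f).comp (Ext.mk₀ φ) (zero_add 0))) =
    (hmap k f n).dualMap (dualEquiv t hG ((Ext.linearEquiv₀ (R := k)) (Ext.mk₀ φ)))
  rw [Ext.mk₀_comp_mk₀, h1, h1]
  exact theta_comp t f φ

/-- Duality in all degrees, for a module representing the dual of `H^n`, when coherent modules are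
quotients of coherent modules without higher `Ext` into it and without cohomology below `n`. -/
theorem duality_all_degrees (hrep : ∀ F : X.Modules, Coh.IsCoh F → Rep t F)
    (hcov : ∀ F : X.Modules, Coh.IsCoh F → ∃ (E : X.Modules) (p : E ⟶ F), Epi p ∧ Coh.IsCoh E ∧
      (∀ i, Subsingleton (Ext E ω (i + 1))) ∧ ∀ q, q < n → Subsingleton (Coh.HH X E q)) :
    ∀ (i : ℕ) (F : X.Modules), Coh.IsCoh F →
      (∀ j, i + j = n → Nonempty (Ext F ω i ≃ₗ[k] Module.Dual k (Coh.HH X F j))) ∧
      (n < i → Subsingleton (Ext F ω i))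
  | 0, F, hF => ⟨fun j hj => by
      obtain rfl : j = n := by omega
      exact ⟨(Ext.linearEquiv₀ (R := k)).trans (dualEquiv t (hrep F hF))⟩, fun h => absurd h (Nat.not_lt_zero _)⟩
  | i + 1, F, hF => by
    obtain ⟨E, p, hp, hE, hExt, hH⟩ := hcov F hF
    let S := ShortComplex.mk (kernel.ι p) p (kernel.condition p)
    have hS : S.ShortExact :=
      { exact := ShortComplex.exact_of_f_is_kernel _ (kernelIsKernel p), mono_f := inferInstance, epi_g := hp }
    have hK : Coh.IsCoh (kernel p) := isCoh_kernel p hE hF.1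
    -- `Ext^{i+1}(F, ω)` is the cokernel of the restriction
    let P : Ext S.X₂ ω i →ₗ[k] Ext S.X₁ ω i := (Ext.mk₀ S.f).precompOfLinear k ω (zero_add i)
    let D : Ext S.X₁ ω i →ₗ[k] Ext S.X₃ ω (i + 1) := hS.extClass.precompOfLinear k ω (Nat.add_comm 1 i)
    have hD : Function.Surjective D := fun x => by
      haveI := hExt i
      haveI : Subsingleton (Ext S.X₂ ω (i + 1)) := hExt i
      exact Ext.contravariant_sequence_exact₃ hS ω x (Subsingleton.elim _ _) (Nat.add_comm 1 i)
    have hker : LinearMap.ker D = LinearMap.range P := by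
      ext x
      constructor
      · intro hx
        obtain ⟨y, hy⟩ := Ext.contravariant_sequence_exact₁ hS ω x (Nat.add_comm 1 i) hx
        exact ⟨y, hy⟩
      · rintro ⟨y, rfl⟩
        show hS.extClass.comp ((Ext.mk₀ S.f).comp y (zero_add i)) (Nat.add_comm 1 i) = 0
        rw [← Ext.comp_assoc_of_second_deg_zero, hS.extClass_comp, Ext.zero_comp]
    obtain ⟨ih₁, ih₂⟩ := duality_all_degrees hrep hcov i (kernel p) hK
    rcases Nat.eq_zero_or_pos i with rfl | hi
    · -- degree one
      let eK := (Ext.linearEquiv₀ (R := k)).trans (dualEquiv t (hrep S.X₁ hK))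
      have hmapR : (LinearMap.range P).map eK.toLinearMap = LinearMap.range (hmap k S.f n).dualMap := by
        rw [← LinearMap.range_comp, show eK.toLinearMap ∘ₗ P = _ from dual_precomp t (hrep S.X₁ hK) (hrep S.X₂ hE) S.f,
          LinearMap.range_comp, LinearEquiv.range, Submodule.map_top]
      let e1 : Ext F ω (0 + 1) ≃ₗ[k] (Module.Dual k (Coh.HH X S.X₁ n) ⧸ LinearMap.range (hmap k S.f n).dualMap) :=
        ((D.quotKerEquivOfSurjective hD).symm.trans (Submodule.quotEquivOfEq _ _ hker)).trans
          (Submodule.Quotient.equiv _ _ eK hmapR)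
      refine ⟨fun j hj => ?_, fun hn => ?_⟩
      · obtain rfl : n = j + 1 := by omega
        haveI : Subsingleton (Coh.HH X S.X₂ j) := hH j (Nat.lt_succ_self j)
        exact ⟨e1.trans (quotRangeDualEquiv _ (hdelta (k := k) hS j) (hdelta_injective hS j)
          (exact_hdelta_hmap hS j))⟩
      · obtain rfl : n = 0 := by omega
        have hinj : Function.Injective (hmap k S.f 0) := by
          let g : PUnit.{u+1} →ₗ[k] Coh.HH X S.X₁ 0 := 0
          intro x y h
          have h' : postA (baseHom k X) S.f (⊤ : X.Opens) 0 (HHBaseEquiv k S.X₁ 0 x) =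
              postA (baseHom k X) S.f (⊤ : X.Opens) 0 (HHBaseEquiv k S.X₁ 0 y) := by
            rw [hmap_eq, hmap_eq] at h
            exact (hhBaseEquiv_natural k S.f 0 x).symm.trans ((congrArg (HHBaseEquiv k S.X₂ 0) h).trans
              (hhBaseEquiv_natural k S.f 0 y))
          exact (HHBaseEquiv k S.X₁ 0).injective (postA_zero_injective _ hS ⊤ h')
        have hrange : LinearMap.range (hmap k S.f 0).dualMap = ⊤ :=
          LinearMap.range_eq_top.2 (LinearMap.dualMap_surjective_of_injective hinj)
        haveI : Subsingleton (Module.Dual k (Coh.HH X S.X₁ 0) ⧸ LinearMap.range (hmap k S.f 0).dualMap) :=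
          Submodule.Quotient.subsingleton_iff.2 hrange
        exact e1.toEquiv.subsingleton
    · -- higher degrees
      obtain ⟨i', rfl⟩ := Nat.exists_eq_succ_of_ne_zero hi.ne'
      have hP : LinearMap.range P = ⊥ := by
        refine (LinearMap.range_eq_bot).2 (LinearMap.ext fun y => ?_)
        haveI : Subsingleton (Ext S.X₂ ω (i' + 1)) := hExt i'
        rw [Subsingleton.elim y 0, map_zero, map_zero]
      have hDinj : Function.Injective D := LinearMap.ker_eq_bot.1 (hker.trans hP)
      let e2 := LinearEquiv.ofBijective D ⟨hDinj, hD⟩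
      refine ⟨fun j hj => ?_, fun hn => ?_⟩
      · obtain ⟨eK⟩ := ih₁ (j + 1) (by omega)
        haveI : Subsingleton (Coh.HH X S.X₂ j) := hH j (by omega)
        haveI : Subsingleton (Coh.HH X S.X₂ (j + 1)) := hH (j + 1) (by omega)
        have hbij : Function.Bijective (hdelta (k := k) hS j) := by
          refine ⟨hdelta_injective hS j, fun x => ?_⟩
          exact ((exact_hdelta_hmap hS j) x).1 (Subsingleton.elim _ _)
        exact ⟨(e2.symm.trans eK).trans (LinearEquiv.ofBijective _ hbij).dualMap⟩
      · rcases (show n ≤ i'.succ by omega).lt_or_eq with hlt | heq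
        · haveI := ih₂ hlt
          exact e2.symm.toEquiv.subsingleton
        · obtain ⟨eK⟩ := ih₁ 0 (by omega)
          haveI : Subsingleton (Coh.HH X S.X₂ 0) := hH 0 (by omega)
          haveI : Subsingleton (Coh.HH X S.X₁ 0) := by
            refine subsingleton_of_forall_eq 0 fun x => ?_
            have h' : postA (baseHom k X) S.f (⊤ : X.Opens) 0 (HHBaseEquiv k S.X₁ 0 x) = 0 := by
              haveI : Subsingleton (HA (baseHom k X) S.X₂ (⊤ : X.Opens) 0) :=
                (HHBaseEquiv k S.X₂ 0).symm.toEquiv.subsingleton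
              exact Subsingleton.elim _ _
            exact (HHBaseEquiv k S.X₁ 0).map_eq_zero_iff.1
              ((injective_iff_map_eq_zero _).1 (postA_zero_injective _ hS ⊤) _ h')
          haveI : Subsingleton (Module.Dual k (Coh.HH X (kernel p) 0)) :=
            haveI : Subsingleton (Coh.HH X (kernel p) 0) := ‹Subsingleton (Coh.HH X S.X₁ 0)›
            ⟨fun a b => LinearMap.ext fun x => by rw [Subsingleton.elim x 0, map_zero, map_zero]⟩
          exact (e2.symm.trans eK).toEquiv.subsingleton

end Groth.Agent.SerreDual
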