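import Groth.Agent.SerreDual.ExtShTensor
import Groth.Agent.CurveRR24.Sky
import Groth.Agent.MorProj.InvTensor

/-!
# The first sheaf `Ext` out of the structure sheaf of an effective divisor
-/

set_option autoImplicit false
set_option linter.style.haveILetI false
set_option backward.isDefEq.respectTransparency.types false

universe u

open CategoryTheory CategoryTheory.Abelian CategoryTheory.Limits AlgebraicGeometry Opposite TopologicalSpace
open Groth.Agent.Coherent Groth.Agent.PicLib Groth.Agent.AmpleLib Groth.Agent.EulerLib

namespace Groth.Agent.SerreDual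

variable {X : Scheme.{u}}

/-- Sheaf `Ext` in degree zero, as a morphism from the internal Hom. -/
noncomputable def zeroHom (F : X.Modules) {G : X.Modules} (J : InjectiveResolution G) :
    internalHom F G ⟶ (homCx F J).homology 0 :=
  haveI : (internalHomFunctor F).Additive := additive_internalHomFunctor F
  J.toRightDerivedZero' (internalHomFunctor F) ≫ (homCx F J).homologyπ 0

theorem isIso_zeroHom (F : X.Modules) {G : X.Modules} (J : InjectiveResolution G) :
    IsIso (zeroHom F J) := by
  haveI : (internalHomFunctor F).Additive := additive_internalHomFunctor F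
  haveI := preservesFiniteLimits_internalHom F
  haveI := hasInjectiveResolutions_modules X
  have h2 : IsIso ((homCx F J).homologyπ 0) := CochainComplex.isIso_homologyπ₀ _
  have h1 : IsIso (J.toRightDerivedZero' (internalHomFunctor F)) := by
    dsimp [InjectiveResolution.toRightDerivedZero']
    rw [CochainComplex.isIso_liftCycles_iff, ShortComplex.exact_and_mono_f_iff_f_is_kernel]
    exact ⟨KernelFork.mapIsLimit _ J.isLimitKernelFork (internalHomFunctor F)⟩
  exact @IsIso.comp_isIso _ _ _ _ _ _ _ h1 h2

theorem zeroHom_naturality {F F' : X.Modules} (f : F ⟶ F') {G : X.Modules} (J : InjectiveResolution G) :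
    zeroHom F' J ≫ HomologicalComplex.homologyMap (homCxMap f J) 0 = precompApp f G ≫ zeroHom F J := by
  haveI : (internalHomFunctor F).Additive := additive_internalHomFunctor F
  haveI : (internalHomFunctor F').Additive := additive_internalHomFunctor F'
  have h : J.toRightDerivedZero' (internalHomFunctor F') ≫ HomologicalComplex.cyclesMap (homCxMap f J) 0 =
      precompApp f G ≫ J.toRightDerivedZero' (internalHomFunctor F) := by
    refine (cancel_mono ((homCx F J).iCycles 0)).1 ?_
    refine (Category.assoc _ _ _).trans ?_
    refine (congrArg (J.toRightDerivedZero' (internalHomFunctor F') ≫ ·)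
      (HomologicalComplex.cyclesMap_i (homCxMap f J) 0)).trans ?_
    refine (Category.assoc _ _ _).symm.trans ?_
    refine (congrArg (· ≫ (homCxMap f J).f 0) (J.toRightDerivedZero'_comp_iCycles (internalHomFunctor F'))).trans ?_
    refine ((precomp f).naturality (J.ι.f 0)).trans ?_
    refine Eq.trans ?_ (Category.assoc _ _ _).symm
    exact congrArg (precompApp f G ≫ ·) (J.toRightDerivedZero'_comp_iCycles (internalHomFunctor F)).symm
  exact (Category.assoc _ _ _).trans
    ((congrArg (J.toRightDerivedZero' (internalHomFunctor F') ≫ ·)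
        (HomologicalComplex.homologyπ_naturality (homCxMap f J) 0)).trans
      ((Category.assoc _ _ _).symm.trans
        ((congrArg (· ≫ (homCx F J).homologyπ 0) h).trans (Category.assoc _ _ _))))

/-- The first sheaf `Ext` out of the last term of a short exact sequence with locally free middle term. -/
theorem nonempty_homology_one_iso {S : ShortComplex X.Modules} (hS : S.ShortExact)
    (hE : FlatMod.IsFinLocFree S.X₂) {G : X.Modules} (J : InjectiveResolution G) :
    Nonempty ((homCx S.X₃ J).homology 1 ≅ cokernel (precompApp S.f G)) := by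
  have hSE := shortExact_homCxShort hS J
  haveI : Epi (hSE.δ 0 1 rfl) := hSE.epi_δ 0 1 rfl (isZero_homology_homCx_of_locFree hE J 0)
  haveI : Epi (ShortComplex.mk _ _ (hSE.comp_δ 0 1 rfl)).g := inferInstanceAs (Epi (hSE.δ 0 1 rfl))
  have hex := hSE.homology_exact₃ 0 1 rfl
  haveI := isIso_zeroHom S.X₁ J
  haveI := isIso_zeroHom S.X₂ J
  exact ⟨((cokernelIsCokernel (HomologicalComplex.homologyMap (homCxMap S.f J) 0)).coconePointUniqueUpToIso
      hex.gIsCokernel).symm ≪≫
    (cokernel.mapIso _ _ (asIso (zeroHom S.X₂ J)) (asIso (zeroHom S.X₁ J))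
      (zeroHom_naturality S.f J).symm).symm⟩

/-- Evaluation out of an invertible module is an isomorphism. -/
theorem isIso_eval {I : X.Modules} (hI : PicF.IsInvertible I) (N : X.Modules) :
    IsIso (evalBilin I N).desc := by
  refine TwistLib.G.isIso_of_bijective_on_basis _
    (fun B => ∃ k : Γ(I, B), IsGen I B k) (fun V y hy => ?_) fun B ⟨k, hk⟩ => ?_
  · obtain ⟨U, hyU, g, hg⟩ := exists_isGen hI y
    exact ⟨V ⊓ U, ⟨resM I inf_le_right g, hg.restrict inf_le_right⟩, ⟨hy, hyU⟩, inf_le_left⟩
  have h1 : Function.Bijective (fun n : Γ(internalHom I N, B) =>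
      (tmul k n : Γ(CohB1.tensorMod I (internalHom I N), B))) := by
    have h := (ConcreteCategory.bijective_of_isIso
      ((tensorComm (internalHom I N) I).hom.app B)).comp (bijective_tmul_gen (M := internalHom I N) hk B le_rfl)
    convert h using 1
    funext n
    show tmul k n = (tensorSwap (internalHom I N) I).app B (tmul n (resM I le_rfl k))
    rw [PicLib.resM_self]
    refine Eq.symm ((Bilin.desc_tmul _ B n k).trans ?_)
    rfl
  have h2 : Function.Bijective (fun n : Γ(internalHom I N, B) => ev (secHom n) B le_rfl k) := by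
    refine ⟨fun n n' h => locHom_ext (φ := secHom n) (ψ := secHom n') fun W hW a => ?_, fun w => ?_⟩
    · rw [← hk.coef_spec hW a, ev_smul_arg, ev_smul_arg]
      refine congrArg (hk.coef hW a • ·) ?_
      exact (ev_res (secHom n) le_rfl hW k).symm.trans
        ((congrArg (resM N hW) h).trans (ev_res (secHom n') le_rfl hW k))
    · refine ⟨(show locHom I N B from
        ⟨fun W hW => AddMonoidHom.mk' (fun a => hk.coef hW a • resM N hW w)
            (fun a a' => by rw [hk.coef_add, add_smul]),
          fun W hW r a => by
            show hk.coef hW (r • a) • resM N hW w = r • (hk.coef hW a • resM N hW w)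
            rw [hk.coef_smul, mul_smul],
          fun W W' hW h a => by
            show resM N h (hk.coef hW a • resM N hW w) = hk.coef (h.trans hW) (resM I h a) • resM N (h.trans hW) w
            rw [resM_smul, resM_resM, hk.coef_res]⟩), ?_⟩
      show hk.coef le_rfl k • resM N le_rfl w = w
      rw [hk.coef_eq le_rfl (r := 1) (by rw [one_smul, PicLib.resM_self]), one_smul, PicLib.resM_self]
  refine (Function.Bijective.of_comp_iff _ h1).1 ?_
  convert h2 using 1
  funext n
  exact Bilin.desc_tmul _ B k n

variable {I : X.Modules} (j : I ⟶ Coh.structureModule X) (ω : X.Modules)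

/-- Multiplication by a form, `a ↦ (n ↦ j(a) • n)`. -/
noncomputable def mulBilin : Bilin I ω ω where
  app U a n := (show Γ(X, U) from j.app U a) • n
  add_left U a a' n := (congrArg (fun x : Γ(X, U) => x • n) (map_add (j.app U).hom a a')).trans
    (add_smul (show Γ(X, U) from j.app U a) (show Γ(X, U) from j.app U a') n)
  add_right U a n n' := smul_add _ _ _
  smul_left U r a n := by
    rw [show (show Γ(X, U) from j.app U (r • a)) = r * (show Γ(X, U) from j.app U a) from
      Scheme.Modules.Hom.app_smul j r a]
    exact mul_smul _ _ _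
  smul_right U r a n := smul_comm _ r n
  res U V h a n := by
    rw [resM_smul]
    exact congrArg (· • resM ω h n) (app_resM j h a).symm

theorem precompApp_eq :
    (unitTensorIso (internalHom (Coh.structureModule X) ω)).hom ≫ precompApp j ω =
      (evalBilin (Coh.structureModule X) ω).desc ≫ curry (mulBilin j ω) := by
  refine AmpleLib.hom_ext fun U r φ => locHom_ext (φ := secHom _) (ψ := secHom _) fun W hW a => ?_
  show ev (secHom ((precompApp j ω).app U ((unitBilin _).desc.app U (tmul r φ)))) W hW a =
    ev (secHom ((curry (mulBilin j ω)).app U ((evalBilin _ ω).desc.app U (tmul r φ)))) W hW a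
  rw [Bilin.desc_tmul, Bilin.desc_tmul, ev_precompApp, ev_curry]
  show (X.presheaf.map (homOfLE hW).op (show Γ(X, U) from r) : Γ(X, W)) • ev (secHom φ) W hW (j.app W a) =
    (show Γ(X, W) from j.app W a) • resM ω hW (ev (secHom φ) U le_rfl r)
  rw [ev_res, ← ev_smul_arg, ← ev_smul_arg]
  exact congrArg (ev (secHom φ) W hW) (mul_comm (show Γ(X, W) from X.presheaf.map (homOfLE hW).op
    (show Γ(X, U) from r)) (show Γ(X, W) from j.app W a))

theorem eval_mul [Mono j] :
    (evalBilin I ω).desc ≫ curry (mulBilin j ω) =
      tensorMap j (𝟙 _) ≫ (unitTensorIso (internalHom I ω)).hom := by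
  refine AmpleLib.hom_ext fun U b φ => locHom_ext (φ := secHom _) (ψ := secHom _) fun W hW a => ?_
  show ev (secHom ((curry (mulBilin j ω)).app U ((evalBilin I ω).desc.app U (tmul b φ)))) W hW a =
    ev (secHom ((unitBilin _).desc.app U ((tensorMap j (𝟙 _)).app U (tmul b φ)))) W hW a
  rw [tensorMap_tmul, Bilin.desc_tmul, Bilin.desc_tmul, ev_curry]
  show (show Γ(X, W) from j.app W a) • resM ω hW (ev (secHom φ) U le_rfl b) =
    (X.presheaf.map (homOfLE hW).op (show Γ(X, U) from j.app U b) : Γ(X, W)) • ev (secHom φ) W hW a
  rw [ev_res, ← ev_smul_arg, ← ev_smul_arg]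
  refine congrArg (ev (secHom φ) W hW) (app_injective_of_mono j W ?_)
  rw [Scheme.Modules.Hom.app_smul, Scheme.Modules.Hom.app_smul, app_resM]
  exact mul_comm (show Γ(X, W) from j.app W a) _

/-- The cokernel of the dual of the inclusion of an invertible ideal. -/
theorem nonempty_cokernel_precompApp [Mono j] (hI : PicF.IsInvertible I) {Q : X.Modules}
    (q : Coh.structureModule X ⟶ Q) (w : j ≫ q = 0) (hS : (ShortComplex.mk j q w).ShortExact) :
    Nonempty (cokernel (precompApp j ω) ≅ CohB1.tensorMod Q (internalHom I ω)) := by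
  haveI := isIso_eval hI ω
  haveI := isIso_eval (isInvertible_structureModule) ω
  let N := internalHom I ω
  let T := twistF N
  haveI : PreservesColimitsOfSize.{0, 0} T := preservesColimits_of_natIso (twistTensIso N).symm
  haveI := hS.epi_g
  let e₁ : cokernel (precompApp j ω) ≅ cokernel (curry (mulBilin j ω)) :=
    cokernel.mapIso _ _ ((unitTensorIso _).symm ≪≫ asIso (evalBilin (Coh.structureModule X) ω).desc) (Iso.refl _)
      (by
        show precompApp j ω ≫ 𝟙 _ = ((unitTensorIso _).inv ≫ _) ≫ _
        rw [Category.comp_id, Category.assoc, asIso_hom, ← precompApp_eq, Iso.inv_hom_id_assoc])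
  let e₂ : cokernel (T.map j) ≅ cokernel (curry (mulBilin j ω)) :=
    cokernel.mapIso _ _ (@asIso _ _ _ _ _ (isIso_eval hI ω)) (unitTensorIso N) (eval_mul j ω).symm
  exact ⟨e₁ ≪≫ e₂.symm ≪≫ (cokernelIsCokernel (T.map j)).coconePointUniqueUpToIso
    (CokernelCofork.mapIsColimit _ hS.gIsCokernel T)⟩

/-- The inverse of an invertible module is its dual. -/
theorem nonempty_dual_iso_inverse {L : X.Modules} (hI : PicF.IsInvertible I)
    (e : CohB1.tensorMod L I ≅ Coh.structureModule X) :
    Nonempty (internalHom I (Coh.structureModule X) ≅ L) := by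
  haveI := isIso_eval hI (Coh.structureModule X)
  let D := internalHom I (Coh.structureModule X)
  exact ⟨(unitTensorIso D).symm ≪≫ AmpleLib.tensorIso e.symm (Iso.refl D) ≪≫
    DCat.TensorAssoc.assocIso L I D ≪≫
    AmpleLib.tensorIso (Iso.refl L) (@asIso _ _ _ _ _ (isIso_eval hI (Coh.structureModule X))) ≪≫
    tensorComm _ _ ≪≫ unitTensorIso L⟩

end Groth.Agent.SerreDual
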