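import Groth.Agent.SerreDual.HomLinear
import Groth.Agent.EulerLib.Degree
import Groth.Agent.Coherent.ModExt
import Mathlib.Algebra.Homology.DerivedCategory.Ext.MapBijective

/-!
# Twisting by an invertible module is an autoequivalence; `Ext` out of invertible modules
-/

set_option autoImplicit false
set_option linter.style.haveILetI false
set_option backward.isDefEq.respectTransparency.types false

universe u

open CategoryTheory CategoryTheory.Abelian CategoryTheory.Limits AlgebraicGeometry Opposite TopologicalSpace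
open Groth.Agent.Coherent Groth.Agent.PicLib Groth.Agent.AmpleLib

namespace Groth.Agent.SerreDual

variable {X : Scheme.{u}}

/-- Twisting. -/
noncomputable def twistF (L : X.Modules) : X.Modules ⥤ X.Modules where
  obj M := CohB1.tensorMod M L
  map φ := tensorMap φ (𝟙 L)
  map_id M := AmpleLib.hom_ext fun U a b => tensorMap_tmul _ _ a b
  map_comp φ ψ := AmpleLib.hom_ext fun U a b => by
    rw [tensorMap_tmul]
    refine Eq.trans ?_ (congrArg ((tensorMap ψ (𝟙 L)).app U) (tensorMap_tmul φ (𝟙 L) a b)).symm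
    exact (tensorMap_tmul ψ (𝟙 L) _ _).symm

instance (L : X.Modules) : (twistF L).Additive where
  map_add {M N f g} := AmpleLib.hom_ext fun U a b => by
    show (tensorMap (f + g) (𝟙 L)).app U (tmul a b) =
      (tensorMap f (𝟙 L)).app U (tmul a b) + (tensorMap g (𝟙 L)).app U (tmul a b)
    rw [tensorMap_tmul, tensorMap_tmul, tensorMap_tmul, Scheme.Modules.Hom.add_app]
    exact tmul_add_left _ _ _

/-- Twisting by `L` and then by its inverse. -/
theorem exists_cancelIso {L N : X.Modules} (hL : PicF.IsInvertible L) (hN : PicF.IsInvertible N)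
    (e : CohB1.tensorMod L N ≅ Coh.structureModule X) :
    Nonempty (twistF L ⋙ twistF N ≅ 𝟭 X.Modules) := by
  choose α hα using fun F : X.Modules => exists_assocHom F N hL
  let c : ∀ F : X.Modules, CohB1.tensorMod (CohB1.tensorMod F L) N ⟶ F := fun F =>
    α F ≫ tensorMap (𝟙 F) e.hom ≫ (tensorComm F (Coh.structureModule X)).hom ≫ (unitTensorIso F).hom
  have hc : ∀ (F : X.Modules) (U : X.Opens) (a : Γ(F, U)) (b : Γ(L, U)) (w : Γ(N, U)),
      (c F).app U (tmul (tmul a b) w) = (show Γ(X, U) from e.hom.app U (tmul b w)) • a := by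
    intro F U a b w
    show (unitBilin F).desc.app U ((tensorSwap F (Coh.structureModule X)).app U
      ((tensorMap (𝟙 F) e.hom).app U ((α F).app U (tmul (tmul a b) w)))) = _
    rw [hα, tensorMap_tmul]
    refine (congrArg ((unitBilin F).desc.app U) (Bilin.desc_tmul _ U _ _)).trans ?_
    exact Bilin.desc_tmul _ U _ _
  have key : ∀ (y : X), ∃ (W : X.Opens) (g : Γ(L, W)) (h : Γ(N, W)), y ∈ W ∧ IsGen L W g ∧ IsGen N W h := by
    intro y
    obtain ⟨U, hyU, g, hg⟩ := exists_isGen hL y
    obtain ⟨V, hyV, h, hh⟩ := exists_isGen hN y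
    exact ⟨U ⊓ V, _, _, ⟨hyU, hyV⟩, hg.restrict inf_le_left, hh.restrict inf_le_right⟩
  have hbij : ∀ (F : X.Modules) (W : X.Opens) (g : Γ(L, W)) (h : Γ(N, W)), IsGen L W g → IsGen N W h →
      ∀ V : X.Opens, V ≤ W → Function.Bijective ((c F).app V) := by
    intro F W g h hg hh V hV
    have hb : Function.Bijective (fun a : Γ(F, V) =>
        (tmul (tmul a (resM L hV g)) (resM N hV h) : Γ(CohB1.tensorMod (CohB1.tensorMod F L) N, V))) :=
      (bijective_tmul_gen (M := CohB1.tensorMod F L) hh V hV).comp (bijective_tmul_gen (M := F) hg V hV)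
    have hgen : IsGen (Coh.structureModule X) W (e.hom.app W (tmul g h)) := isGen_map_iso e (isGen_tmul hg hh)
    obtain ⟨r, hr⟩ := (hgen V hV).2 (show Γ(Coh.structureModule X, V) from (1 : Γ(X, V)))
    beta_reduce at hr
    rw [← app_resM, resM_tmul] at hr
    have hu : IsUnit (show Γ(X, V) from e.hom.app V (tmul (resM L hV g) (resM N hV h))) :=
      isUnit_iff_exists_inv'.2 ⟨r, hr⟩
    have h2 : Function.Bijective (fun a : Γ(F, V) =>
        (c F).app V (tmul (tmul a (resM L hV g)) (resM N hV h))) := by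
      obtain ⟨u, hu⟩ := hu
      have hfun : (fun a : Γ(F, V) => (c F).app V (tmul (tmul a (resM L hV g)) (resM N hV h))) =
          fun a : Γ(F, V) => (u : Γ(X, V)) • a := funext fun a => by
        rw [hu]; exact hc F V a _ _
      rw [hfun]
      exact ⟨fun a b hab => by
        have h' := congrArg ((u⁻¹ : Γ(X, V)ˣ).1 • ·) hab
        simpa [smul_smul] using h', fun b => ⟨(u⁻¹ : Γ(X, V)ˣ).1 • b, by simp [smul_smul]⟩⟩
    exact (Function.Bijective.of_comp_iff _ hb).1 h2
  have hiso : ∀ F : X.Modules, IsIso (c F) := by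
    intro F
    haveI : Mono (c F) := by
      refine ⟨fun p q hpq => Scheme.Modules.hom_ext _ _ fun U => ConcreteCategory.hom_ext _ _ fun a => ?_⟩
      refine sec_ext _ _ _ fun y hy => ?_
      obtain ⟨W, g, h, hyW, hg, hh⟩ := key y
      refine ⟨U ⊓ W, inf_le_left, ⟨hy, hyW⟩, (hbij F W g h hg hh _ inf_le_right).1 ?_⟩
      rw [app_resM, app_resM]
      exact congrArg (resM F inf_le_left) (ConcreteCategory.congr_hom (congrArg (fun φ => Scheme.Modules.Hom.app φ U) hpq) a)
    haveI : Epi (c F) := by
      refine epi_of_locally_surjective _ fun U a y hy => ?_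
      obtain ⟨W, g, h, hyW, hg, hh⟩ := key y
      exact ⟨U ⊓ W, inf_le_left, ⟨hy, hyW⟩, (hbij F W g h hg hh _ inf_le_right).2 _⟩
    exact isIso_of_mono_of_epi _
  refine ⟨NatIso.ofComponents (fun F => @asIso _ _ _ _ (c F) (hiso F)) fun {F G} φ => ?_⟩
  refine AmpleLib.hom_ext fun U z w => ?_
  show (c G).app U ((tensorMap (tensorMap φ (𝟙 L)) (𝟙 N)).app U (tmul z w)) = φ.app U ((c F).app U (tmul z w))
  revert w
  refine induction_local (P := fun V z => ∀ w : Γ(N, V),
    (c G).app V ((tensorMap (tensorMap φ (𝟙 L)) (𝟙 N)).app V (tmul z w)) = φ.app V ((c F).app V (tmul z w)))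
    (fun V z z' hz hz' w => ?_) (fun V w => ?_) (fun V z hz w => ?_) (fun V a b w => ?_) U z
  · rw [tmul_add_left, map_add, map_add, map_add, map_add, hz w, hz' w]
  · rw [tmul_zero_left, map_zero, map_zero, map_zero, map_zero]
  · refine sec_ext _ _ _ fun y hy => ?_
    obtain ⟨W, hW, hyW, hm⟩ := hz y hy
    refine ⟨W, hW, hyW, ?_⟩
    rw [← app_resM, ← app_resM, ← app_resM, ← app_resM, resM_tmul]
    exact hm _
  · rw [tensorMap_tmul, tensorMap_tmul]
    refine (hc G V (φ.app V a) b w).trans ?_
    rw [hc F V a b w, Scheme.Modules.Hom.app_smul]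

/-- Twisting by an invertible module is an equivalence. -/
theorem isEquivalence_twistF {L N : X.Modules} (hL : PicF.IsInvertible L) (hN : PicF.IsInvertible N)
    (e : CohB1.tensorMod L N ≅ Coh.structureModule X) : (twistF N).IsEquivalence := by
  obtain ⟨u⟩ := exists_cancelIso hN hL (tensorComm N L ≪≫ e)
  obtain ⟨v⟩ := exists_cancelIso hL hN e
  exact (CategoryTheory.Equivalence.mk (twistF N) (twistF L) u.symm v).isEquivalence_functor

/-- `Ext` out of an invertible module vanishes with the cohomology of the twist. -/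
theorem subsingleton_ext_of_invertible {L N : X.Modules} (hL : PicF.IsInvertible L) (hN : PicF.IsInvertible N)
    (e : CohB1.tensorMod L N ≅ Coh.structureModule X) (M : X.Modules) (n : ℕ)
    (h : Subsingleton (Coh.HH X (CohB1.tensorMod M N) n)) : Subsingleton (Ext L M n) := by
  haveI := isEquivalence_twistF hL hN e
  haveI : EnoughInjectives X.Modules :=
    haveI : IsGrothendieckAbelian.{u} X.Modules := DCat.schemeModules_isGrothendieckAbelian X
    inferInstance
  haveI : PreservesFiniteLimits (twistF N) := inferInstance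
  haveI : PreservesFiniteColimits (twistF N) := inferInstance
  haveI : (twistF N).PreservesInjectiveObjects := inferInstance
  have hb := (twistF N).mapExt_bijective_of_preservesInjectiveObjects L M n
  -- the twist of `L` corepresents sections
  let j : (freeModOn X).obj ⊤ ≅ CohB1.tensorMod L N :=
    { hom := (freeModOnEquiv ⊤ _).symm (e.inv.app ⊤ (show Γ(Coh.structureModule X, ⊤) from (1 : Γ(X, ⊤))))
      inv := e.hom ≫ unitDesc _ (genMod ⊤)
      hom_inv_id := by
        apply (freeModOnEquiv ⊤ _).injective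
        refine (freeModOnEquiv_comp ⊤ _ _).trans ?_
        rw [Equiv.apply_symm_apply]
        show (unitDesc _ (genMod ⊤)).app ⊤ (e.hom.app ⊤ (e.inv.app ⊤ _)) = genMod ⊤
        refine (congrArg ((unitDesc _ (genMod ⊤)).app ⊤) (show e.hom.app ⊤ (e.inv.app ⊤ _) = _ from
          ConcreteCategory.congr_hom (congrArg (fun φ => Scheme.Modules.Hom.app φ ⊤) e.inv_hom_id) _)).trans ?_
        exact unitDesc_one_app _
      inv_hom_id := by
        rw [Category.assoc, ← cancel_epi e.inv, Iso.inv_hom_id_assoc, Category.comp_id]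
        refine CurveRR24.hom_ext_one _ _ fun V => ?_
        rw [Scheme.Modules.Hom.comp_app, ConcreteCategory.comp_apply, CurveRR24.unitDesc_app, one_smul,
          app_resM, app_genMod, Equiv.apply_symm_apply, ← app_resM]
        exact congrArg (e.inv.app V) (map_one (X.presheaf.map (homOfLE le_top).op).hom) }
  haveI : Subsingleton (Ext ((freeModOn X).obj ⊤) (CohB1.tensorMod M N) n) := by
    haveI := h
    haveI : Subsingleton (Ext (freeSh (X := X.toTopCat) (⊤ : X.Opens)) (Coh.toAb (CohB1.tensorMod M N)) n) :=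
      (HHTopEquiv (CohB1.tensorMod M N) n).symm.toEquiv.subsingleton
    exact (bijective_extToH ⊤ n _).1.subsingleton
  haveI : Subsingleton (Ext (CohB1.tensorMod L N) (CohB1.tensorMod M N) n) := by
    refine subsingleton_of_forall_eq 0 fun x => ?_
    have h1 : (Ext.mk₀ j.inv).comp ((Ext.mk₀ j.hom).comp x (zero_add n)) (zero_add n) = x := by
      rw [Ext.mk₀_comp_mk₀_assoc, Iso.inv_hom_id, Ext.mk₀_id_comp]
    rw [← h1, Subsingleton.elim ((Ext.mk₀ j.hom).comp x (zero_add n)) 0, Ext.comp_zero]
  haveI : Subsingleton (Ext ((twistF N).obj L) ((twistF N).obj M) n) :=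
    ‹Subsingleton (Ext (CohB1.tensorMod L N) (CohB1.tensorMod M N) n)›
  exact hb.1.subsingleton

end Groth.Agent.SerreDual
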