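import Groth.Agent.SerreDual.ExtShBasic
import Groth.Agent.SerreDual.TwistEquiv
import Groth.Agent.DCat.TensorAssoc

/-!
# Sheaf `Ext` and twisting by an invertible module
-/

set_option autoImplicit false
set_option linter.style.haveILetI false
set_option backward.isDefEq.respectTransparency.types false

universe u

open CategoryTheory CategoryTheory.Abelian CategoryTheory.Limits AlgebraicGeometry Opposite TopologicalSpace
open Groth.Agent.Coherent Groth.Agent.EulerLib Groth.Agent.PicLib Groth.Agent.AmpleLib

namespace Groth.Agent.SerreDual

section Resolution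

variable {C D : Type (u + 1)} [Category.{u} C] [Category.{u} D] [Abelian C] [Abelian D]

/-- The image of an injective resolution under an exact functor preserving injective objects. -/
noncomputable def mapResolution (T : C ⥤ D) [T.Additive] [PreservesFiniteLimits T] [PreservesFiniteColimits T]
    [T.PreservesInjectiveObjects] {Z : C} (I : InjectiveResolution Z) : InjectiveResolution (T.obj Z) :=
  haveI hq : QuasiIso ((T.mapHomologicalComplex (ComplexShape.up ℕ)).map I.ι) := inferInstance
  { cocomplex := (T.mapHomologicalComplex (ComplexShape.up ℕ)).obj I.cocomplex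
    injective := fun n => T.injective_obj_of_injective (I.injective n)
    ι := (HomologicalComplex.singleMapHomologicalComplex T (ComplexShape.up ℕ) 0).inv.app Z ≫
      (T.mapHomologicalComplex (ComplexShape.up ℕ)).map I.ι
    quasiIso := inferInstance }

end Resolution

variable {X : Scheme.{u}}

/-- Tensoring with `F` commutes with twisting. -/
noncomputable def tensTwistIso (F N : X.Modules) : tensE F ⋙ twistF N ≅ twistF N ⋙ tensE F :=
  NatIso.ofComponents (fun A => DCat.TensorAssoc.assocIso F A N) fun {A A'} g => by
    have e1 : (tensE F ⋙ twistF N).map g = ((DCat.shT X).map (((DCat.shT X).obj F).map g)).app N :=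
      AmpleLib.hom_ext fun U z b => by
        show (tensorMap ((tensE F).map g) (𝟙 N)).app U (tmul z b) = _
        rw [tensorMap_tmul]
        exact (DCat.PullTensor.tensorBi_map_tmul _ U z b).symm
    have e2 : ((twistF N) ⋙ tensE F).map g = ((DCat.shT X).obj F).map (((DCat.shT X).map g).app N) := by
      refine congrArg ((DCat.shT X).obj F).map (AmpleLib.hom_ext fun U a b => ?_)
      show (tensorMap g (𝟙 N)).app U (tmul a b) = _
      rw [tensorMap_tmul]
      exact (DCat.PullTensor.tensorBi_map_tmul _ U a b).symm
    rw [e1, e2]
    exact DCat.TensorAssoc.assocIso_nat₂ (M := F) (P := N) g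

/-- The internal Hom commutes with twisting by an invertible module. -/
theorem nonempty_internalHom_twist {L N : X.Modules} (hL : PicF.IsInvertible L) (hN : PicF.IsInvertible N)
    (e : CohB1.tensorMod L N ≅ Coh.structureModule X) (F : X.Modules) :
    Nonempty (twistF L ⋙ internalHomFunctor F ≅ internalHomFunctor F ⋙ twistF L) := by
  obtain ⟨u⟩ := exists_cancelIso hN hL (tensorComm N L ≪≫ e)
  obtain ⟨v⟩ := exists_cancelIso hL hN e
  let adjN : twistF N ⊣ twistF L := (CategoryTheory.Equivalence.mk (twistF N) (twistF L) u.symm v).toAdjunction
  exact ⟨(((tensorHomAdj F).comp adjN).ofNatIsoLeft (tensTwistIso F N)).rightAdjointUniq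
    (adjN.comp (tensorHomAdj F))⟩

/-- Sheaf `Ext` commutes with twisting by an invertible module. -/
theorem nonempty_homology_twist {L N : X.Modules} (hL : PicF.IsInvertible L) (hN : PicF.IsInvertible N)
    (e : CohB1.tensorMod L N ≅ Coh.structureModule X) (F : X.Modules) {G : X.Modules}
    (I : InjectiveResolution G) (J : InjectiveResolution (CohB1.tensorMod G L)) (i : ℕ) :
    Nonempty ((homCx F J).homology i ≅ CohB1.tensorMod ((homCx F I).homology i) L) := by
  obtain ⟨w⟩ := nonempty_internalHom_twist hL hN e F
  haveI := isEquivalence_twistF hN hL (tensorComm N L ≪≫ e)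
  haveI : PreservesFiniteLimits (twistF L) := inferInstance
  haveI : PreservesFiniteColimits (twistF L) := inferInstance
  haveI : (twistF L).PreservesInjectiveObjects := inferInstance
  haveI := hasInjectiveResolutions_modules X
  haveI : (internalHomFunctor F).Additive := additive_internalHomFunctor F
  let J' : InjectiveResolution ((twistF L).obj G) := mapResolution (twistF L) I
  let J₁ : InjectiveResolution ((twistF L).obj G) := J
  exact ⟨(J₁.isoRightDerivedObj (internalHomFunctor F) i).symm ≪≫
    J'.isoRightDerivedObj (internalHomFunctor F) i ≪≫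
    (HomologicalComplex.homologyFunctor X.Modules (ComplexShape.up ℕ) i).mapIso
      ((NatIso.mapHomologicalComplex w (ComplexShape.up ℕ)).app I.cocomplex) ≪≫
    ((homCx F I).sc i).mapHomologyIso (twistF L)⟩

end Groth.Agent.SerreDual
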