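import Groth.Agent.SerreDual.ExtShBasic
import Groth.Agent.SerreDual.ExtShTwist
import Groth.Agent.Coherent.InjRestrict
import Groth.Agent.DCat.PullPerf

/-!
# Sheaf `Ext` commutes with restriction to opens
-/

set_option autoImplicit false
set_option linter.style.haveILetI false
set_option backward.isDefEq.respectTransparency false

universe u

open CategoryTheory CategoryTheory.Abelian CategoryTheory.Limits AlgebraicGeometry Opposite TopologicalSpace
open Groth.Agent.Coherent Groth.Agent.PicLib Groth.Agent.AmpleLib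

namespace Groth.Agent.SerreDual

variable {X Z : Scheme.{u}} (j : Z ⟶ X) [IsOpenImmersion j] (F N : X.Modules)

theorem image_preimage_of_le {W : Z.Opens} {W' : X.Opens} (h : W' ≤ j ''ᵁ W) : j ''ᵁ (j ⁻¹ᵁ W') = W' := by
  rw [j.image_preimage_eq_opensRange_inf, inf_eq_right]
  exact h.trans (j.image_le_opensRange W)

theorem preimage_le_of_le {W : Z.Opens} {W' : X.Opens} (h : W' ≤ j ''ᵁ W) : j ⁻¹ᵁ W' ≤ W :=
  (j.image_le_image_iff _ W).1 ((image_preimage_of_le j h).trans_le h)

variable {F N}

/-- A family on the image, as a family on the source of the open immersion. -/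
noncomputable def restrictFamily {W : Z.Opens} (φ : locHom F N (j ''ᵁ W)) :
    locHom (F.restrict j) (N.restrict j) W :=
  ⟨fun W' hW' => φ.1 (j ''ᵁ W') (j.image_mono hW'),
    fun W' hW' r a => φ.2.1 (j ''ᵁ W') (j.image_mono hW') ((j.appIso W').inv r) a,
    fun W' W'' hW' h a => φ.2.2 (j ''ᵁ W') (j ''ᵁ W'') (j.image_mono hW') (j.image_mono h) a⟩

theorem bijective_restrictFamily (W : Z.Opens) :
    Function.Bijective (restrictFamily j (F := F) (N := N) (W := W)) := by
  refine ⟨fun φ φ' h => locHom_ext fun W' hW' a => ?_, fun ψ => ?_⟩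
  · obtain ⟨W₀, rfl⟩ : ∃ W₀ : Z.Opens, W' = j ''ᵁ W₀ := ⟨_, (image_preimage_of_le j hW').symm⟩
    exact congrArg (fun ψ : locHom (F.restrict j) (N.restrict j) W =>
      ev ψ W₀ ((j.image_le_image_iff _ _).1 hW') a) h
  · let v : ∀ (W' : X.Opens), W' ≤ j ''ᵁ W → (Γ(F, W') →+ Γ(N, W')) := fun W' h =>
      (resM N (image_preimage_of_le j h).ge).comp
        (AddMonoidHom.comp (ψ.1 (j ⁻¹ᵁ W') (preimage_le_of_le j h) :
          Γ(F, j ''ᵁ (j ⁻¹ᵁ W')) →+ Γ(N, j ''ᵁ (j ⁻¹ᵁ W'))) (resM F (image_preimage_of_le j h).le))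
    have hv : ∀ (W₁ : Z.Opens) (h : j ''ᵁ W₁ ≤ j ''ᵁ W) (a : Γ(F, j ''ᵁ W₁)),
        v (j ''ᵁ W₁) h a = ψ.1 W₁ ((j.image_le_image_iff _ _).1 h) a := by
      intro W₁ h a
      have gen : ∀ (W₀ : Z.Opens) (e : W₀ = W₁) (h₀ : W₀ ≤ W) (h₁ : j ''ᵁ W₁ ≤ j ''ᵁ W₀)
          (h₂ : j ''ᵁ W₀ ≤ j ''ᵁ W₁),
          resM N h₁ ((ψ.1 W₀ h₀ : Γ(F, j ''ᵁ W₀) →+ Γ(N, j ''ᵁ W₀)) (resM F h₂ a)) =
            ψ.1 W₁ ((j.image_le_image_iff _ _).1 h) a := by
        intro W₀ e h₀ h₁ h₂
        subst e
        rw [PicLib.resM_self, PicLib.resM_self]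
      exact gen _ (j.preimage_image_eq W₁) _ _ _
    refine ⟨⟨v, fun W' h r a => ?_, fun W' W'' h h' a => ?_⟩, locHom_ext fun W' h a => hv W' (j.image_mono h) a⟩
    · obtain ⟨W₁, rfl⟩ : ∃ W₁ : Z.Opens, W' = j ''ᵁ W₁ := ⟨_, (image_preimage_of_le j h).symm⟩
      rw [hv _ h, hv _ h]
      obtain ⟨s, rfl⟩ : ∃ s, (j.appIso W₁).inv s = r :=
        ⟨(j.appIso W₁).hom r, by rw [← ConcreteCategory.comp_apply, Iso.hom_inv_id]; rfl⟩
      exact ψ.2.1 W₁ _ s a
    · obtain ⟨W₁, rfl⟩ : ∃ W₁ : Z.Opens, W' = j ''ᵁ W₁ := ⟨_, (image_preimage_of_le j h).symm⟩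
      obtain ⟨W₂, rfl⟩ : ∃ W₂ : Z.Opens, W'' = j ''ᵁ W₂ := ⟨_, (image_preimage_of_le j (h'.trans h)).symm⟩
      rw [hv _ h, hv _ (h'.trans h)]
      exact ψ.2.2 W₁ W₂ _ ((j.image_le_image_iff _ _).1 h') a

variable (F N)

/-- Internal Hom on an open, as the restriction of the internal Hom. -/
noncomputable def restrictInternalHomMap :
    (internalHom F N).restrict j ⟶ internalHom (F.restrict j) (N.restrict j) :=
  ⟨PresheafOfModules.homMk
    { app := fun W => AddCommGrpCat.ofHom (AddMonoidHom.mk'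
        (fun φ : locHom F N (j ''ᵁ W.unop) =>
          (show locHom (F.restrict j) (N.restrict j) W.unop from restrictFamily j φ))
        (fun _ _ => rfl))
      naturality := fun _ _ _ => rfl }
    fun W r φ => locHom_ext fun W' hW' a => by
      show (X.presheaf.map (homOfLE (j.image_mono hW')).op ((j.appIso W.unop).inv r)) •
          ev (show locHom F N (j ''ᵁ W.unop) from φ) (j ''ᵁ W') (j.image_mono hW') a =
        ((j.appIso W').inv (Z.presheaf.map (homOfLE hW').op r)) •
          ev (show locHom F N (j ''ᵁ W.unop) from φ) (j ''ᵁ W') (j.image_mono hW') a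
      refine congrArg (fun t : Γ(X, j ''ᵁ W') =>
        t • ev (show locHom F N (j ''ᵁ W.unop) from φ) (j ''ᵁ W') (j.image_mono hW') a) ?_
      exact (ConcreteCategory.congr_hom (Scheme.Hom.appIso_inv_naturality j (homOfLE hW').op) r).symm⟩

theorem isIso_restrictInternalHomMap : IsIso (restrictInternalHomMap j F N) :=
  TwistLib.G.isIso_of_bijective_on_basis _ (fun _ => True) (fun V _ hy => ⟨V, trivial, hy, le_rfl⟩)
    fun B _ => bijective_restrictFamily j B

/-- Restriction commutes with the internal Hom, naturally in the target. -/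
theorem nonempty_internalHom_restrict :
    Nonempty (internalHomFunctor F ⋙ Scheme.Modules.restrictFunctor j ≅
      Scheme.Modules.restrictFunctor j ⋙ internalHomFunctor (F.restrict j)) :=
  haveI := fun N => isIso_restrictInternalHomMap j F N
  ⟨NatIso.ofComponents (fun N => asIso (restrictInternalHomMap j F N)) fun {N N'} g =>
    Scheme.Modules.hom_ext _ _ fun W => ConcreteCategory.hom_ext _ _ fun φ => locHom_ext fun W' hW' a => by
      refine (ev_internalHomMap F g (U := j ''ᵁ W) φ (j ''ᵁ W') (j.image_mono hW') a).trans ?_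
      exact (ev_internalHomMap (F.restrict j) ((Scheme.Modules.restrictFunctor j).map g)
        ((restrictInternalHomMap j F N).app W φ) W' hW' a).symm⟩

variable {F}

/-- Sheaf `Ext` commutes with restriction. -/
theorem nonempty_homology_restrict {G : X.Modules} (I : InjectiveResolution G)
    (J : InjectiveResolution (G.restrict j)) (i : ℕ) :
    Nonempty (((homCx F I).homology i).restrict j ≅ (homCx (F.restrict j) J).homology i) := by
  obtain ⟨w⟩ := nonempty_internalHom_restrict j F
  let T := Scheme.Modules.restrictFunctor j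
  haveI : PreservesFiniteLimits T := DCat.PullPerf.preservesFiniteLimits_restrict j
  haveI : PreservesFiniteColimits T := inferInstance
  haveI : T.Additive := Functor.additive_of_preserves_binary_products T
  haveI : T.PreservesInjectiveObjects := preservesInjectiveObjects_restrictFunctor j
  haveI := hasInjectiveResolutions_modules Z
  haveI : (internalHomFunctor F).Additive := additive_internalHomFunctor F
  haveI : (internalHomFunctor (F.restrict j)).Additive := additive_internalHomFunctor _
  let J' : InjectiveResolution (T.obj G) := mapResolution T I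
  let J₁ : InjectiveResolution (T.obj G) := J
  exact ⟨(((homCx F I).sc i).mapHomologyIso T).symm ≪≫
    (HomologicalComplex.homologyFunctor Z.Modules (ComplexShape.up ℕ) i).mapIso
      ((NatIso.mapHomologicalComplex w (ComplexShape.up ℕ)).app I.cocomplex) ≪≫
    (J'.isoRightDerivedObj (internalHomFunctor (F.restrict j)) i).symm ≪≫
    J₁.isoRightDerivedObj (internalHomFunctor (F.restrict j)) i⟩

end Groth.Agent.SerreDual
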