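import Groth.Agent.SerreDual.ExtDuality
import Groth.Agent.SerreDual.TwistEquiv
import Groth.Agent.SerreDual.ProjRep
import Groth.Agent.TwistLib.TwistInv
import Groth.Agent.SerreDual.Projective

/-!
# Serre duality on projective space in all degrees
-/

set_option autoImplicit false
set_option linter.style.haveILetI false
set_option backward.isDefEq.respectTransparency.types false

universe u

open CategoryTheory CategoryTheory.Abelian CategoryTheory.Limits AlgebraicGeometry Opposite TopologicalSpace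
open Groth.Agent.Coherent Groth.Agent.EulerLib

namespace Groth.Agent.SerreDual

section Biprod

variable (k : Type u) [Field k] {X : Scheme.{u}} [X.Over (Spec (CommRingCat.of k))]
  {ι : Type} [Fintype ι] {G : ι → X.Modules} [HasBiproduct G]

omit [Field k] [X.Over (Spec (CommRingCat.of k))] in
theorem biproduct_total [DecidableEq ι] : 𝟙 (⨁ G) = ∑ i, biproduct.π G i ≫ biproduct.ι G i :=
  biproduct.total.symm

include k in
/-- Cohomology of a finite biproduct of acyclic modules vanishes. -/
theorem subsingleton_HH_biproduct (q : ℕ) (h : ∀ i, Subsingleton (Coh.HH X (G i) q)) :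
    Subsingleton (Coh.HH X (⨁ G) q) := by
  classical
  refine subsingleton_of_forall_eq 0 fun x => ?_
  let φ : ((⨁ G) ⟶ (⨁ G)) →+ (Coh.HH X (⨁ G) q →ₗ[k] Coh.HH X (⨁ G) q) :=
    { toFun := fun f => hmap k f q, map_zero' := hmap_zero k _ _ q, map_add' := fun f g => hmap_add k f g q }
  have e : x = φ (𝟙 _) x := by show x = hmap k (𝟙 _) q x; rw [hmap_id]; rfl
  rw [e, biproduct_total, map_sum, LinearMap.sum_apply]
  refine Finset.sum_eq_zero fun i _ => ?_
  show hmap k (biproduct.π G i ≫ biproduct.ι G i) q x = 0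
  rw [hmap_comp, LinearMap.comp_apply, (h i).elim (hmap k _ q x) 0, map_zero]

omit [Field k] [X.Over (Spec (CommRingCat.of k))] in
/-- `Ext` out of a finite biproduct. -/
theorem subsingleton_ext_biproduct [HasExt.{u} X.Modules] (M : X.Modules) (m : ℕ)
    (h : ∀ i, Subsingleton (Ext (G i) M m)) : Subsingleton (Ext (⨁ G) M m) := by
  classical
  refine subsingleton_of_forall_eq 0 fun x => ?_
  let φ : ((⨁ G) ⟶ (⨁ G)) →+ Ext (⨁ G) M m :=
    { toFun := fun f => (Ext.mk₀ f).comp x (zero_add m)
      map_zero' := by rw [Ext.mk₀_zero, Ext.zero_comp]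
      map_add' := fun f g => by rw [Ext.mk₀_add, Ext.add_comp] }
  have e : x = φ (𝟙 _) := (Ext.mk₀_id_comp x).symm
  rw [e, biproduct_total, map_sum]
  refine Finset.sum_eq_zero fun i _ => ?_
  show (Ext.mk₀ (biproduct.π G i ≫ biproduct.ι G i)).comp x (zero_add m) = 0
  rw [← Ext.mk₀_comp_mk₀, Ext.comp_assoc _ _ _ (zero_add 0) (zero_add m) (by omega),
    (h i).elim ((Ext.mk₀ (biproduct.ι G i)).comp x (zero_add m)) 0, Ext.comp_zero]

include k in
omit [Fintype ι] [HasBiproduct G] in
/-- Cohomology vanishing transports along isomorphisms. -/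
theorem subsingleton_HH_of_iso {M N : X.Modules} (e : M ≅ N) (q : ℕ) [Subsingleton (Coh.HH X N q)] :
    Subsingleton (Coh.HH X M q) := by
  refine subsingleton_of_forall_eq 0 fun x => ?_
  have h : hmap k e.inv q (hmap k e.hom q x) = x := by
    rw [← LinearMap.comp_apply, ← hmap_comp, e.hom_inv_id, hmap_id]; rfl
  rw [← h, Subsingleton.elim (hmap k e.hom q x) 0, map_zero]

end Biprod

variable (n : ℕ) (k : Type u) [Field k]

/-- Some variable does not vanish at each point. -/
theorem exists_degree_one (x : ProjectiveSpectrum (CohB1.polyGrading n k)) :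
    ∃ f ∈ CohB1.polyGrading n k 1, f ∉ x.asHomogeneousIdeal.toIdeal := by
  obtain ⟨i, hi⟩ := Opens.mem_iSup.1 ((projPowCover n k).cover.ge (Opens.mem_top (α := CohB1.ProjSpace n k) x))
  exact ⟨_, ProjLib.X_mem_polyGrading n k i, hi⟩

/-- `O(a) ⊗ O(b) ≅ O(c)`. -/
theorem nonempty_twist_tensor {a b c : ℤ} (h : a + b = c) :
    Nonempty (CohB1.tensorMod (Twist.twistProjSpace n k a) (Twist.twistProjSpace n k b) ≅
      Twist.twistProjSpace n k c) :=
  TwistLib.nonempty_tensor_twist_iso (exists_degree_one n k) h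

/-- `Ext^{>0}(O(e), O(-n-1)) = 0` for `e < 0`. -/
theorem subsingleton_ext_twist [HasExt.{u} (CohB1.ProjSpace n k).Modules] (e : ℤ) (he : e < 0) (i : ℕ) :
    Subsingleton (Ext (Twist.twistProjSpace n k e) (Twist.twistProjSpace n k (-((n : ℤ) + 1))) (i + 1)) := by
  obtain ⟨a⟩ := nonempty_twist_tensor n k (show e + -e = 0 by ring)
  obtain ⟨b⟩ := TwistLib.nonempty_twist_zero_iso (𝒜 := CohB1.polyGrading n k)
  refine subsingleton_ext_of_invertible (isInvertible_twist n k e) (isInvertible_twist n k (-e)) (a ≪≫ b) _ _ ?_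
  obtain ⟨c⟩ := nonempty_twist_tensor n k (show -((n : ℤ) + 1) + -e = -((n : ℤ) + 1) - e by ring)
  haveI : Subsingleton (Coh.HH (CohB1.ProjSpace n k) (Twist.twistProjSpace n k (-((n : ℤ) + 1) - e)) (i + 1)) :=
    subsingleton_HH_twist (n := n) (R := k) (d := _) (i + 1) (fun h => by omega) (fun h => by omega)
  exact subsingleton_HH_of_iso k c (i + 1)

variable [HasExt.{u} (CohB1.ProjSpace n k).Modules]

/-- Serre duality on projective space. -/
theorem projSpace_duality (F : (CohB1.ProjSpace n k).Modules) (hF : Coh.IsCoh F) (i : ℕ) :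
    (∀ j, i + j = n → Nonempty (Ext F (Twist.twistProjSpace n k (-((n : ℤ) + 1))) i ≃ₗ[k]
      Module.Dual k (Coh.HH (CohB1.ProjSpace n k) F j))) ∧
    (n < i → Subsingleton (Ext F (Twist.twistProjSpace n k (-((n : ℤ) + 1))) i)) := by
  haveI : IsProper ((CohB1.ProjSpace n k) ↘ Spec (CommRingCat.of k)) := isProper_projSpace_toSpec n k
  haveI := isNoetherian_of_proper (k := k) (X := CohB1.ProjSpace n k)
  haveI := hasFiniteBiproducts (CohB1.ProjSpace n k)
  obtain ⟨t, ht⟩ := exists_trace (n := n) (k := k)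
  refine duality_all_degrees t (fun F hF => rep_coh t ht hF) (fun M hM => ?_) i F hF
  haveI : Coh.IsQCoh M := hM.1
  obtain ⟨N₀, hN₀⟩ := (projPowCover n k).exists_epi hM
  obtain ⟨r, π, hπ⟩ := hN₀ (n + 1 + N₀) (by omega) _ (twistGens n k (n + 1 + N₀))
  haveI := isQCoh_twistProjSpace (n := n) (R := k) (-((n + 1 + N₀ : ℕ) : ℤ))
  refine ⟨_, π, hπ, isCoh_biproduct _ fun _ => isCoh_of_gens (twistGens n k (n + 1 + N₀)),
    fun q => subsingleton_ext_biproduct _ _ fun _ => subsingleton_ext_twist n k _ (by omega) q,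
    fun q hq => subsingleton_HH_biproduct (k := k) q fun _ =>
      subsingleton_HH_twist (n := n) (R := k) (d := -((n + 1 + N₀ : ℕ) : ℤ)) q (fun h => by omega) (fun h => by omega)⟩

end Groth.Agent.SerreDual
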