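import Groth.Agent.CohColim.Apps
import Groth.Agent.CohColim.Covered
import Groth.Agent.ToposFinLib.Eps
import Groth.Agent.DerCompLib.RestrAdj
import Groth.Prelude.Def_Coh
import Mathlib.Topology.NoetherianSpace

/-!
# Cohomology on a Noetherian space commutes with filtered colimits
-/

set_option autoImplicit false

set_option linter.style.haveILetI false

universe u

open CategoryTheory CategoryTheory.Limits Opposite TopologicalSpace
open Groth.Agent.ToposFinLib Groth.Agent.CohColim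

namespace Groth.Agent.SerreDual

variable (T : TopCat.{u}) [NoetherianSpace T]

theorem isQCSite_opens (U : Opens T) : ToposFin.IsQCSite (Opens.grothendieckTopology T) U := by
  classical
  intro S hS
  have h : ∀ x : (U : Set T), ∃ (V : Opens T) (i : V ⟶ U), S i ∧ x.1 ∈ V := fun x => hS x.1 x.2
  choose V i hi hx using h
  obtain ⟨t, ht⟩ := (NoetherianSpace.isCompact (U : Set T)).elim_finite_subcover
    (fun x => (V x : Set T)) (fun x => (V x).2) fun y hy => Set.mem_iUnion.2 ⟨⟨y, hy⟩, hx ⟨y, hy⟩⟩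
  refine ⟨t.card, fun j => V (t.equivFin.symm j).1, fun j => i _, fun j => hi _, fun y hy => ?_⟩
  obtain ⟨x, hxt, hyx⟩ := Set.mem_iUnion₂.1 (ht hy)
  refine ⟨V x, i x, (Sieve.mem_ofArrows_iff _ _ _).2 ⟨t.equivFin ⟨x, hxt⟩, eqToHom ?_, Subsingleton.elim _ _⟩, hyx⟩
  rw [Equiv.symm_apply_apply]

local notation "Jop" => Opens.grothendieckTopology T

/-- The class of sheaves represented by opens. -/
def OpenObj (K : ToposFin.Sh Jop) : Prop := ∃ U : Opens T, Nonempty (K ≅ ToposFin.eps Jop U)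

noncomputable def epsTopTerminal : IsTerminal (ToposFin.eps Jop (⊤ : Opens T)) :=
  IsTerminal.isTerminalObj (epsF Jop) (⊤ : Opens T)
    (IsTerminal.ofUniqueHom (fun V => homOfLE le_top) fun _ _ => Subsingleton.elim _ _)

theorem cls_openObj : Cls (OpenObj T) (Glued (OpenObj T)) := by
  refine cls_of_gen ?_ ((gen_eps (J := Jop)).mono fun K ⟨U, hU⟩ => ⟨U, ⟨eqToIso hU⟩⟩) ?_
  · rintro K ⟨U, ⟨e⟩⟩
    exact isQC_of_iso e.symm (isQC_eps (isQCSite_opens T) U)
  · rintro K A B f g ⟨U, ⟨eK⟩⟩ ⟨V, ⟨eA⟩⟩ ⟨W, ⟨eB⟩⟩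
    let m : ToposFin.eps Jop U ⟶ ToposFin.eps Jop (⊤ : Opens T) := (epsF Jop).map (homOfLE le_top)
    haveI : Mono m := (epsF Jop).map_mono (homOfLE (le_top : U ≤ ⊤))
    have hP : IsPullback (homOfLE (inf_le_left : V ⊓ W ≤ V)) (homOfLE (inf_le_right : V ⊓ W ≤ W))
        (homOfLE (le_top : V ≤ ⊤)) (homOfLE (le_top : W ≤ ⊤)) :=
      IsPullback.of_isLimit' ⟨Subsingleton.elim _ _⟩ (PullbackCone.IsLimit.mk _
        (fun s => homOfLE (le_inf (leOfHom s.fst) (leOfHom s.snd))) (fun s => Subsingleton.elim _ _)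
        (fun s => Subsingleton.elim _ _) fun s l _ _ => Subsingleton.elim _ _)
    have hQ := hP.map (epsF Jop)
    refine ⟨ToposFin.eps Jop (V ⊓ W), (epsF Jop).map (homOfLE inf_le_left) ≫ eA.inv,
      (epsF Jop).map (homOfLE inf_le_right) ≫ eB.inv, ⟨V ⊓ W, ⟨Iso.refl _⟩⟩, ?_⟩
    have hf : eA.inv ≫ f ≫ eK.hom ≫ m = (epsF Jop).map (homOfLE le_top) := (epsTopTerminal T).hom_ext _ _
    have hg : eB.inv ≫ g ≫ eK.hom ≫ m = (epsF Jop).map (homOfLE le_top) := (epsTopTerminal T).hom_ext _ _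
    have hmain : IsPullback ((epsF Jop).map (homOfLE (inf_le_left : V ⊓ W ≤ V)) ≫ eA.inv)
        ((epsF Jop).map (homOfLE (inf_le_right : V ⊓ W ≤ W)) ≫ eB.inv)
        (f ≫ eK.hom ≫ m) (g ≫ eK.hom ≫ m) :=
      hQ.of_iso (Iso.refl _) eA.symm eB.symm (Iso.refl _) (by simp) (by simp)
        (by simpa using hf.symm) (by simpa using hg.symm)
    exact IsPullback.of_isLimit' ⟨(cancel_mono (eK.hom ≫ m)).1 (by simpa using hmain.w)⟩
      (PullbackCone.IsLimit.mk _
        (fun s => hmain.lift s.fst s.snd (by rw [reassoc_of% s.condition]))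
        (fun s => hmain.lift_fst _ _ _) (fun s => hmain.lift_snd _ _ _)
        fun s l h₁ h₂ => hmain.hom_ext (by rw [hmain.lift_fst]; exact h₁) (by rw [hmain.lift_snd]; exact h₂))

/-- Cohomology of abelian sheaves on a Noetherian space commutes with filtered colimits. -/
theorem preservesFilteredColimits_H (Λ : Type u) [SmallCategory Λ] [IsFiltered Λ] (q : ℕ) :
    PreservesColimitsOfShape Λ
      (Sheaf.functorH Jop q : Sheaf Jop AddCommGrpCat.{u} ⥤ AddCommGrpCat.{u}) :=
  (cls_openObj T).preservesColimitsOfShape_functorH Λ (K := ToposFin.eps Jop (⊤ : Opens T))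
    ⟨⊤, ⟨Iso.refl _⟩⟩ (epsTopTerminal T) q

open AlgebraicGeometry

/-- The underlying abelian sheaf of modules on a scheme preserves colimits. -/
theorem preservesColimitsOfShape_toAb (X : Scheme.{u}) (Λ : Type u) [SmallCategory Λ] :
    PreservesColimitsOfShape Λ (SheafOfModules.toSheaf.{u} X.ringCatSheaf) :=
  DerCompLib.preservesColimitsOfShape_toSheaf (O := X.sheaf) Λ

/-- Cohomology of modules on a Noetherian scheme commutes with filtered colimits. -/
theorem preservesFilteredColimits_HH (X : Scheme.{u}) [NoetherianSpace X] (Λ : Type u) [SmallCategory Λ]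
    [IsFiltered Λ] (q : ℕ) :
    PreservesColimitsOfShape Λ
      (SheafOfModules.toSheaf.{u} X.ringCatSheaf ⋙ Sheaf.functorH (Opens.grothendieckTopology X) q) :=
  ⟨fun {K} => ⟨fun {c} hc => ⟨by
    have h1 := preservesColimitsOfShape_toAb X Λ
    have h2 : PreservesColimitsOfShape Λ (Sheaf.functorH (Opens.grothendieckTopology X) q :
        Sheaf (Opens.grothendieckTopology X) AddCommGrpCat.{u} ⥤ AddCommGrpCat.{u}) :=
      @preservesFilteredColimits_H X.toTopCat (show NoetherianSpace X from inferInstance) Λ _ _ q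
    exact isColimitOfPreserves (Sheaf.functorH (Opens.grothendieckTopology X) q)
      (isColimitOfPreserves (SheafOfModules.toSheaf.{u} X.ringCatSheaf) hc)⟩⟩⟩

end Groth.Agent.SerreDual
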