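import Groth.Agent.SerreDual.Trace
import Groth.Agent.EulerLib.FGABridge
import Groth.Agent.SerreDual.Colim
import Groth.Agent.SerreDual.QCohCat
import Mathlib.Algebra.Category.ModuleCat.FilteredColimits
import Mathlib.CategoryTheory.Limits.Constructions.Filtered
import Mathlib.CategoryTheory.Preadditive.LeftExact
import Mathlib.Algebra.Category.ModuleCat.Colimits

/-!
# Existence of a quasi-coherent dualizing module on a proper scheme over a field
-/

set_option autoImplicit false
set_option linter.style.haveILetI false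

universe u

open CategoryTheory CategoryTheory.Limits AlgebraicGeometry Opposite TopologicalSpace
open Groth.Agent.Coherent Groth.Agent.EulerLib

namespace Groth.Agent.SerreDual

section Coprod

open CoproductsFromFiniteFiltered

variable {C D : Type (u + 1)} [Category.{u} C] [Category.{u} D]

/-- A functor commuting with finite coproducts and filtered colimits commutes with coproducts. -/
theorem preservesCoproducts_of_filtered [HasFiniteCoproducts C] [HasColimitsOfSize.{u, u} C] (G : C ⥤ D)
    [PreservesFiniteCoproducts G]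
    (hG : ∀ (Λ : Type u) [SmallCategory Λ] [IsFiltered Λ], PreservesColimitsOfShape Λ G)
    (α : Type u) : PreservesColimitsOfShape (Discrete α) G := by
  classical
  refine ⟨fun {F} => preservesColimit_of_preserves_colimit_cocone (liftToFinsetColimitCocone F).isColimit ?_⟩
  haveI := hG (Finset (Discrete α))
  let L := liftToFinsetObj F
  have hL := isColimitOfPreserves G (colimit.isColimit L)
  have hfin : ∀ s : Finset (Discrete α), IsColimit (G.mapCocone (colimit.cocone (Discrete.functor fun x : s => F.obj x))) :=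
    fun s => isColimitOfPreserves G (colimit.isColimit _)
  let legs : ∀ (t : Cocone (F ⋙ G)) (s : Finset (Discrete α)), G.obj (L.obj s) ⟶ t.pt := fun t s =>
    (hfin s).desc ⟨t.pt, Discrete.natTrans fun x => t.ι.app x.as.1⟩
  have hlegs : ∀ (t : Cocone (F ⋙ G)) (s : Finset (Discrete α)) (x : s),
      G.map (Sigma.ι (fun x : s => F.obj x) x) ≫ legs t s = t.ι.app x.1 := fun t s x =>
    (hfin s).fac ⟨t.pt, Discrete.natTrans fun x => t.ι.app x.as.1⟩ ⟨x⟩
  let cc : ∀ t : Cocone (F ⋙ G), Cocone (L ⋙ G) := fun t =>
    ⟨t.pt,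
      { app := legs t
        naturality := fun s s' h => by
          refine (hfin s).hom_ext fun ⟨x⟩ => ?_
          show G.map (Sigma.ι (fun y : s => F.obj y) x) ≫ G.map (L.map h) ≫ legs t s' =
            G.map (Sigma.ι (fun y : s => F.obj y) x) ≫ legs t s ≫ 𝟙 _
          rw [Category.comp_id]
          refine Eq.trans ?_ (hlegs t s x).symm
          refine (Category.assoc _ _ _).symm.trans ?_
          refine Eq.trans ?_ (hlegs t s' ⟨x.1, h.down.down x.2⟩)
          refine congrArg (· ≫ legs t s') ((G.map_comp _ _).symm.trans (congrArg G.map ?_))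
          exact Sigma.ι_desc _ _ }⟩
  exact
    { desc := fun t => hL.desc (cc t)
      fac := fun t j => by
        show G.map (Sigma.ι (fun x : ({j} : Finset (Discrete α)) => F.obj x) ⟨j, by simp⟩ ≫ colimit.ι L {j}) ≫ _ = _
        rw [G.map_comp, Category.assoc]
        refine (congrArg (_ ≫ ·) (hL.fac (cc t) {j})).trans ?_
        exact hlegs t {j} ⟨j, by simp⟩
      uniq := fun t m hm => hL.uniq (cc t) m fun s => by
        refine (hfin s).hom_ext fun ⟨x⟩ => ?_
        refine Eq.trans ?_ (hlegs t s x).symm
        refine Eq.trans ?_ (hm x.1)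
        show G.map (Sigma.ι (fun y : s => F.obj y) x) ≫ G.map (colimit.ι L s) ≫ m =
          G.map (Sigma.ι (fun y : ({x.1} : Finset (Discrete α)) => F.obj y) ⟨x.1, by simp⟩ ≫ colimit.ι L {x.1}) ≫ m
        rw [← colimit.w L (homOfLE (x := {x.1}) (y := s) (by simp)), ← Category.assoc, ← G.map_comp]
        refine congrArg (fun z => G.map z ≫ m) ?_
        refine Eq.trans ?_ (Category.assoc _ _ _)
        refine congrArg (· ≫ colimit.ι L s) ?_
        have hsub : ({x.1} : Finset (Discrete α)) ⊆ s := by simp
        exact (Sigma.ι_desc (f := fun y : ({x.1} : Finset (Discrete α)) => F.obj y.1)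
          (fun y => Sigma.ι (fun z : s => F.obj z.1) ⟨y.1, hsub y.2⟩) ⟨x.1, by simp⟩).symm }

end Coprod

variable (k : Type u) [Field k] (X : Scheme.{u}) [X.Over (Spec (CommRingCat.of k))]

/-- `H^d` on quasi-coherent modules, valued in vector spaces. -/
noncomputable def Hd (d : ℕ) : QCohCat.QCoh X ⥤ ModuleCat.{u} k where
  obj M := ModuleCat.of k (Coh.HH X M.obj d)
  map f := ModuleCat.ofHom (hmap k f.hom d)
  map_id M := congrArg ModuleCat.ofHom (hmap_id k M.obj d)
  map_comp f g := congrArg ModuleCat.ofHom (hmap_comp k f.hom g.hom d)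

instance (d : ℕ) : (Hd k X d).Additive where
  map_add {_ _ f g} := ModuleCat.hom_ext (hmap_add k f.hom g.hom d)

/-- `H^d` after forgetting the scalars. -/
noncomputable def HdIso (d : ℕ) : Hd k X d ⋙ forget₂ (ModuleCat.{u} k) AddCommGrpCat.{u} ≅
    (QCohCat.isQCoh X).ι ⋙ SheafOfModules.toSheaf.{u} X.ringCatSheaf ⋙
      Sheaf.functorH (Opens.grothendieckTopology X) d :=
  NatIso.ofComponents (fun M => Iso.refl _) fun {M N} f => by
    simp only [Iso.refl_hom]
    ext x
    exact hmap_eq k f.hom d x

variable [IsProper (X ↘ Spec (CommRingCat.of k))]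

theorem exact_hmap_of_exact {d : ℕ} {S : ShortComplex X.Modules} (hS : S.Exact) (hg : Epi S.g)
    (hd : topologicalKrullDim X ≤ d) [Coh.IsQCoh S.X₁] [Coh.IsQCoh S.X₂] :
    Function.Exact (hmap k S.f d) (hmap k S.g d) ∧ Function.Surjective (hmap k S.g d) := by
  haveI := isNoetherian_of_proper (k := k) (X := X)
  haveI : X.IsSeparated := isSeparated_of_proper (X := X) k
  haveI := hg
  let ι := Abelian.image.ι S.f
  have hI : Coh.IsQCoh (Abelian.image S.f) := isQCoh_image S.f
  have hK : Coh.IsQCoh (kernel S.f) := isQCoh_kernel S.f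
  let S₁ : ShortComplex X.Modules := ShortComplex.mk (kernel.ι S.f) (Abelian.factorThruImage S.f) (by
    rw [← cancel_mono ι, Category.assoc, Abelian.image.fac, kernel.condition, zero_comp])
  have hS₁ : S₁.ShortExact :=
    { mono_f := inferInstanceAs (Mono (kernel.ι S.f))
      epi_g := inferInstanceAs (Epi (Abelian.factorThruImage S.f))
      exact := ShortComplex.exact_of_f_is_kernel _
        (isKernelOfComp (f := Abelian.factorThruImage S.f) ι S.f (kernelIsKernel S.f) S₁.zero (Abelian.image.fac S.f)) }
  let S₂ : ShortComplex X.Modules := ShortComplex.mk ι S.g (by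
    rw [← cancel_epi (Abelian.factorThruImage S.f), ← Category.assoc, Abelian.image.fac, S.zero, comp_zero])
  let φ : S ⟶ S₂ := { τ₁ := Abelian.factorThruImage S.f, τ₂ := 𝟙 _, τ₃ := 𝟙 _ }
  haveI : Epi φ.τ₁ := inferInstanceAs (Epi (Abelian.factorThruImage S.f))
  haveI : IsIso φ.τ₂ := inferInstanceAs (IsIso (𝟙 S.X₂))
  haveI : Mono φ.τ₃ := inferInstanceAs (Mono (𝟙 S.X₃))
  have hS₂ : S₂.ShortExact :=
    { exact := (ShortComplex.exact_iff_of_epi_of_isIso_of_mono φ).1 hS
      mono_f := inferInstanceAs (Mono (Abelian.image.ι S.f))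
      epi_g := hg }
  have h1 : Function.Surjective (hmap k S₁.g d) :=
    hmap_surjective_of_shortExact k hS₁ d (subsingleton_HH_of_dim (kernel S.f) hd (Nat.lt_succ_self d))
  have h2 : Function.Surjective (hmap k S₂.g d) :=
    hmap_surjective_of_shortExact k hS₂ d (subsingleton_HH_of_dim (Abelian.image S.f) hd (Nat.lt_succ_self d))
  refine ⟨?_, h2⟩
  have e : hmap k S.f d = hmap k S₂.f d ∘ₗ hmap k S₁.g d := by
    rw [← hmap_comp]
    exact congrArg (fun ψ => hmap k ψ d) (Abelian.image.fac S.f).symm
  intro x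
  refine (exact_hmap k hS₂ d x).trans ?_
  rw [e, LinearMap.coe_comp, Set.range_comp, h1.range_eq, Set.image_univ]

theorem preservesColimits_Hd {d : ℕ} (hd : topologicalKrullDim X ≤ d) :
    PreservesColimitsOfSize.{u, u} (Hd k X d) := by
  haveI := isNoetherian_of_proper (k := k) (X := X)
  haveI : X.IsSeparated := isSeparated_of_proper (X := X) k
  haveI : HasBinaryBiproducts (QCohCat.QCoh X) := HasBinaryBiproducts.of_hasBinaryCoproducts
  haveI : HasZeroObject (QCohCat.QCoh X) := hasZeroObject_of_hasInitial_object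
  have hfil : ∀ (Λ : Type u) [SmallCategory Λ] [IsFiltered Λ], PreservesColimitsOfShape Λ (Hd k X d) := by
    intro Λ _ _
    haveI := preservesFilteredColimits_HH X Λ d
    haveI : PreservesColimitsOfShape Λ ((QCohCat.isQCoh X).ι ⋙ SheafOfModules.toSheaf.{u} X.ringCatSheaf ⋙
        Sheaf.functorH (Opens.grothendieckTopology X) d) :=
      ⟨fun {K} => ⟨fun {c} hc => ⟨isColimitOfPreserves (SheafOfModules.toSheaf.{u} X.ringCatSheaf ⋙
        Sheaf.functorH (Opens.grothendieckTopology X) d) (isColimitOfPreserves (QCohCat.isQCoh X).ι hc)⟩⟩⟩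
    haveI := preservesColimitsOfShape_of_natIso (J := Λ) (HdIso k X d).symm
    haveI : ReflectsColimitsOfShape Λ (forget₂ (ModuleCat.{u} k) AddCommGrpCat.{u}) :=
      reflectsColimitsOfShape_of_reflectsIsomorphisms
    exact preservesColimitsOfShape_of_reflects_of_preserves _ (forget₂ (ModuleCat.{u} k) AddCommGrpCat.{u})
  haveI : ∀ {M N : QCohCat.QCoh X} (f : M ⟶ N), PreservesColimit (parallelPair f 0) (Hd k X d) := fun {M N} f => by
    haveI : Coh.IsQCoh M.obj := M.property
    haveI : Coh.IsQCoh N.obj := N.property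
    refine preservesColimit_of_preserves_colimit_cocone (cokernelIsCokernel f) ?_
    refine (isColimitMapCoconeCoforkEquiv' (Hd k X d) (cokernel.condition f)).symm ?_
    let S : ShortComplex X.Modules := ShortComplex.mk f.hom (cokernel.π f).hom
      (congrArg (fun z => z.hom) (cokernel.condition f))
    have hS : S.Exact := S.exact_of_g_is_cokernel
      (CokernelCofork.mapIsColimit _ (cokernelIsCokernel f) (QCohCat.isQCoh X).ι)
    haveI : Epi (cokernel.π f).hom := (QCohCat.isQCoh X).ι.map_epi (cokernel.π f)
    let T : ShortComplex (ModuleCat.{u} k) := ShortComplex.mk ((Hd k X d).map f) ((Hd k X d).map (cokernel.π f))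
      (by rw [← Functor.map_comp, cokernel.condition, Functor.map_zero])
    obtain ⟨hT, hTg⟩ := exact_hmap_of_exact k X hS (inferInstanceAs (Epi (cokernel.π f).hom)) hd
    haveI : Epi T.g := (ModuleCat.epi_iff_surjective _).2 hTg
    exact ((ShortComplex.ShortExact.moduleCat_exact_iff_function_exact T).2 hT).gIsCokernel
  haveI := (Hd k X d).preservesFiniteColimits_of_preservesCokernels
  haveI := fun α : Type u => preservesCoproducts_of_filtered (Hd k X d) hfil α
  haveI : PreservesColimitsOfShape WalkingParallelPair (Hd k X d) := inferInstance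
  exact preservesColimits_of_preservesCoequalizers_and_coproducts _

/-- A quasi-coherent module with a trace representing the dual of top cohomology on all
quasi-coherent modules. -/
theorem exists_dualizing {d : ℕ} (hd : topologicalKrullDim X ≤ d) :
    ∃ (ω : X.Modules) (t : Coh.HH X ω d →ₗ[k] k), Coh.IsQCoh ω ∧
      ∀ F : X.Modules, Coh.IsQCoh F → Rep t F := by
  haveI := isNoetherian_of_proper (k := k) (X := X)
  haveI : X.IsSeparated := isSeparated_of_proper (X := X) k
  haveI := preservesColimits_Hd k X hd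
  haveI := isLeftAdjoint_qcoh X (Hd k X d)
  let adj := Adjunction.ofIsLeftAdjoint (Hd k X d)
  let K : ModuleCat.{u} k := ModuleCat.of k k
  let W : QCohCat.QCoh X := (Hd k X d).rightAdjoint.obj K
  refine ⟨W.obj, (adj.counit.app K).hom, W.property, fun F hF => ?_⟩
  let F' : QCohCat.QCoh X := ⟨F, hF⟩
  have key : ∀ φ : F' ⟶ W, theta (adj.counit.app K).hom F φ.hom = ((adj.homEquiv F' K).symm φ).hom := fun φ => by
    rw [Adjunction.homEquiv_counit]
    rfl
  refine ⟨fun a b hab => ?_, fun ψ => ?_⟩
  · have h1 : (adj.homEquiv F' K).symm (ObjectProperty.homMk a) = (adj.homEquiv F' K).symm (ObjectProperty.homMk b) :=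
      ModuleCat.hom_ext ((key (ObjectProperty.homMk a)).symm.trans (hab.trans (key (ObjectProperty.homMk b))))
    exact congrArg (fun z : F' ⟶ W => z.hom) ((adj.homEquiv F' K).symm.injective h1)
  · refine ⟨((adj.homEquiv F' K) (ModuleCat.ofHom (X := Coh.HH X F d) (Y := k) ψ)).hom, ?_⟩
    rw [key, Equiv.symm_apply_apply]
    rfl

end Groth.Agent.SerreDual
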