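import Groth.Agent.SerreDual.ExtShRep

/-!
# The dualizing module has no sections supported in smaller dimension
-/

set_option autoImplicit false
set_option linter.style.haveILetI false
set_option backward.isDefEq.respectTransparency.types false

universe u

open CategoryTheory CategoryTheory.Abelian CategoryTheory.Limits AlgebraicGeometry Opposite TopologicalSpace
open Groth.Agent.Coherent Groth.Agent.PicLib Groth.Agent.AmpleLib Groth.Agent.EulerLib

namespace Groth.Agent.SerreDual

/-- A closed set without generic points has smaller dimension. -/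
theorem dim_lt_of_no_generic {T : Type u} [TopologicalSpace T] [QuasiSober T] {r : ℕ}
    (h : ∀ Z : Set T, Z ∈ irreducibleComponents T → topologicalKrullDim Z = (r : WithBot ℕ∞))
    {W : Set T} (hW : IsClosed W) (hgen : ∀ x : T, closure ({x} : Set T) ∈ irreducibleComponents T → x ∉ W) :
    topologicalKrullDim W < (r : WithBot ℕ∞) := by
  have key : ∀ l : LTSeries (IrreducibleCloseds W), l.length + 1 ≤ r := fun l => by
    let m : IrreducibleCloseds W → IrreducibleCloseds T := fun C =>
      { carrier := Subtype.val '' (C : Set W)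
        isIrreducible' := C.isIrreducible.image _ continuous_subtype_val.continuousOn
        isClosed' := hW.isClosedEmbedding_subtypeVal.isClosedMap _ C.isClosed }
    have hm : StrictMono m := fun C D hCD => lt_of_le_of_ne
      (fun z hz => Set.image_mono (show (C : Set W) ⊆ D from hCD.le) hz)
      fun e => hCD.ne (SetLike.coe_injective (Subtype.val_injective.image_injective
        (congrArg (fun E : IrreducibleCloseds T => (E : Set T)) e)))
    let l' := l.map m hm
    obtain ⟨Z, hZ, hle⟩ := exists_mem_irreducibleComponents_subset_of_isIrreducible _ l'.last.isIrreducible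
    obtain ⟨η, hη⟩ := QuasiSober.sober hZ.1 (isClosed_of_mem_irreducibleComponents Z hZ)
    let C : IrreducibleCloseds T := ⟨Z, hZ.1, isClosed_of_mem_irreducibleComponents Z hZ⟩
    have hlt : l'.last < C := by
      refine lt_of_le_of_ne hle fun e => hgen η (hη.def.symm ▸ hZ) ?_
      have hηZ : η ∈ (l'.last : Set T) := by rw [e]; exact hη.mem
      obtain ⟨z, -, hz⟩ := hηZ
      exact hz ▸ z.2
    have h1 := TopDim.le_dim_of_subset (l'.snoc C hlt) Z (by rw [RelSeries.last_snoc]; exact subset_rfl)
    rw [h Z hZ] at h1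
    have h2 : (((l.length + 1 : ℕ)) : WithBot ℕ∞) ≤ (r : WithBot ℕ∞) := h1
    exact_mod_cast h2
  rcases r with - | p
  · haveI : IsEmpty (IrreducibleCloseds W) := ⟨fun C => absurd (key (RelSeries.singleton _ C)) (by simp)⟩
    rw [topologicalKrullDim, Order.krullDim_eq_bot]
    exact WithBot.bot_lt_coe _
  · refine lt_of_le_of_lt (TopDim.dim_le_iff.2 fun l => ?_) (WithBot.coe_lt_coe.2 (ENat.coe_lt_coe.2 p.lt_succ_self))
    exact_mod_cast (show l.length ≤ p by have := key l; omega)

section

variable {k : Type u} [Field k] {X : Scheme.{u}} [X.Over (Spec (CommRingCat.of k))]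

/-- Maps into a dualizing module vanishing at the generic points vanish. -/
theorem eq_zero_of_rep [IsProper (X ↘ Spec (CommRingCat.of k))] {r : ℕ}
    (heq : ∀ Z : Set X, Z ∈ irreducibleComponents X → topologicalKrullDim Z = (r : WithBot ℕ∞))
    {ω : X.Modules} (hω : Coh.IsCoh ω) (t : Coh.HH X ω r →ₗ[k] k)
    (hrep : ∀ F : X.Modules, Coh.IsCoh F → Rep t F) {F : X.Modules} (hF : Coh.IsCoh F) (φ : F ⟶ ω)
    (hφ : ∀ x : X, closure ({x} : Set X) ∈ irreducibleComponents X →
      (DerSch.stalkFunctor X x).map φ = 0) : φ = 0 := by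
  haveI := isNoetherian_of_proper (k := k) (X := X)
  haveI := isSeparated_of_proper (k := k) (X := X)
  haveI := hF.1
  haveI := hω.1
  have hI : Coh.IsQCoh (Abelian.image φ) := isQCoh_image φ
  have hIc : Coh.IsCoh (Abelian.image φ) := isCoh_of_mono (Abelian.image.ι φ) hω hI
  let W : Closeds X := ⟨CohB1.support (Abelian.image φ),
    isClosed_support _ (locallyFinGen_of_isFT _ hIc.2)⟩
  have hgen : ∀ x : X, closure ({x} : Set X) ∈ irreducibleComponents X → x ∉ (W : Set X) := fun x hx => by
    refine (notMem_support_iff _ x).2 ?_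
    let S := DerSch.stalkFunctor X x
    haveI : Epi (S.map (Abelian.factorThruImage φ)) := inferInstance
    haveI : Mono (S.map (Abelian.image.ι φ)) := inferInstance
    have h1 : S.map (Abelian.image.ι φ) = 0 := by
      apply (cancel_epi (S.map (Abelian.factorThruImage φ))).1
      rw [← S.map_comp, Abelian.image.fac, hφ x hx, comp_zero]
    exact (IsZero.iff_id_eq_zero _).2 ((cancel_mono (S.map (Abelian.image.ι φ))).1 (by rw [h1, comp_zero, comp_zero]))
  haveI := subsingleton_HH_of_support W (Abelian.image φ) hI subset_rfl r (dim_lt_of_no_generic heq W.2 hgen)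
  have h0 : Abelian.image.ι φ = 0 := (hrep _ hIc).1 (LinearMap.ext fun v => by
    rw [Subsingleton.elim v 0, map_zero, map_zero])
  rw [← Abelian.image.fac φ, h0, comp_zero]

/-- A map that vanishes on an open vanishes on the stalks there. -/
theorem stalk_map_eq_zero_of_restrict {Y : Scheme.{u}} {F G : Y.Modules} (φ : F ⟶ G) (U : Y.Opens) {x : Y}
    (hx : x ∈ U) (h : (Scheme.Modules.restrictFunctor U.ι).map φ = 0) : (DerSch.stalkFunctor Y x).map φ = 0 := by
  refine ModuleCat.hom_ext (LinearMap.ext fun m => ?_)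
  obtain ⟨V, hV, s, rfl⟩ := F.presheaf.exists_germ_eq (x := x) (show F.presheaf.stalk x from m)
  let V' : Y.Opens := U.ι ''ᵁ (U.ι ⁻¹ᵁ V)
  have hle : V' ≤ V := U.ι.image_preimage_le V
  have hxV : x ∈ V' := ⟨⟨x, hx⟩, hV, rfl⟩
  have h0 : φ.app V' (resM F hle s) = 0 :=
    congrArg (fun ψ : F.restrict U.ι ⟶ G.restrict U.ι => ψ.app (U.ι ⁻¹ᵁ V) (resM F hle s)) h
  show Algz.stalkMapAb φ x (F.presheaf.germ V x hV s) = 0
  rw [← TopCat.Presheaf.germ_res_apply F.presheaf (homOfLE hle) x hxV s]
  refine (TopCat.Presheaf.stalkFunctor_map_germ_apply V' x hxV φ.mapPresheaf _).trans ?_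
  exact (congrArg (G.presheaf.germ V' x hxV) h0).trans (map_zero _)

end

end Groth.Agent.SerreDual
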