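import Groth.Agent.SerreDual.ExtShStalk
import Groth.Agent.SerreDual.ExtShTorsion
import Groth.Agent.LocCoh.Gorenstein
import Groth.Agent.GrSectLib.DenseSubring
import Groth.Agent.CAlgH3.RegularExt
import Groth.Agent.CAlgH3.RegularLocal
import Mathlib.AlgebraicGeometry.Morphisms.ClosedImmersion

/-!
# The generic stalks of the dualizing sheaf `Ext`
-/

set_option autoImplicit false
set_option linter.style.haveILetI false
set_option backward.isDefEq.respectTransparency.types false

universe u

open CategoryTheory CategoryTheory.Abelian CategoryTheory.Limits AlgebraicGeometry Opposite TopologicalSpace IsLocalRing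
open Groth.Agent.Coherent Groth.Agent.PicLib Groth.Agent.AmpleLib

namespace Groth.Agent.SerreDual

/-- A module generated by a nonzero element killed by the nonunits. -/
def IsSimpleCyclic (R : Type u) [CommRing R] (M : Type u) [AddCommGroup M] [Module R M] : Prop :=
  ∃ v : M, v ≠ 0 ∧ (∀ w, ∃ r : R, r • v = w) ∧ ∀ r : R, ¬ IsUnit r → r • v = 0

/-- A free module of rank one. -/
def IsFreeCyclic (R : Type u) [CommRing R] (M : Type u) [AddCommGroup M] [Module R M] : Prop :=
  ∃ v : M, Function.Bijective fun r : R => r • v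

section Transfer

variable {R S : Type u} [CommRing R] [CommRing S] {M N : Type u} [AddCommGroup M] [Module R M]
  [AddCommGroup N] [Module S N] (g : R →+* S) [IsLocalHom g] (hg : Function.Surjective g)
  (e : M ≃+ N) (he : ∀ r m, e (r • m) = g r • e m)

include hg he in
theorem isSimpleCyclic_iff_semilinear : IsSimpleCyclic R M ↔ IsSimpleCyclic S N := by
  constructor
  · rintro ⟨v, hv, hgen, hk⟩
    refine ⟨e v, fun h => hv (e.map_eq_zero_iff.1 h), fun w => ?_, fun s hs => ?_⟩
    · obtain ⟨r, hr⟩ := hgen (e.symm w)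
      exact ⟨g r, by rw [← he, hr, e.apply_symm_apply]⟩
    · obtain ⟨r, rfl⟩ := hg s
      rw [← he, hk r (fun h => hs (h.map g)), map_zero]
  · rintro ⟨v, hv, hgen, hk⟩
    refine ⟨e.symm v, fun h => hv (by rw [← e.apply_symm_apply v, h, map_zero]), fun w => ?_, fun r hr => ?_⟩
    · obtain ⟨s, hs⟩ := hgen (e w)
      obtain ⟨r, rfl⟩ := hg s
      exact ⟨r, e.injective (by rw [he, e.apply_symm_apply, hs])⟩
    · refine e.injective ?_
      rw [he, e.apply_symm_apply, hk (g r) (fun h => hr (isUnit_of_map_unit g r h)), map_zero]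

omit [IsLocalHom g] in
include he in
theorem isFreeCyclic_of_semilinear (hb : Function.Bijective g) (h : IsFreeCyclic R M) : IsFreeCyclic S N := by
  obtain ⟨v, hv⟩ := h
  refine ⟨e v, ?_⟩
  have : (fun s : S => s • e v) ∘ g = e ∘ fun r : R => r • v := funext fun r => (he r v).symm
  exact (Function.Bijective.of_comp_iff _ hb).1 (this ▸ e.bijective.comp hv)

end Transfer

/-- A module with a simple cyclic structure over a local ring is the residue field. -/
theorem nonempty_equiv_residue {R : Type u} [CommRing R] [IsLocalRing R] {M : Type u} [AddCommGroup M]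
    [Module R M] (h : IsSimpleCyclic R M) : Nonempty ((R ⧸ maximalIdeal R) ≃ₗ[R] M) := by
  obtain ⟨v, hv, hgen, hk⟩ := h
  let f := LinearMap.toSpanSingleton R M v
  have hker : LinearMap.ker f = maximalIdeal R := by
    ext r
    refine ⟨fun hr => (mem_maximalIdeal r).2 fun hu => hv ?_, fun hr => hk r ((mem_maximalIdeal r).1 hr)⟩
    obtain ⟨u, rfl⟩ := hu
    exact (smul_eq_zero_iff_eq u).1 hr
  exact ⟨(Submodule.quotEquivOfEq _ _ hker.symm).trans (f.quotKerEquivOfSurjective hgen)⟩

/-- `Ext^d(k, R) ≅ k` for a regular local ring of dimension `d`. -/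
theorem isSimpleCyclic_ext_residue {R : Type u} [CommRing R] [IsRegularLocalRing R] {d : ℕ}
    (hd : ringKrullDim R = d) {A B : ModuleCat.{u} R} (hA : IsSimpleCyclic R A) (hB : IsFreeCyclic R B) :
    IsSimpleCyclic R (Ext A B d) := by
  haveI := CAlgH3.isCohenMacaulayLocalRing_of_regular R
  haveI := GrSectLib.gorenstein_of_regular R
  obtain ⟨eA⟩ := nonempty_equiv_residue hA
  obtain ⟨v, hv⟩ := hB
  let eB : R ≃ₗ[R] B := LinearEquiv.ofBijective (LinearMap.toSpanSingleton R B v) hv
  obtain ⟨e⟩ := CAlgH3.RegularExt.nonempty_ext_socle hd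
  obtain ⟨t⟩ := LocCoh.nonempty_socle_of_gorenstein (R := R) hd
  obtain ⟨h⟩ := CAlgH3.RegularExt.nonempty_hom_torsionBy (maximalIdeal R) le_rfl
    (_root_.LocCoh.H (maximalIdeal R) d R)
  let F : Ext A B d ≃ₗ[R] ((R ⧸ maximalIdeal R) →ₗ[R] (R ⧸ maximalIdeal R)) :=
    ((CAlgH3.ExtShift.congrLeft eA.symm d).trans (CAlgH3.ExtShift.congrRight eB.symm d)).trans
      (e.trans (h.symm.trans (t.symm.congrRight (M := R ⧸ maximalIdeal R))))
  refine ⟨F.symm LinearMap.id, fun h0 => ?_, fun w => ?_, fun r hr => ?_⟩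
  · have h1 : (LinearMap.id : (R ⧸ maximalIdeal R) →ₗ[R] (R ⧸ maximalIdeal R)) = 0 := by
      rw [← F.apply_symm_apply LinearMap.id, h0, map_zero]
    exact (maximalIdeal R).ne_top_iff_one.1 (maximalIdeal.isMaximal R).ne_top
      ((Submodule.Quotient.mk_eq_zero (maximalIdeal R)).1 (LinearMap.congr_fun h1 (Submodule.Quotient.mk 1)))
  · obtain ⟨r, hr⟩ := Submodule.Quotient.mk_surjective _ (F w (Submodule.Quotient.mk 1))
    refine ⟨r, F.injective ?_⟩
    rw [map_smul, F.apply_symm_apply]
    refine Submodule.linearMap_qext _ (LinearMap.ext_ring ?_)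
    show r • Submodule.Quotient.mk 1 = F w (Submodule.Quotient.mk 1)
    rw [← hr, ← Submodule.Quotient.mk_smul, smul_eq_mul, mul_one]
  · apply F.injective
    rw [map_smul, F.apply_symm_apply, map_zero]
    refine Submodule.linearMap_qext _ (LinearMap.ext_ring ?_)
    show r • (Submodule.Quotient.mk 1 : R ⧸ maximalIdeal R) = 0
    rw [← Submodule.Quotient.mk_smul, Submodule.Quotient.mk_eq_zero, smul_eq_mul, mul_one]
    exact (mem_maximalIdeal r).2 hr

/-- Germs of products. -/
theorem germSmul {X : Scheme.{u}} {M : X.Modules} {U : X.Opens} {x : X} {hx : x ∈ U} (r : Γ(X, U)) (m : Γ(M, U)) :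
    M.presheaf.germ U x hx (r • m) = X.presheaf.germ U x hx r • M.presheaf.germ U x hx m :=
  PresheafOfModules.germ_smul (R := X.presheaf)
    (show PresheafOfModules (X.presheaf ⋙ forget₂ CommRingCat RingCat) from M.val) x U hx r m

/-- Stalks of a restriction to an open. -/
theorem exists_restrict_stalk {Z X : Scheme.{u}} (j : Z ⟶ X) [IsOpenImmersion j] (M : X.Modules) (z : Z) :
    ∃ e : (M.restrict j).presheaf.stalk z ≃+ M.presheaf.stalk (j.base z),
      ∀ (r : X.presheaf.stalk (j.base z)) m, e (j.stalkMap z r • m) = r • e m := by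
  let E : (M.restrict j).presheaf.stalk z ≃+ M.presheaf.stalk (j.base z) :=
    ((Scheme.Modules.restrictStalkNatIso j z).app M).addCommGroupIsoToAddEquiv
  refine ⟨E, fun r m => ?_⟩
  obtain ⟨V, hV, ρ, rfl⟩ := X.presheaf.exists_germ_eq (x := j.base z) r
  obtain ⟨W, hW, s, rfl⟩ := (M.restrict j).presheaf.exists_germ_eq (x := z)
    (show (M.restrict j).presheaf.stalk z from m)
  let W₁ : Z.Opens := j ⁻¹ᵁ V ⊓ W
  have hz : z ∈ W₁ := ⟨hV, hW⟩
  have hle : j ''ᵁ W₁ ≤ V := (j.image_mono inf_le_left).trans (j.image_preimage_le V)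
  erw [Scheme.Hom.germ_stalkMap_apply j V z hV ρ,
    ← Z.presheaf.germ_res_apply (homOfLE (inf_le_left : W₁ ≤ j ⁻¹ᵁ V)) z hz,
    ← TopCat.Presheaf.germ_res_apply (M.restrict j).presheaf (homOfLE (inf_le_right : W₁ ≤ W)) z hz s,
    ← X.presheaf.germ_res_apply (homOfLE hle) (j.base z) ⟨z, hz, rfl⟩ ρ]
  let t : Γ(M.restrict j, W₁) := (M.restrict j).presheaf.map (homOfLE (inf_le_right : W₁ ≤ W)).op s
  let c : Γ(Z, W₁) := Z.presheaf.map (homOfLE (inf_le_left : W₁ ≤ j ⁻¹ᵁ V)).op (j.app V ρ)
  have hc : (j.appIso W₁).inv c = X.presheaf.map (homOfLE hle).op ρ := by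
    show (Z.presheaf.map _ ≫ (j.appIso W₁).inv) (j.app V ρ) = _
    rw [Scheme.Hom.appIso_inv_naturality, ← ConcreteCategory.comp_apply, Scheme.Hom.app_appIso_inv_assoc,
      ← Functor.map_comp]
    rfl
  have key : ∀ (a : Γ(M.restrict j, W₁)), E ((M.restrict j).presheaf.germ W₁ z hz a) =
      M.presheaf.germ (j ''ᵁ W₁) (j.base z) ⟨z, hz, rfl⟩ a := fun a =>
    ConcreteCategory.congr_hom (Scheme.Modules.germ_restrictStalkNatIso_hom_app j z M hz) a
  show E (Z.presheaf.germ W₁ z hz c • (M.restrict j).presheaf.germ W₁ z hz t) =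
    X.presheaf.germ (j ''ᵁ W₁) (j.base z) ⟨z, hz, rfl⟩ (X.presheaf.map (homOfLE hle).op ρ) •
      E ((M.restrict j).presheaf.germ W₁ z hz t)
  rw [← germSmul, key, key, ← hc, ← germSmul]
  rfl

/-- Stalks of a direct image along a closed immersion. -/
theorem exists_push_stalk {X Y : Scheme.{u}} (f : X ⟶ Y) [IsClosedImmersion f] (M : X.Modules) (x : X) :
    ∃ e : ((Scheme.Modules.pushforward f).obj M).presheaf.stalk (f.base x) ≃+ M.presheaf.stalk x,
      ∀ (r : Y.presheaf.stalk (f.base x)) m, e (r • m) = f.stalkMap x r • e m := by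
  haveI := TopCat.Presheaf.stalkPushforward.stalkPushforward_iso_of_isInducing (C := Ab.{u})
    f.isClosedEmbedding.isInducing M.presheaf x
  let E : ((Scheme.Modules.pushforward f).obj M).presheaf.stalk (f.base x) ≃+ M.presheaf.stalk x :=
    (asIso (M.presheaf.stalkPushforward Ab.{u} f.base x)).addCommGroupIsoToAddEquiv
  refine ⟨E, fun r m => ?_⟩
  obtain ⟨V, hV, ρ, rfl⟩ := Y.presheaf.exists_germ_eq (x := f.base x) r
  obtain ⟨W, hW, s, rfl⟩ := ((Scheme.Modules.pushforward f).obj M).presheaf.exists_germ_eq (x := f.base x)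
    (show ((Scheme.Modules.pushforward f).obj M).presheaf.stalk (f.base x) from m)
  let T : Y.Opens := V ⊓ W
  have hT : f.base x ∈ T := ⟨hV, hW⟩
  rw [← Y.presheaf.germ_res_apply (homOfLE (inf_le_left : T ≤ V)) (f.base x) hT ρ]
  erw [← TopCat.Presheaf.germ_res_apply ((Scheme.Modules.pushforward f).obj M).presheaf
    (homOfLE (inf_le_right : T ≤ W)) (f.base x) hT s]
  generalize Y.presheaf.map (homOfLE (inf_le_left : T ≤ V)).op ρ = ρ'
  have key : ∀ a : Γ((Scheme.Modules.pushforward f).obj M, T),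
      E (((Scheme.Modules.pushforward f).obj M).presheaf.germ T (f.base x) hT a) =
        M.presheaf.germ (f ⁻¹ᵁ T) x hT a := fun a =>
    ConcreteCategory.congr_hom (TopCat.Presheaf.stalkPushforward_germ Ab.{u} f.base M.presheaf T x hT) a
  rw [← germSmul, key, key, Scheme.Hom.germ_stalkMap_apply f T x hT ρ',
    ← germSmul]
  rfl

/-- The stalk at a generic point of a scheme reduced there is a field. -/
theorem isField_stalk_of_generic {X : Scheme.{u}} {η : X}
    (hη : closure ({η} : Set X) ∈ irreducibleComponents X) [_root_.IsReduced (X.presheaf.stalk η)] :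
    IsField (X.presheaf.stalk η) := by
  have hmax : IsMax η := fun y hy => by
    have h1 : closure ({η} : Set X) ⊆ closure {y} := (Scheme.le_iff_specializes.1 hy).closure_subset
    exact Scheme.le_iff_specializes.2 (specializes_iff_closure_subset.2 (hη.2 isIrreducible_singleton.closure h1))
  haveI : Ring.KrullDimLE 0 (X.presheaf.stalk η) := by
    rw [Ring.krullDimLE_iff, ringKrullDim_stalk_eq_coheight, (Order.coheight_eq_zero).2 hmax]
    exact le_rfl
  exact Ring.KrullDimLE.isField_of_isReduced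

/-- At a generic point, the dualizing sheaf `Ext` is a line. -/
theorem isSimpleCyclic_generic {P X : Scheme.{u}} [IsLocallyNoetherian P] (ι : X ⟶ P) [IsClosedImmersion ι]
    {η : X} (hfield : IsField (X.presheaf.stalk η)) [IsRegularLocalRing (P.presheaf.stalk (ι.base η))] {c : ℕ}
    (hc : ringKrullDim (P.presheaf.stalk (ι.base η)) = c) {ωP : P.Modules}
    (hωP : IsFreeCyclic (P.presheaf.stalk (ι.base η)) (ωP.presheaf.stalk (ι.base η)))
    (I : InjectiveResolution ωP) {ω : X.Modules}
    (e : (Scheme.Modules.pushforward ι).obj ω ≅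
      (homCx ((Scheme.Modules.pushforward ι).obj (Coh.structureModule X)) I).homology c) :
    IsSimpleCyclic (X.presheaf.stalk η) (ω.presheaf.stalk η) := by
  haveI : IsLocallyNoetherian X := LocallyOfFiniteType.isLocallyNoetherian ι
  let p := ι.base η
  let A := (Scheme.Modules.pushforward ι).obj (Coh.structureModule X)
  have hA : Coh.IsCoh A := isCoh_push_finite ι (CohBC.isCoh_of_isFinLocFree (CohBC.isFinLocFree_structureModule X))
  haveI : IsLocalHom (ι.stalkMap η).hom := inferInstance
  have hsurj : Function.Surjective (ι.stalkMap η).hom := ι.stalkMap_surjective η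
  obtain ⟨a, ha⟩ := exists_push_stalk ι (Coh.structureModule X) η
  obtain ⟨b, hb⟩ := exists_push_stalk ι ω η
  -- the structure sheaf of the closed subscheme
  have hS : IsSimpleCyclic (P.presheaf.stalk p) (A.presheaf.stalk p) := by
    refine (isSimpleCyclic_iff_semilinear (ι.stalkMap η).hom hsurj a ha).2 ?_
    let u := SDiv28.unitStalkEquiv η
    refine ⟨u 1, fun h => one_ne_zero (u.injective (h.trans (map_zero u).symm)), fun w => ⟨u.symm w, ?_⟩,
      fun r hr => ?_⟩
    · rw [← map_smul, smul_eq_mul, mul_one, u.apply_symm_apply]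
    · by_cases h0 : r = 0
      · rw [h0, zero_smul]
      · exact absurd ((by obtain ⟨s, hs⟩ := hfield.mul_inv_cancel h0; exact IsUnit.of_mul_eq_one _ hs)) hr
  obtain ⟨_, ⟨U₀, hU, rfl⟩, hpU, -⟩ :=
    P.isBasis_affineOpens.exists_subset_of_mem_open (Set.mem_univ p) isOpen_univ
  let U : P.Opens := U₀
  haveI : IsAffine (U : Scheme.{u}) := hU
  let p' : (U : Scheme.{u}) := ⟨p, hpU⟩
  let g := U.ι.stalkMap p'
  have hgb : Function.Bijective g.hom := ConcreteCategory.bijective_of_isIso g
  haveI : IsRegularLocalRing (P.presheaf.stalk (U.ι.base p')) := ‹IsRegularLocalRing (P.presheaf.stalk (ι.base η))›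
  haveI : IsRegularLocalRing ((U : Scheme.{u}).presheaf.stalk p') :=
    IsRegularLocalRing.of_ringEquiv (RingEquiv.ofBijective g.hom hgb)
  have hc' : ringKrullDim ((U : Scheme.{u}).presheaf.stalk p') = c :=
    (ringKrullDim_eq_of_ringEquiv (RingEquiv.ofBijective g.hom hgb)).symm.trans hc
  haveI := hasInjectiveResolutions_modules (U : Scheme.{u})
  let J := injectiveResolution (ωP.restrict U.ι)
  obtain ⟨w⟩ := nonempty_homology_restrict U.ι (F := A) I J c
  obtain ⟨s⟩ := nonempty_stalk_homology_affine p' J c (AmpleLib.isCoh_restrict U.ι A hA)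
  obtain ⟨eA, heA⟩ := exists_restrict_stalk U.ι A p'
  obtain ⟨eω, heω⟩ := exists_restrict_stalk U.ι ωP p'
  have hA' : IsSimpleCyclic ((U : Scheme.{u}).presheaf.stalk p') ((A.restrict U.ι).presheaf.stalk p') :=
    (isSimpleCyclic_iff_semilinear g.hom hgb.2 eA.symm (fun r m => eA.injective (by
      rw [heA, AddEquiv.apply_symm_apply, AddEquiv.apply_symm_apply]))).1 hS
  have hω' : IsFreeCyclic ((U : Scheme.{u}).presheaf.stalk p') ((ωP.restrict U.ι).presheaf.stalk p') :=
    isFreeCyclic_of_semilinear g.hom eω.symm (fun r m => eω.injective (by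
      rw [heω, AddEquiv.apply_symm_apply, AddEquiv.apply_symm_apply]
      rfl)) hgb hωP
  have hExt := isSimpleCyclic_ext_residue hc' (A := (DerSch.stalkFunctor _ p').obj (A.restrict U.ι))
    (B := (DerSch.stalkFunctor _ p').obj (ωP.restrict U.ι)) hA' hω'
  let M := (Scheme.Modules.pushforward ι).obj ω
  let q := ((DerSch.stalkFunctor (U : Scheme.{u}) p').mapIso
    ((Scheme.Modules.restrictFunctor U.ι).mapIso e ≪≫ w)).toLinearEquiv.trans s
  have hMU : IsSimpleCyclic ((U : Scheme.{u}).presheaf.stalk p') ((M.restrict U.ι).presheaf.stalk p') :=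
    (isSimpleCyclic_iff_semilinear (RingHom.id _) Function.surjective_id q.toAddEquiv
      (fun r m => q.map_smul r m)).2 hExt
  obtain ⟨eM, heM⟩ := exists_restrict_stalk U.ι M p'
  have hM : IsSimpleCyclic (P.presheaf.stalk p) (M.presheaf.stalk p) :=
    (isSimpleCyclic_iff_semilinear g.hom hgb.2 eM.symm (fun r m => eM.injective (by
      rw [heM, AddEquiv.apply_symm_apply, AddEquiv.apply_symm_apply]))).2 hMU
  exact (isSimpleCyclic_iff_semilinear (ι.stalkMap η).hom hsurj b hb).1 hM

end Groth.Agent.SerreDual
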