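import Groth.Agent.SerreDual.CMDual
import Groth.Agent.AmpleLib.Generated
import Groth.Agent.ModStalk.Exact
import Groth.Agent.CAlgH3.ProjDim

/-!
# Coherent modules on projective space with vanishing negative twists are locally free
-/

set_option autoImplicit false
set_option linter.style.haveILetI false
set_option backward.isDefEq.respectTransparency.types false

universe u

open CategoryTheory CategoryTheory.Abelian CategoryTheory.Limits AlgebraicGeometry Opposite TopologicalSpace
open Groth.Agent.Coherent Groth.Agent.PicLib Groth.Agent.AmpleLib Groth.Agent.EulerLib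

namespace Groth.Agent.SerreDual

variable {X : Scheme.{u}}

/-- The stalk of a map, on germs. -/
theorem stalkMap_germ' {M N : X.Modules} (φ : M ⟶ N) {V : X.Opens} {x : X} (hx : x ∈ V) (c : Γ(M, V)) :
    ((DerSch.stalkFunctor X x).map φ).hom (M.presheaf.germ V x hx c) =
      N.presheaf.germ V x hx (φ.app V c) := stalk_map_germ φ V hx c

theorem germ_resM {M : X.Modules} {V U : X.Opens} (h : V ≤ U) {x : X} (hx : x ∈ V) (a : Γ(M, U)) :
    M.presheaf.germ V x hx (resM M h a) = M.presheaf.germ U x (h hx) a :=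
  TopCat.Presheaf.germ_res_apply M.presheaf (homOfLE h) x hx a

/-- At a point of a generator, the stalk is free of rank one. -/
theorem bijective_germ_gen {W : X.Modules} {U : X.Opens} {w : Γ(W, U)} (hw : IsGen W U w) {x : X} (hx : x ∈ U) :
    Function.Bijective (fun r : X.presheaf.stalk x => r • (W.presheaf.germ U x hx w : W.presheaf.stalk x)) := by
  constructor
  · intro a b hab
    rw [← sub_eq_zero]
    have h0 : (a - b) • (W.presheaf.germ U x hx w : W.presheaf.stalk x) = 0 := by
      rw [sub_smul]; exact sub_eq_zero.2 hab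
    generalize a - b = c at h0 ⊢
    obtain ⟨V, hV, r, rfl⟩ := X.presheaf.exists_germ_eq c
    let V' : X.Opens := V ⊓ U
    have e1 : X.presheaf.germ V x hV r = X.presheaf.germ V' x ⟨hV, hx⟩ (PicLib.res inf_le_left r) :=
      (TopCat.Presheaf.germ_res_apply X.presheaf _ x _ r).symm
    rw [e1] at h0 ⊢
    rw [← germ_resM (inf_le_right : V' ≤ U) ⟨hV, hx⟩ w, ← QCohLoc.germ_smul'] at h0
    obtain ⟨T, hxT, iT, iT', he⟩ := W.presheaf.germ_eq (U := V') (V := V') x ⟨hV, hx⟩ ⟨hV, hx⟩ _ 0
      (h0.trans (map_zero _).symm)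
    have h1 : PicLib.res (leOfHom iT) (PicLib.res inf_le_left r) = 0 := by
      refine (hw T ((leOfHom iT).trans inf_le_right)).1 ?_
      show PicLib.res (leOfHom iT) (PicLib.res inf_le_left r) • resM W _ w = (0 : Γ(X, T)) • resM W _ w
      rw [zero_smul, ← resM_resM W (inf_le_right : V' ≤ U) (leOfHom iT) w, ← resM_smul]
      exact he.trans (map_zero _)
    rw [← TopCat.Presheaf.germ_res_apply X.presheaf (homOfLE (leOfHom iT)) x hxT]
    exact (congrArg (X.presheaf.germ T x hxT) h1).trans (map_zero _)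
  · intro z
    obtain ⟨V, hV, a, rfl⟩ := W.presheaf.exists_germ_eq z
    obtain ⟨r, hr⟩ := (hw (V ⊓ U) inf_le_right).2 (resM W inf_le_left a)
    refine ⟨X.presheaf.germ (V ⊓ U) x ⟨hV, hx⟩ r, ?_⟩
    show X.presheaf.germ (V ⊓ U) x ⟨hV, hx⟩ r • _ = _
    rw [← germ_resM (inf_le_right : V ⊓ U ≤ U) ⟨hV, hx⟩ w, ← QCohLoc.germ_smul']
    exact (congrArg (W.presheaf.germ (V ⊓ U) x ⟨hV, hx⟩) hr).trans (germ_resM _ _ _)

/-- Germs of global sections span the stalks of a globally generated module. -/
theorem span_germ_top_eq_top {H : X.Modules} (hH : Curv2.IsGloballyGenerated H) (x : X) :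
    Submodule.span (X.presheaf.stalk x)
      (Set.range fun s : Γ(H, ⊤) => (H.presheaf.germ ⊤ x trivial s : H.presheaf.stalk x)) = ⊤ := by
  obtain ⟨ι, p₀, hp⟩ := hH
  let p : freeMod X ι ⟶ H := p₀
  haveI : Epi p := hp
  refine Submodule.eq_top_iff'.2 fun z => ?_
  set S := Submodule.span (X.presheaf.stalk x)
      (Set.range fun s : Γ(H, ⊤) => (H.presheaf.germ ⊤ x trivial s : H.presheaf.stalk x)) with hS
  haveI : Epi ((DerSch.stalkFunctor X x).map p) := (DerSch.stalkFunctor X x).map_epi p
  obtain ⟨y, rfl⟩ :=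
    (ModuleCat.epi_iff_surjective ((DerSch.stalkFunctor X x).map p)).1 inferInstance z
  have hl := isColimitOfPreserves (DerSch.stalkFunctor X x)
    (SheafOfModules.isColimitFreeCofan (R := X.ringCatSheaf) ι)
  have h0 : (DerSch.stalkFunctor X x).map p ≫ ModuleCat.ofHom S.mkQ = 0 := by
    refine hl.hom_ext fun ⟨i⟩ => ?_
    refine ModuleCat.hom_ext (LinearMap.ext fun c => ?_)
    obtain ⟨V, hV, r, rfl⟩ := (Coh.structureModule X).presheaf.exists_germ_eq c
    show S.mkQ (((DerSch.stalkFunctor X x).map p).hom (((DerSch.stalkFunctor X x).map (freeInj i)).hom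
      ((Coh.structureModule X).presheaf.germ V x hV r))) = _
    rw [stalkMap_germ', stalkMap_germ', Submodule.mkQ_apply]
    refine ((Submodule.Quotient.mk_eq_zero S).2 ?_).trans (LinearMap.congr_fun (rfl : (0 : _ →ₗ[X.presheaf.stalk x] _) = 0) _)
    rw [show p.app V ((freeInj i).app V r) = (freeInj i ≫ p).app V r from rfl, app_unit,
      ← resM_unitVal (freeInj i ≫ p) (le_top : V ≤ ⊤), QCohLoc.germ_smul', germ_resM]
    exact S.smul_mem _ (Submodule.subset_span ⟨_, rfl⟩)
  have h1 := congrArg (fun f => f.hom y) h0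
  exact (Submodule.Quotient.mk_eq_zero S).1 h1

/-- If every map `K' ⟶ W` extends to `E` and `Hom(K', W)` is globally generated, `K' ⟶ E` splits on stalks. -/
theorem exists_stalk_retraction {K' E W : X.Modules} (ι : K' ⟶ E) (hK : FlatMod.IsFinLocFree K')
    (hW : PicF.IsInvertible W) (hgen : Curv2.IsGloballyGenerated (internalHom K' W))
    (hext : ∀ f : K' ⟶ W, ∃ g : E ⟶ W, ι ≫ g = f) (x : X) :
    ∃ r : E.presheaf.stalk x →ₗ[X.presheaf.stalk x] K'.presheaf.stalk x,
      ∀ v : K'.presheaf.stalk x, r (((DerSch.stalkFunctor X x).map ι).hom v) = v := by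
  classical
  let A := X.presheaf.stalk x
  let H := internalHom K' W
  let Ext' : ∀ (U : X.Opens), x ∈ U → Γ(H, U) → Prop := fun U _ ψ =>
    ∃ R : E.presheaf.stalk x →ₗ[A] W.presheaf.stalk x, ∀ (V : X.Opens) (hV : V ≤ U) (hx : x ∈ V) (a : Γ(K', V)),
      R (((DerSch.stalkFunctor X x).map ι).hom (K'.presheaf.germ V x hx a)) =
        W.presheaf.germ V x hx (ev (secHom ψ) V hV a)
  have hres : ∀ {U U' : X.Opens} (hx : x ∈ U) (h : U' ≤ U) (hx' : x ∈ U') (ψ : Γ(H, U)),
      Ext' U' hx' (resM H h ψ) → Ext' U hx ψ := by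
    rintro U U' hx h hx' ψ ⟨R, hR⟩
    refine ⟨R, fun V hV hxV a => ?_⟩
    have h1 := hR (V ⊓ U') inf_le_right ⟨hxV, hx'⟩ (resM K' inf_le_left a)
    rw [germ_resM, resM_internalHom] at h1
    refine h1.trans ?_
    rw [← ev_res (secHom ψ) hV (inf_le_left : V ⊓ U' ≤ V) a, germ_resM]
  have hmono : ∀ {U U' : X.Opens} (hx : x ∈ U) (h : U' ≤ U) (hx' : x ∈ U') (ψ : Γ(H, U)),
      Ext' U hx ψ → Ext' U' hx' (resM H h ψ) := by
    rintro U U' hx h hx' ψ ⟨R, hR⟩
    exact ⟨R, fun V hV hxV a => (hR V (hV.trans h) hxV a).trans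
      (congrArg (W.presheaf.germ V x hxV) (resM_internalHom h ψ V hV a).symm)⟩
  have hall : ∀ (U : X.Opens) (hx : x ∈ U) (ψ : Γ(H, U)), Ext' U hx ψ := by
    let S : Submodule A (H.presheaf.stalk x) :=
      { carrier := {h | ∃ (U : X.Opens) (hx : x ∈ U) (ψ : Γ(H, U)), H.presheaf.germ U x hx ψ = h ∧ Ext' U hx ψ}
        zero_mem' := ⟨⊤, trivial, 0, map_zero _, 0, fun V hV hx a =>
          (LinearMap.zero_apply _).trans (map_zero (W.presheaf.germ V x hx).hom).symm⟩
        add_mem' := by
          rintro a b ⟨U, hx, ψ, rfl, hψ⟩ ⟨U', hx', ψ', rfl, hψ'⟩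
          obtain ⟨R, hR⟩ := hmono hx (inf_le_left : U ⊓ U' ≤ U) ⟨hx, hx'⟩ ψ hψ
          obtain ⟨R', hR'⟩ := hmono hx' (inf_le_right : U ⊓ U' ≤ U') ⟨hx, hx'⟩ ψ' hψ'
          refine ⟨U ⊓ U', ⟨hx, hx'⟩, resM H inf_le_left ψ + resM H inf_le_right ψ',
            by rw [map_add, germ_resM, germ_resM], R + R', fun V hV hxV a => ?_⟩
          rw [LinearMap.add_apply, hR V hV hxV a, hR' V hV hxV a, ← map_add]
          rfl
        smul_mem' := by
          rintro c a ⟨U, hx, ψ, rfl, hψ⟩
          obtain ⟨T, hT, r, rfl⟩ := X.presheaf.exists_germ_eq c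
          obtain ⟨R, hR⟩ := hmono hx (inf_le_left : U ⊓ T ≤ U) ⟨hx, hT⟩ ψ hψ
          refine ⟨U ⊓ T, ⟨hx, hT⟩, PicLib.res (inf_le_right : U ⊓ T ≤ T) r • resM H (inf_le_left : U ⊓ T ≤ U) ψ, ?_,
            X.presheaf.germ T x hT r • R, fun V hV hxV a => ?_⟩
          · rw [QCohLoc.germ_smul', germ_resM]
            exact congrArg (· • _) (TopCat.Presheaf.germ_res_apply X.presheaf _ x _ r)
          · rw [LinearMap.smul_apply, hR V hV hxV a,
              show ev (secHom (PicLib.res (inf_le_right : U ⊓ T ≤ T) r • resM H (inf_le_left : U ⊓ T ≤ U) ψ)) V hV a =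
                X.presheaf.map (homOfLE hV).op (PicLib.res inf_le_right r) • ev (secHom (resM H inf_le_left ψ)) V hV a
                from ev_smul _ _ V hV a, QCohLoc.germ_smul']
            congr 1
            exact ((TopCat.Presheaf.germ_res_apply X.presheaf _ x _ _).trans
              (TopCat.Presheaf.germ_res_apply X.presheaf _ x _ r)).symm }
    have htop : (⊤ : Submodule A (H.presheaf.stalk x)) ≤ S := by
      rw [← span_germ_top_eq_top hgen x]
      refine Submodule.span_le.2 ?_
      rintro _ ⟨s, rfl⟩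
      obtain ⟨g, hg⟩ := hext (homOfSec s)
      refine ⟨⊤, trivial, s, rfl, ((DerSch.stalkFunctor X x).map g).hom, fun V hV hxV a => ?_⟩
      rw [stalkMap_germ']
      refine (stalkMap_germ' g hxV _).trans ?_
      exact congrArg (W.presheaf.germ V x hxV) (congrArg (fun φ => φ.app V a) hg)
    intro U hx ψ
    obtain ⟨U', hx', ψ', he, hψ'⟩ := htop (x := H.presheaf.germ U x hx ψ) Submodule.mem_top
    obtain ⟨T, hxT, iU', iU, hT⟩ := H.presheaf.germ_eq x hx' hx ψ' ψ he
    exact hres hx (leOfHom iU) hxT ψ (by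
      have h2 := hmono hx' (leOfHom iU') hxT ψ' hψ'
      rwa [show resM H (leOfHom iU') ψ' = resM H (leOfHom iU) ψ from hT] at h2)
  -- coordinates near the point
  obtain ⟨U₁, hxU₁, w, hw⟩ := exists_isGen hW x
  obtain ⟨U, m, e, hxU, hU, he⟩ := exists_basis_nhd hK x U₁ hxU₁
  let w' := resM W hU w
  let ψ : ULift.{u} (Fin m) → Γ(H, U) := fun l =>
    CohBC.elemHom (G := W) he (fun _ : PUnit.{u + 1} => w') (l, PUnit.unit)
  have hw' : IsGen W U w' := hw.restrict hU
  let c := LinearEquiv.ofBijective (LinearMap.toSpanSingleton A (W.presheaf.stalk x) (W.presheaf.germ U x hxU w'))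
    (bijective_germ_gen hw' hxU)
  choose R hR using fun l => hall U hxU (ψ l)
  refine ⟨∑ l, ((c.symm.toLinearMap ∘ₗ R l).smulRight (K'.presheaf.germ U x hxU (e l) : K'.presheaf.stalk x)),
    fun v => ?_⟩
  obtain ⟨V, hV, a, rfl⟩ := K'.presheaf.exists_germ_eq v
  let T : X.Opens := V ⊓ U
  have hT : x ∈ T := ⟨hV, hxU⟩
  rw [← germ_resM (inf_le_left : T ≤ V) hT a]
  generalize resM K' (inf_le_left : T ≤ V) a = b
  have hev : ∀ l, ev (secHom (ψ l)) T inf_le_right b = he.coef inf_le_right b l • resM W inf_le_right w' := by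
    intro l
    show ∑ i, he.coef inf_le_right b i • resM W inf_le_right (Pi.single (M := fun _ => Γ(W, U)) l w' i) = _
    rw [Finset.sum_eq_single l]
    · rw [Pi.single_eq_same]
    · intro i _ hi
      rw [Pi.single_eq_of_ne hi, map_zero, smul_zero]
    · exact fun hn => absurd (Finset.mem_univ l) hn
  rw [LinearMap.sum_apply]
  have key : ∀ l, c.symm (R l (((DerSch.stalkFunctor X x).map ι).hom (K'.presheaf.germ T x hT b))) =
      X.presheaf.germ T x hT (he.coef inf_le_right b l) := fun l => by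
    rw [LinearEquiv.symm_apply_eq, hR l T inf_le_right hT b, hev, QCohLoc.germ_smul', germ_resM]
    rfl
  simp only [LinearMap.smulRight_apply, LinearMap.coe_comp, LinearEquiv.coe_coe, Function.comp_apply]
  refine Eq.trans ?_ (congrArg (K'.presheaf.germ T x hT) (he.coef_spec inf_le_right b))
  rw [map_sum]
  refine Finset.sum_congr rfl fun l _ => ?_
  refine (congrArg (· • _) (key l)).trans ?_
  rw [QCohLoc.germ_smul', germ_resM]

section ProjSpace

/-- Vanishing of `Ext` transports along isomorphisms of the arguments. -/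
theorem subsingleton_ext_congr [HasExt.{u} X.Modules] {A A' B B' : X.Modules} (a : A ≅ A') (b : B ≅ B') (i : ℕ)
    (h : Subsingleton (Ext A' B' i)) : Subsingleton (Ext A B i) := by
  refine subsingleton_of_forall_eq 0 fun x => ?_
  have hxb : x.comp (Ext.mk₀ b.hom) (add_zero i) = 0 := by
    have h1 := congrArg (fun y => (Ext.mk₀ a.hom).comp y (zero_add i))
      (h.elim ((Ext.mk₀ a.inv).comp (x.comp (Ext.mk₀ b.hom) (add_zero i)) (zero_add i)) 0)
    beta_reduce at h1
    rwa [Ext.mk₀_comp_mk₀_assoc, a.hom_inv_id, Ext.mk₀_id_comp, Ext.comp_zero] at h1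
  have h2 := congrArg (fun y => y.comp (Ext.mk₀ b.inv) (add_zero i)) hxb
  beta_reduce at h2
  rwa [Ext.comp_assoc_of_second_deg_zero, Ext.mk₀_comp_mk₀, b.hom_inv_id, Ext.comp_mk₀_id, Ext.zero_comp] at h2

variable {k : Type u} [Field k] {n : ℕ} [HasExt.{u} (CohB1.ProjSpace n k).Modules]

/-- Coherent modules without higher `Ext` into large twists are locally free. -/
theorem isFinLocFree_of_ext_vanishing : ∀ (d : ℕ) (G : (CohB1.ProjSpace n k).Modules), Coh.IsCoh G →
    (∀ x : CohB1.ProjSpace n k, CAlgH3.PD ((CohB1.ProjSpace n k).presheaf.stalk x) (d + 1) (G.presheaf.stalk x)) →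
    (∀ i : ℕ, ∃ N : ℕ, ∀ m : ℕ, N ≤ m →
      Subsingleton (Ext G (Twist.twistProjSpace n k (m : ℤ)) (i + 1))) →
    FlatMod.IsFinLocFree G
  | 0, G, hG, hpd, _ => by
    haveI : IsProper ((CohB1.ProjSpace n k) ↘ Spec (CommRingCat.of k)) := isProper_projSpace_toSpec n k
    haveI := isNoetherian_of_proper (k := k) (X := CohB1.ProjSpace n k)
    haveI := hG.1
    refine Props12.isFinLocFree_of_isFP_of_free_stalks G ((isCoh_iff_isFP G).1 hG) fun x => ?_
    haveI := Props12.finite_stalk_of_isFT G hG.2 x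
    haveI : Module.Projective ((CohB1.ProjSpace n k).presheaf.stalk x) (G.presheaf.stalk x) :=
      CAlgH3.pd_one_iff.1 (hpd x)
    exact Module.free_of_flat_of_isLocalRing
  | d + 1, G, hG, hpd, hvan => by
    haveI : IsProper ((CohB1.ProjSpace n k) ↘ Spec (CommRingCat.of k)) := isProper_projSpace_toSpec n k
    haveI := isNoetherian_of_proper (k := k) (X := CohB1.ProjSpace n k)
    haveI := hasFiniteBiproducts (CohB1.ProjSpace n k)
    haveI := hG.1
    obtain ⟨N₀, hN₀⟩ := (projPowCover n k).exists_epi hG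
    obtain ⟨r, p, hp⟩ := hN₀ (N₀ + 1) (Nat.le_succ _) _ (twistGens n k (N₀ + 1))
    haveI := hp
    let a : ℤ := -((N₀ + 1 : ℕ) : ℤ)
    haveI := isQCoh_twistProjSpace (n := n) (R := k) a
    have hEc : Coh.IsCoh (⨁ fun _ : Fin r => Twist.twistProjSpace n k a) :=
      isCoh_biproduct _ fun _ => isCoh_of_gens (twistGens n k (N₀ + 1))
    let S := ShortComplex.mk (kernel.ι p) p (kernel.condition p)
    have hS : S.ShortExact :=
      { exact := ShortComplex.exact_of_f_is_kernel _ (kernelIsKernel p), mono_f := inferInstance, epi_g := hp }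
    have hK : Coh.IsCoh (kernel p) := isCoh_kernel p hEc hG.1
    have hE : ∀ (m i : ℕ), Subsingleton
        (Ext S.X₂ (Twist.twistProjSpace n k (m : ℤ)) (i + 1)) := fun m i => by
      refine subsingleton_ext_biproduct _ _ fun _ => ?_
      obtain ⟨e⟩ := nonempty_twist_inv (n := n) (k := k) a
      refine subsingleton_ext_of_invertible (isInvertible_twist n k a) (isInvertible_twist n k (-a)) e _ _ ?_
      obtain ⟨c⟩ := nonempty_twist_tensor n k (show (m : ℤ) + -a = (m : ℤ) - a by ring)
      haveI : Subsingleton (Coh.HH (CohB1.ProjSpace n k) (Twist.twistProjSpace n k ((m : ℤ) - a)) (i + 1)) :=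
        subsingleton_HH_twist (n := n) (R := k) (d := (m : ℤ) - a) (i + 1) (fun h => by omega) (fun h => by omega)
      exact subsingleton_HH_of_iso k c (i + 1)
    have hP : ∀ x : CohB1.ProjSpace n k,
        CategoryTheory.Projective ((DerSch.stalkFunctor (CohB1.ProjSpace n k) x).obj S.X₂) := fun x => by
      let F := DerSch.stalkFunctor (CohB1.ProjSpace n k) x
      haveI : ∀ j : Fin r, CategoryTheory.Projective
          ((F.obj ∘ fun _ : Fin r => Twist.twistProjSpace n k a) j) := fun _ => by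
        haveI : Module.Free ((CohB1.ProjSpace n k).presheaf.stalk x)
            ((Twist.twistProjSpace n k a).presheaf.stalk x) :=
          Props12.free_stalk_of_isFinLocFree _
            (fun z => let ⟨U, hz, h⟩ := isFinLocFreeOfRank_one (isInvertible_twist n k a) z; ⟨U, 1, hz, h⟩) x
        exact (IsProjective.iff_projective ((Twist.twistProjSpace n k a).presheaf.stalk x :)).1 inferInstance
      haveI : PreservesBinaryBiproducts F := preservesBinaryBiproducts_of_preservesBinaryProducts _
      haveI : F.Additive := Functor.additive_of_preservesBinaryBiproducts _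
      haveI : CategoryTheory.Projective (⨁ (F.obj ∘ fun _ : Fin r => Twist.twistProjSpace n k a)) :=
        ⟨fun f e _ => ⟨biproduct.desc fun j => Projective.factorThru (biproduct.ι _ j ≫ f) e, by
          refine biproduct.hom_ext' _ _ fun j => ?_
          rw [← Category.assoc, biproduct.ι_desc, Projective.factorThru_comp]⟩⟩
      exact Projective.of_iso (F.mapBiproduct fun _ : Fin r => Twist.twistProjSpace n k a).symm inferInstance
    -- the kernel is locally free
    have hKfree : FlatMod.IsFinLocFree (kernel p) := by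
      refine isFinLocFree_of_ext_vanishing d (kernel p) hK (fun x => ?_) fun i => ?_
      · have hSx := hS.map_of_exact (DerSch.stalkFunctor (CohB1.ProjSpace n k) x)
        haveI : HasProjectiveDimensionLT (S.map (DerSch.stalkFunctor (CohB1.ProjSpace n k) x)).X₂ 1 :=
          projective_iff_hasProjectiveDimensionLT_one.1 (hP x)
        exact hSx.hasProjectiveDimensionLT_X₁ (d + 1)
          (hasProjectiveDimensionLT_of_ge _ 1 (d + 1) (by omega)) (hpd x)
      · obtain ⟨N, hN⟩ := hvan (i + 1)
        refine ⟨N, fun m hm => subsingleton_of_forall_eq 0 fun x => ?_⟩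
        obtain ⟨y, hy⟩ := Ext.contravariant_sequence_exact₁ hS _ x (Nat.add_comm 1 (i + 1))
          ((hN m hm).elim _ _)
        rw [← hy, (hE m i).elim y 0, Ext.comp_zero]
    -- and its inclusion splits at every point
    let O := Coh.structureModule (CohB1.ProjSpace n k)
    let D := internalHom (kernel p) O
    have hO : FlatMod.IsFinLocFree O := CohBC.isFinLocFree_structureModule _
    have hD : FlatMod.IsFinLocFree D := CohBC.isFinLocFree_internalHom hKfree hO
    have hK' : FlatMod.IsFinLocFree (internalHom D O) := CohBC.isFinLocFree_internalHom hD hO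
    haveI := isIso_contract hKfree O
    let g : kernel p ≅ internalHom D O :=
      (unitTensorIso (kernel p)).symm ≪≫ tensorComm _ _ ≪≫ asIso (contractBilin (kernel p) O).desc
    obtain ⟨N₁, hN₁⟩ := eventually_globallyGenerated (isAmple_projSpace_one n k) D (CohBC.isCoh_of_isFinLocFree hD)
    obtain ⟨N₂, hN₂⟩ := hvan 0
    let m := N₁ + N₂
    obtain ⟨et⟩ := TwistLib.nonempty_twist_pow_iso (exists_degree_one n k) m
    let et' : Twist.twistProjSpace n k (m : ℤ) ≅ CohB1.tensorPow (Twist.twistProjSpace n k 1) m := et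
    haveI := isIso_contract hD (Twist.twistProjSpace n k (m : ℤ))
    have hgen : Curv2.IsGloballyGenerated (internalHom (internalHom D O) (Twist.twistProjSpace n k (m : ℤ))) :=
      globallyGenerated_of_iso (AmpleLib.tensorIso (Iso.refl D) et'.symm ≪≫
        asIso (contractBilin D (Twist.twistProjSpace n k (m : ℤ))).desc) (hN₁ m (Nat.le_add_right _ _))
    have hext : ∀ f : internalHom D O ⟶ Twist.twistProjSpace n k (m : ℤ),
        ∃ φ : (⨁ fun _ : Fin r => Twist.twistProjSpace n k a) ⟶ Twist.twistProjSpace n k (m : ℤ),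
          (g.inv ≫ kernel.ι p) ≫ φ = f := fun f => by
      obtain ⟨y, hy⟩ := Ext.contravariant_sequence_exact₁ hS _ (Ext.mk₀ (g.hom ≫ f)) (Nat.add_comm 1 0)
        ((hN₂ m (Nat.le_add_left _ _)).elim _ _)
      obtain ⟨φ, rfl⟩ := (Ext.mk₀_bijective _ _).2 y
      refine ⟨φ, ?_⟩
      rw [Ext.mk₀_comp_mk₀] at hy
      have hy' : kernel.ι p ≫ φ = g.hom ≫ f := (Ext.mk₀_bijective _ _).1 hy
      rw [Category.assoc, hy', Iso.inv_hom_id_assoc]
    refine Props12.isFinLocFree_of_isFP_of_free_stalks G ((isCoh_iff_isFP G).1 hG) fun x => ?_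
    obtain ⟨ρ, hρ⟩ := exists_stalk_retraction (g.inv ≫ kernel.ι p) hK' (isInvertible_twist n k (m : ℤ)) hgen hext x
    let F := DerSch.stalkFunctor (CohB1.ProjSpace n k) x
    have hSx := hS.map_of_exact F
    let ρ' : F.obj S.X₂ ⟶ F.obj S.X₁ := ModuleCat.ofHom ρ ≫ F.map g.inv
    have hρ' : F.map S.f ≫ ρ' = 𝟙 _ := by
      refine ModuleCat.hom_ext (LinearMap.ext fun v => ?_)
      show (F.map g.inv).hom (ρ ((F.map S.f).hom v)) = v
      have h1 : ρ ((F.map S.f).hom v) = (F.map g.hom).hom v := by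
        refine (congrArg ρ ?_).trans (hρ ((F.map g.hom).hom v))
        show (F.map (kernel.ι p)).hom v = (F.map g.hom ≫ F.map (g.inv ≫ kernel.ι p)).hom v
        rw [← F.map_comp, Iso.hom_inv_id_assoc]
      rw [h1]
      show (F.map g.hom ≫ F.map g.inv).hom v = v
      rw [← F.map_comp, g.hom_inv_id, F.map_id]
      rfl
    haveI := hSx.epi_g
    let σ := ShortComplex.Splitting.ofExactOfRetraction (S.map F) hSx.exact ρ' hρ' hSx.epi_g
    haveI : CategoryTheory.Projective (S.map F).X₂ := hP x
    haveI : CategoryTheory.Projective (F.obj G) := ⟨fun f e _ => ⟨σ.s ≫ Projective.factorThru (F.map S.g ≫ f) e, by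
      rw [Category.assoc, Projective.factorThru_comp, ← Category.assoc]
      exact (congrArg (· ≫ f) σ.s_g).trans (Category.id_comp f)⟩⟩
    haveI : Module.Projective ((CohB1.ProjSpace n k).presheaf.stalk x) (G.presheaf.stalk x) :=
      (IsProjective.iff_projective (G.presheaf.stalk x :)).2 ‹CategoryTheory.Projective (F.obj G)›
    haveI := Props12.finite_stalk_of_isFT G hG.2 x
    exact Module.free_of_flat_of_isLocalRing

omit [HasExt.{u} (CohB1.ProjSpace n k).Modules] in
/-- A coherent module on `P^n` whose large negative twists have no cohomology below `n` is locally free. -/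
theorem isFinLocFree_of_vanishing_neg {G : (CohB1.ProjSpace n k).Modules} (hG : Coh.IsCoh G)
    (hH : ∀ q : ℕ, q < n → ∃ N : ℕ, ∀ m : ℕ, N ≤ m → Subsingleton
      (Coh.HH (CohB1.ProjSpace n k) (CohB1.tensorMod G (Twist.twistProjSpace n k (-(m : ℤ)))) q)) :
    FlatMod.IsFinLocFree G := by
  haveI : IsProper ((CohB1.ProjSpace n k) ↘ Spec (CommRingCat.of k)) := isProper_projSpace_toSpec n k
  haveI := isNoetherian_of_proper (k := k) (X := CohB1.ProjSpace n k)
  haveI : HasExt.{u} (CohB1.ProjSpace n k).Modules :=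
    haveI : IsGrothendieckAbelian.{u} (CohB1.ProjSpace n k).Modules :=
      DCat.schemeModules_isGrothendieckAbelian _
    inferInstance
  refine isFinLocFree_of_ext_vanishing n G hG (fun x => ?_) fun i => ?_
  · haveI := isRegularLocalRing_stalk_projSpace n k x
    refine CAlgH3.pd_mono ?_ (CAlgH3.pd_all _)
    have h1 : ((IsLocalRing.maximalIdeal ((CohB1.ProjSpace n k).presheaf.stalk x)).spanFinrank : WithBot ℕ∞) ≤ n := by
      rw [IsRegularLocalRing.spanFinrank_maximalIdeal, ringKrullDim_stalk_eq_coheight]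
      refine (Order.coheight_le_krullDim x).trans ?_
      rw [← DimLib.topologicalKrullDim_eq_krullDim, DimLib.PN.topologicalKrullDim_projSpace]
    have : (IsLocalRing.maximalIdeal ((CohB1.ProjSpace n k).presheaf.stalk x)).spanFinrank ≤ n := by exact_mod_cast h1
    omega
  · obtain ⟨N, hN⟩ : ∃ N : ℕ, ∀ m : ℕ, N ≤ m → Subsingleton (Ext (CohB1.tensorMod G
        (Twist.twistProjSpace n k (-(m : ℤ)))) (Twist.twistProjSpace n k (-((n : ℤ) + 1))) (i + 1)) := by
      rcases lt_or_ge n (i + 1) with hi | hi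
      · exact ⟨0, fun m _ => (projSpace_duality n k _
          (isCoh_twist (isInvertible_twist n k (-(m : ℤ))) hG) (i + 1)).2 hi⟩
      · obtain ⟨N, hN⟩ := hH (n - (i + 1)) (by omega)
        refine ⟨N, fun m hm => ?_⟩
        haveI := hN m hm
        obtain ⟨d⟩ := (projSpace_duality n k _
          (isCoh_twist (isInvertible_twist n k (-(m : ℤ))) hG) (i + 1)).1 (n - (i + 1)) (Nat.add_sub_cancel' hi)
        haveI : Subsingleton (Module.Dual k (Coh.HH (CohB1.ProjSpace n k)
            (CohB1.tensorMod G (Twist.twistProjSpace n k (-(m : ℤ)))) (n - (i + 1)))) :=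
          (Module.subsingleton_dual_iff k).2 inferInstance
        exact d.toEquiv.subsingleton
    refine ⟨N, fun m hm => ?_⟩
    let m' : ℕ := m + n + 1
    haveI := hN m' (by omega)
    obtain ⟨e⟩ : Nonempty (CohB1.tensorMod (Twist.twistProjSpace n k (-(m' : ℤ)))
        (Twist.twistProjSpace n k (m' : ℤ)) ≅ Coh.structureModule (CohB1.ProjSpace n k)) := by
      have h := nonempty_twist_inv (n := n) (k := k) (-(m' : ℤ))
      rwa [neg_neg] at h
    obtain ⟨e'⟩ := nonempty_twist_inv (n := n) (k := k) (m' : ℤ)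
    obtain ⟨c⟩ := nonempty_twist_tensor n k
      (show (m : ℤ) + -(m' : ℤ) = -((n : ℤ) + 1) by simp only [m']; push_cast; ring)
    obtain ⟨as⟩ := exists_assocIso' G (isInvertible_twist n k (-(m' : ℤ))) (isInvertible_twist n k (m' : ℤ))
    let gi : CohB1.tensorMod (CohB1.tensorMod G (Twist.twistProjSpace n k (-(m' : ℤ))))
        (Twist.twistProjSpace n k (m' : ℤ)) ≅ G :=
      as ≪≫ AmpleLib.tensorIso (Iso.refl G) e ≪≫ tensorComm _ _ ≪≫ unitTensorIso G
    exact subsingleton_ext_congr gi.symm (Iso.refl _) _ (subsingleton_ext_tensor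
      (isInvertible_twist n k (m' : ℤ)) (isInvertible_twist n k (-(m' : ℤ))) e'
      (CohB1.tensorMod G (Twist.twistProjSpace n k (-(m' : ℤ)))) (Twist.twistProjSpace n k (m : ℤ)) (i + 1)
      (subsingleton_ext_congr (Iso.refl _) c _ inferInstance))

end ProjSpace

end Groth.Agent.SerreDual
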