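import Groth.Agent.SerreDual.ExtShRep
import Groth.Agent.DCat.PerfTensor

/-!
# Sheaf `Ext` into locally free modules
-/

set_option autoImplicit false
set_option linter.style.haveILetI false
set_option backward.isDefEq.respectTransparency.types false

universe u

open CategoryTheory CategoryTheory.Abelian CategoryTheory.Limits AlgebraicGeometry Opposite TopologicalSpace
open Groth.Agent.Coherent Groth.Agent.PicLib Groth.Agent.AmpleLib Groth.Agent.EulerLib

namespace Groth.Agent.SerreDual

variable {X : Scheme.{u}}

/-- Tensoring on the right is tensoring on the left. -/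
noncomputable def twistTensIso (N : X.Modules) : twistF N ≅ tensE N :=
  NatIso.ofComponents (fun M => tensorComm M N) fun {M M'} g => AmpleLib.hom_ext fun U a b => by
    show (tensorSwap M' N).app U ((tensorMap g (𝟙 N)).app U (tmul a b)) =
      (tE N g).app U ((tensorSwap M N).app U (tmul a b))
    rw [tensorMap_tmul]
    refine (Bilin.desc_tmul _ U _ _).trans ?_
    refine Eq.trans ?_ (congrArg ((tE N g).app U) (Bilin.desc_tmul _ U a b)).symm
    exact (tensE_map_tmul (E := N) g U b a).symm

/-- Internal Homs commute. -/
theorem nonempty_internalHom_comm (F D : X.Modules) :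
    Nonempty (internalHomFunctor D ⋙ internalHomFunctor F ≅ internalHomFunctor F ⋙ internalHomFunctor D) := by
  let w : tensE F ⋙ tensE D ≅ tensE D ⋙ tensE F :=
    Functor.isoWhiskerLeft (tensE F) (twistTensIso D).symm ≪≫ tensTwistIso F D ≪≫
      Functor.isoWhiskerRight (twistTensIso D) (tensE F)
  exact ⟨(((tensorHomAdj F).comp (tensorHomAdj D)).ofNatIsoLeft w).rightAdjointUniq
    ((tensorHomAdj D).comp (tensorHomAdj F))⟩

/-- Sheaf `Ext` commutes with Hom out of a locally free module. -/
theorem nonempty_homology_internalHom {D : X.Modules} (hD : FlatMod.IsFinLocFree D) (F : X.Modules) {G : X.Modules}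
    (I : InjectiveResolution G) (J : InjectiveResolution (internalHom D G)) (i : ℕ) :
    Nonempty ((homCx F J).homology i ≅ internalHom D ((homCx F I).homology i)) := by
  obtain ⟨w⟩ := nonempty_internalHom_comm F D
  let T := internalHomFunctor D
  haveI : PreservesFiniteLimits T := preservesFiniteLimits_internalHom D
  haveI : PreservesFiniteColimits T := preservesFiniteColimits_internalHom hD
  haveI : T.PreservesInjectiveObjects := preservesInjectives_internalHom hD
  haveI : T.Additive := additive_internalHomFunctor D
  haveI := hasInjectiveResolutions_modules X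
  haveI : (internalHomFunctor F).Additive := additive_internalHomFunctor F
  let J' : InjectiveResolution (T.obj G) := mapResolution T I
  let J₁ : InjectiveResolution (T.obj G) := J
  exact ⟨(J₁.isoRightDerivedObj (internalHomFunctor F) i).symm ≪≫
    J'.isoRightDerivedObj (internalHomFunctor F) i ≪≫
    (HomologicalComplex.homologyFunctor X.Modules (ComplexShape.up ℕ) i).mapIso
      ((NatIso.mapHomologicalComplex w (ComplexShape.up ℕ)).app I.cocomplex) ≪≫
    ((homCx F I).sc i).mapHomologyIso T⟩

/-- A locally free module is the Hom of a locally free module into any invertible one. -/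
theorem exists_eq_internalHom {E ω ν : X.Modules} (hE : FlatMod.IsFinLocFree E) (hω : PicF.IsInvertible ω)
    (hν : PicF.IsInvertible ν) (e : CohB1.tensorMod ν ω ≅ Coh.structureModule X) :
    ∃ D : X.Modules, FlatMod.IsFinLocFree D ∧ Nonempty (internalHom D ω ≅ E) := by
  let E' := CohB1.tensorMod E ν
  have hE' : FlatMod.IsFinLocFree E' := DCat.PerfTensor.isFinLocFree_tensor hE (isFinLocFree_of_invertible hν)
  haveI := isIso_contract hE' ω
  obtain ⟨v⟩ := exists_cancelIso hν hω e
  exact ⟨internalHom E' (Coh.structureModule X),
    CohBC.isFinLocFree_internalHom hE' (CohBC.isFinLocFree_structureModule X),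
    ⟨(asIso (contractBilin E' ω).desc).symm ≪≫ v.app E⟩⟩

/-- Vanishing of sheaf `Ext` into the dualizing sheaf gives it into every locally free module. -/
theorem isZero_homology_locFree {n : ℕ} {k : Type u} [Field k] {F E : (CohB1.ProjSpace n k).Modules}
    (hE : FlatMod.IsFinLocFree E) (J : InjectiveResolution E) (i : ℕ)
    (h : ∀ I : InjectiveResolution (Twist.twistProjSpace n k (-((n : ℤ) + 1))), IsZero ((homCx F I).homology i)) :
    IsZero ((homCx F J).homology i) := by
  obtain ⟨e⟩ := nonempty_twist_inv (n := n) (k := k) ((n : ℤ) + 1)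
  obtain ⟨D, hD, ⟨a⟩⟩ := exists_eq_internalHom hE (isInvertible_twist n k (-((n : ℤ) + 1)))
    (isInvertible_twist n k ((n : ℤ) + 1)) e
  haveI := hasInjectiveResolutions_modules (CohB1.ProjSpace n k)
  let I := injectiveResolution (Twist.twistProjSpace n k (-((n : ℤ) + 1)))
  haveI : (internalHomFunctor F).Additive := additive_internalHomFunctor F
  haveI : (internalHomFunctor D).Additive := additive_internalHomFunctor D
  let J' := injectiveResolution (internalHom D (Twist.twistProjSpace n k (-((n : ℤ) + 1))))
  obtain ⟨w⟩ := nonempty_homology_internalHom hD F I J' i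
  exact IsZero.of_iso ((internalHomFunctor D).map_isZero (h I))
    ((J.isoRightDerivedObj (internalHomFunctor F) i).symm ≪≫
      ((internalHomFunctor F).rightDerived i).mapIso a.symm ≪≫
      J'.isoRightDerivedObj (internalHomFunctor F) i ≪≫ w)

end Groth.Agent.SerreDual
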