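import Groth.Agent.SerreDual.ExtShRep
import Groth.Agent.Coherent.RpushComp

/-!
# The dualizing sheaf `Ext` lives on the closed subscheme
-/

set_option autoImplicit false
set_option linter.style.haveILetI false
set_option backward.isDefEq.respectTransparency.types false

universe u

open CategoryTheory CategoryTheory.Limits AlgebraicGeometry
open Groth.Agent.Coherent Groth.Agent.PicLib Groth.Agent.AmpleLib

namespace Groth.Agent.SerreDual

/-- `Ext^c(ι_* O, G)` is a direct image from the closed subscheme. -/
theorem exists_iso_push {X Y : Scheme.{u}} (ι : X ⟶ Y) [IsClosedImmersion ι] {G : Y.Modules}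
    (I : InjectiveResolution G) (c : ℕ) :
    ∃ ω : X.Modules, Nonempty ((Scheme.Modules.pushforward ι).obj ω ≅
      (homCx ((Scheme.Modules.pushforward ι).obj (Coh.structureModule X)) I).homology c) := by
  let q : X.Modules ⥤ Y.Modules := Scheme.Modules.pushforward ι
  haveI : q.Additive := (Scheme.Modules.pullbackPushforwardAdjunction ι).right_adjoint_additive
  haveI : (shriekR ι).Additive := (shriekAdj ι).right_adjoint_additive
  haveI : PreservesFiniteLimits q := inferInstance
  haveI : PreservesFiniteColimits q := inferInstance
  let K : CochainComplex X.Modules ℕ :=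
    ((shriekR ι).mapHomologicalComplex (ComplexShape.up ℕ)).obj I.cocomplex
  let e : (q.mapHomologicalComplex (ComplexShape.up ℕ)).obj K ≅
      homCx ((Scheme.Modules.pushforward ι).obj (Coh.structureModule X)) I :=
    (NatIso.mapHomologicalComplex (internalHomPushIso ι).symm (ComplexShape.up ℕ)).app I.cocomplex
  exact ⟨K.homology c, ⟨((K.sc c).mapHomologyIso q).symm ≪≫
    (HomologicalComplex.homologyFunctor Y.Modules (ComplexShape.up ℕ) c).mapIso e⟩⟩

end Groth.Agent.SerreDual
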