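import Groth.Agent.SerreDual.ExtShRestrict
import Groth.Agent.Coherent.FinitePres
import Groth.Agent.Coherent.FinMor
import Groth.Agent.DCat.PerfTensor
import Groth.Agent.KZeroLib.PerfectCoh
import Groth.Agent.AmpleLib.CounitEpi
import Groth.Agent.Coherent.CohBC.PushStructure

/-!
# Sheaf `Ext` of coherent modules is coherent
-/

set_option autoImplicit false
set_option linter.style.haveILetI false
set_option backward.isDefEq.respectTransparency false

universe u

open CategoryTheory CategoryTheory.Abelian CategoryTheory.Limits AlgebraicGeometry Opposite TopologicalSpace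
open Groth.Agent.Coherent Groth.Agent.PicLib Groth.Agent.AmpleLib

namespace Groth.Agent.SerreDual

variable {X : Scheme.{u}}

/-- On an affine scheme coherent modules are quotients of finite free ones. -/
theorem exists_free_cover_affine [IsAffine X] [IsLocallyNoetherian X] {F : X.Modules} (hF : Coh.IsCoh F) :
    ∃ (n : ℕ) (q : (∐ fun _ : Fin n => Coh.structureModule X) ⟶ F), Epi q := by
  classical
  haveI := hF.1
  obtain ⟨I, hI, π, hπ⟩ := exists_epi_free_of_finite F
    (((isCoh_iff_finite_sections F).1 hF).2 ⊤ (isAffineOpen_top X))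
  obtain ⟨n, ⟨e⟩⟩ := Finite.exists_equiv_fin I
  let q : (∐ fun _ : Fin n => Coh.structureModule X) ⟶ F := Sigma.desc fun j => freeInj (e.symm j) ≫ π
  let r : freeMod X I ⟶ ∐ fun _ : Fin n => Coh.structureModule X :=
    Sigma.desc fun i => Sigma.ι (fun _ : Fin n => Coh.structureModule X) (e i)
  haveI := hπ
  have hfac : r ≫ q = π := by
    refine Sigma.hom_ext _ _ fun i => ?_
    simp only [r, q, Sigma.ι_desc_assoc, Sigma.ι_desc, Equiv.symm_apply_apply]
    rfl
  haveI : Epi q := epi_of_epi_fac hfac
  exact ⟨n, q, inferInstance⟩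

/-- On an affine scheme coherent modules are quotients of locally free ones. -/
theorem exists_locFree_cover_affine [IsAffine X] [IsLocallyNoetherian X] {F : X.Modules} (hF : Coh.IsCoh F) :
    ∃ (E : X.Modules) (p : E ⟶ F), Epi p ∧ FlatMod.IsFinLocFree E :=
  let ⟨_, q, hq⟩ := exists_free_cover_affine hF
  ⟨_, q, hq, DCat.PerfTensor.isFinLocFree_sigma _ fun _ => CohBC.isFinLocFree_structureModule X⟩

/-- Sheaf `Ext` of coherent modules on a locally Noetherian scheme is coherent. -/
theorem isCoh_homology [IsLocallyNoetherian X] {F G : X.Modules} (hF : Coh.IsCoh F) (hG : Coh.IsCoh G)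
    (I : InjectiveResolution G) (i : ℕ) : Coh.IsCoh ((homCx F I).homology i) := by
  refine KZeroLib.isCoh_of_cover _ (fun U : X.affineOpens => U.1) ?_ fun U => ?_
  · exact IsOpenCover.mk (AlgebraicGeometry.iSup_affineOpens_eq_top X)
  haveI : IsAffine (U.1 : Scheme.{u}) := U.2
  haveI : IsLocallyNoetherian (U.1 : Scheme.{u}) := inferInstance
  haveI := hasInjectiveResolutions_modules (U.1 : Scheme.{u})
  obtain ⟨w⟩ := nonempty_homology_restrict U.1.ι (F := F) I (injectiveResolution (G.restrict U.1.ι)) i
  exact isCoh_of_iso w.symm (isCoh_homology_homCx (fun F hF => exists_locFree_cover_affine hF)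
    (AmpleLib.isCoh_restrict _ G hG) _ i _ (AmpleLib.isCoh_restrict _ F hF))

end Groth.Agent.SerreDual
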