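import Groth.Agent.SerreDual.ExtShGeneric
import Groth.Agent.SerreDual.ExtShCoherent
import Groth.Agent.SerreDual.ExtShProj
import Groth.Agent.RefHullLib.FreeLocus
import Groth.Agent.Coherent.CohBC.PushStructure

/-!
# The dualizing sheaf `Ext` is a line bundle on a dense open
-/

set_option autoImplicit false
set_option linter.style.haveILetI false
set_option backward.isDefEq.respectTransparency.types false

universe u

open CategoryTheory CategoryTheory.Limits AlgebraicGeometry TopologicalSpace
open Groth.Agent.Coherent Groth.Agent.PicLib Groth.Agent.AmpleLib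

namespace Groth.Agent.SerreDual

/-- A free module of rank one is cyclic. -/
theorem isFreeCyclic_of_finrank {R : Type u} [CommRing R] [Nontrivial R] {M : Type u} [AddCommGroup M] [Module R M]
    [Module.Free R M] (h : Module.finrank R M = 1) : IsFreeCyclic R M := by
  let b := Module.basisUnique (Fin 1) h
  refine ⟨b default, (Function.Bijective.of_comp_iff' b.repr.bijective _).1 ?_⟩
  have : (b.repr ∘ fun r : R => r • b default) = fun r => Finsupp.single default r := by
    funext r
    simp
  rw [this]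
  exact ⟨fun r s hrs => Finsupp.single_injective _ hrs, fun g => ⟨g default, (Finsupp.unique_single g).symm⟩⟩

theorem finrank_of_isFreeCyclic {R : Type u} [CommRing R] [Nontrivial R] {M : Type u} [AddCommGroup M] [Module R M]
    (h : IsFreeCyclic R M) : Module.finrank R M = 1 := by
  obtain ⟨v, hv⟩ := h
  rw [← (LinearEquiv.ofBijective (LinearMap.toSpanSingleton R M v) hv).finrank_eq, Module.finrank_self]

theorem free_of_isFreeCyclic {R : Type u} [CommRing R] {M : Type u} [AddCommGroup M] [Module R M]
    (h : IsFreeCyclic R M) : Module.Free R M := by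
  obtain ⟨v, hv⟩ := h
  exact Module.Free.of_equiv (LinearEquiv.ofBijective (LinearMap.toSpanSingleton R M v) hv)

/-- Over a field, simple cyclic modules are free. -/
theorem IsSimpleCyclic.isFreeCyclic {R : Type u} [CommRing R] (hR : IsField R) {M : Type u} [AddCommGroup M]
    [Module R M] (h : IsSimpleCyclic R M) : IsFreeCyclic R M := by
  obtain ⟨v, hv, hgen, -⟩ := h
  refine ⟨v, fun r s hrs => ?_, hgen⟩
  by_contra hne
  obtain ⟨t, ht⟩ := hR.mul_inv_cancel (sub_ne_zero.2 hne)
  apply hv
  rw [← one_smul R v, ← ht, mul_comm, mul_smul, sub_smul, show r • v = s • v from hrs, sub_self, smul_zero]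

/-- Stalks of an invertible module. -/
theorem isFreeCyclic_stalk_of_rank_one {X : Scheme.{u}} [IsLocallyNoetherian X] {L : X.Modules}
    (hL : FlatMod.IsFinLocFreeOfRank 1 L) (x : X) : IsFreeCyclic (X.presheaf.stalk x) (L.presheaf.stalk x) := by
  have hf : FlatMod.IsFinLocFree L := fun y => by obtain ⟨U, h, e⟩ := hL y; exact ⟨U, 1, h, e⟩
  have hc := CohBC.isCoh_of_isFinLocFree hf
  haveI : Coh.IsQCoh L := hc.1
  haveI := (RefHullLib.isFinLocFree_iff_free_stalks hc).1 hf x
  obtain ⟨U, hx, ⟨e⟩⟩ := hL x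
  exact isFreeCyclic_of_finrank (CohBC.finrank_stalk_of_free L hx e)

/-- A coherent module with lines as generic stalks is a line bundle on a dense open. -/
theorem exists_dense_rank_one {X : Scheme.{u}} [IsLocallyNoetherian X] {F : X.Modules} (hF : Coh.IsCoh F)
    (h : ∀ η : X, closure ({η} : Set X) ∈ irreducibleComponents X →
      IsFreeCyclic (X.presheaf.stalk η) (F.presheaf.stalk η)) :
    ∃ U : X.Opens, Dense (U : Set X) ∧ FlatMod.IsFinLocFreeOfRank 1 (F.restrict U.ι) := by
  let U : X.Opens := ⟨_, RefHullLib.isOpen_free_stalk hF⟩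
  have hgen : ∀ x : X, ∃ η : X, η ⤳ x ∧ closure ({η} : Set X) ∈ irreducibleComponents X := fun x => by
    obtain ⟨η, hη⟩ := QuasiSober.sober (isIrreducible_irreducibleComponent (x := x)) isClosed_irreducibleComponent
    exact ⟨η, hη.specializes mem_irreducibleComponent,
      hη.def.symm ▸ irreducibleComponent_mem_irreducibleComponents x⟩
  have hmem : ∀ η : X, closure ({η} : Set X) ∈ irreducibleComponents X → η ∈ U := fun η hη =>
    free_of_isFreeCyclic (h η hη)
  refine ⟨U, fun x => ?_, fun y => ?_⟩
  · obtain ⟨η, hηx, hη⟩ := hgen x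
    exact closure_mono (Set.singleton_subset_iff.2 (hmem η hη)) hηx.mem_closure
  have hU : Coh.IsCoh (F.restrict U.ι) := AmpleLib.isCoh_restrict U.ι F hF
  haveI : Coh.IsQCoh (F.restrict U.ι) := hU.1
  obtain ⟨W, n, hyW, e⟩ := (RefHullLib.isFinLocFree_restrict_iff hF U).2 (fun z hz => hz) y
  obtain ⟨η, hηy, hη⟩ := hgen (U.ι.base y)
  let η' : (U : Scheme.{u}) := ⟨η, hmem η hη⟩
  have hs : η' ⤳ y := (Topology.IsInducing.subtypeVal).specializes_iff.1 hηy
  have hηW : η' ∈ W := hs.mem_open W.isOpen hyW
  obtain ⟨e'⟩ := e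
  have hn := CohBC.finrank_stalk_of_free (F.restrict U.ι) hηW e'
  obtain ⟨a, ha⟩ := exists_restrict_stalk U.ι F η'
  have hb : Function.Bijective (U.ι.stalkMap η').hom := ConcreteCategory.bijective_of_isIso _
  have : IsFreeCyclic ((U : Scheme.{u}).presheaf.stalk η') ((F.restrict U.ι).presheaf.stalk η') :=
    isFreeCyclic_of_semilinear (U.ι.stalkMap η').hom a.symm (fun r m => a.injective (by
      rw [ha, AddEquiv.apply_symm_apply, AddEquiv.apply_symm_apply]
      rfl)) hb (h η hη)
  rw [finrank_of_isFreeCyclic this] at hn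
  subst hn
  exact ⟨W, hyW, ⟨e'⟩⟩

/-- The dualizing sheaf `Ext` has lines as generic stalks. -/
theorem isFreeCyclic_generic {P X : Scheme.{u}} [IsLocallyNoetherian P] (ι : X ⟶ P) [IsClosedImmersion ι]
    {η : X} (hη : closure ({η} : Set X) ∈ irreducibleComponents X) [_root_.IsReduced (X.presheaf.stalk η)]
    (hreg : IsRegularLocalRing (P.presheaf.stalk (ι.base η))) {c : ℕ}
    (hc : ringKrullDim (P.presheaf.stalk (ι.base η)) = c) {ωP : P.Modules}
    (hωP : FlatMod.IsFinLocFreeOfRank 1 ωP) (I : InjectiveResolution ωP) {ω : X.Modules}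
    (e : (Scheme.Modules.pushforward ι).obj ω ≅
      (homCx ((Scheme.Modules.pushforward ι).obj (Coh.structureModule X)) I).homology c) :
    IsFreeCyclic (X.presheaf.stalk η) (ω.presheaf.stalk η) :=
  haveI := hreg
  (isSimpleCyclic_generic ι (isField_stalk_of_generic hη) hc
    (isFreeCyclic_stalk_of_rank_one hωP _) I e).isFreeCyclic (isField_stalk_of_generic hη)

/-- The dualizing sheaf `Ext` is coherent. -/
theorem isCoh_dualizing_of_closed {P X : Scheme.{u}} [IsLocallyNoetherian P] (ι : X ⟶ P) [IsClosedImmersion ι]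
    {ωP : P.Modules} (hωP : FlatMod.IsFinLocFreeOfRank 1 ωP) (I : InjectiveResolution ωP) (c : ℕ)
    {ω : X.Modules} (e : (Scheme.Modules.pushforward ι).obj ω ≅
      (homCx ((Scheme.Modules.pushforward ι).obj (Coh.structureModule X)) I).homology c) : Coh.IsCoh ω :=
  haveI : IsLocallyNoetherian X := LocallyOfFiniteType.isLocallyNoetherian ι
  isCoh_of_push ι (isCoh_of_iso e.symm (isCoh_homology
    (isCoh_push_finite ι (CohBC.isCoh_of_isFinLocFree (CohBC.isFinLocFree_structureModule X)))
    (CohBC.isCoh_of_isFinLocFree fun y => by obtain ⟨U, h, a⟩ := hωP y; exact ⟨U, 1, h, a⟩) I c))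

end Groth.Agent.SerreDual
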