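import Groth.Agent.SerreDual.ExtShTorsion
import Groth.Agent.SerreDual.ExtShGenPts
import Groth.Agent.SerreDual.HomLinear
import Groth.Agent.CurveRR24.RR
import Groth.Prelude.Def_DefoSh

/-!
# The trace of an integral scheme with algebraically closed base in the function field is bijective
-/

set_option autoImplicit false
set_option linter.style.haveILetI false
set_option backward.isDefEq.respectTransparency.types false

universe u

open CategoryTheory CategoryTheory.Limits AlgebraicGeometry Opposite TopologicalSpace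
open Groth.Agent.Coherent Groth.Agent.EulerLib

namespace Groth.Agent.SerreDual

variable {k : Type u} [Field k] {X : Scheme.{u}} [X.Over (Spec (CommRingCat.of k))]

/-- Stalks of a scalar. -/
theorem stalkMapₗ_smul_id (M : X.Modules) (c : k) (x : X) (v : M.presheaf.stalk x) :
    RefHull.stalkMapₗ (c • 𝟙 M) x v =
      ((X.presheaf.germ ⊤ x trivial).hom.comp (Coh.toGlobal (X ↘ Spec (CommRingCat.of k)))) c • v := by
  obtain ⟨U, hU, m, rfl⟩ := TopCat.Presheaf.exists_germ_eq M.presheaf v
  rw [RefHull.stalkMapₗ_germ]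
  refine (congrArg (M.presheaf.germ U x hU) (KLin.smul_app_apply c (𝟙 M) U m)).trans ?_
  rw [Mero.germ_smul M U x hU, RingHom.comp_apply]
  exact congrArg (· • M.presheaf.germ U x hU m) (TopCat.Presheaf.germ_res_apply _ _ _ _ _)

/-- The trace of a dualizing module is bijective. -/
theorem bijective_trace [IsProper (X ↘ Spec (CommRingCat.of k))] [IsIntegral X] {r : ℕ}
    (hr : topologicalKrullDim X = (r : WithBot ℕ∞))
    (halg : ∀ a : (X.functionField : Type u), ((X.presheaf.germ ⊤ (genericPoint X) trivial).hom.comp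
      (Coh.toGlobal (X ↘ Spec (CommRingCat.of k)))).IsIntegralElem a →
        a ∈ Set.range ((X.presheaf.germ ⊤ (genericPoint X) trivial).hom.comp
          (Coh.toGlobal (X ↘ Spec (CommRingCat.of k)))))
    {ω : X.Modules} (hω : Coh.IsCoh ω) (t : Coh.HH X ω r →ₗ[k] k)
    (hrep : ∀ F : X.Modules, Coh.IsCoh F → Rep t F)
    (hline : IsFreeCyclic (X.presheaf.stalk (genericPoint X)) (ω.presheaf.stalk (genericPoint X))) :
    Function.Bijective t := by
  let η := genericPoint X
  let f := (X.presheaf.germ ⊤ η trivial).hom.comp (Coh.toGlobal (X ↘ Spec (CommRingCat.of k)))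
  obtain ⟨v, hv⟩ := hline
  have heq : ∀ Z : Set X, Z ∈ irreducibleComponents X → topologicalKrullDim Z = (r : WithBot ℕ∞) := fun Z hZ => by
    rw [irreducibleComponents_eq_singleton, Set.mem_singleton_iff] at hZ
    rw [hZ, ← hr]
    exact (Homeomorph.Set.univ X).isHomeomorph.topologicalKrullDim_eq _
  have hzero : ∀ φ : ω ⟶ ω, RefHull.stalkMapₗ φ η v = 0 → φ = 0 := fun φ h =>
    eq_zero_of_rep heq hω t hrep hω φ fun x hx => by
      obtain rfl : x = η := IsGenericPoint.eq (S := (Set.univ : Set X)) (by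
        rw [irreducibleComponents_eq_singleton, Set.mem_singleton_iff] at hx
        exact hx) (genericPoint_spec X)
      refine ModuleCat.hom_ext (LinearMap.ext fun w => ?_)
      obtain ⟨a, ha⟩ := hv.2 (show ω.presheaf.stalk η from w)
      obtain rfl : a • v = w := ha
      show RefHull.stalkMapₗ φ η (a • v) = 0
      rw [LinearMap.map_smul, h, smul_zero]
  haveI := CurveRR24.finite_HH_of_isCoh k hω r
  haveI : Module.Finite k (End ω) := Module.Finite.equiv (dualEquiv t (hrep ω hω)).symm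
  have hscalar : ∀ φ : ω ⟶ ω, ∃ c : k, φ = c • 𝟙 ω := fun φ => by
    obtain ⟨a, ha⟩ := hv.2 (RefHull.stalkMapₗ φ η v)
    let φ' : End ω := φ
    have key : ∀ p : Polynomial k, RefHull.stalkMapₗ (Polynomial.aeval φ' p : End ω) η v = p.eval₂ f a • v := fun p => by
      induction p using Polynomial.induction_on with
      | C c =>
        rw [Polynomial.aeval_C, Polynomial.eval₂_C, Algebra.algebraMap_eq_smul_one, End.one_def]
        exact stalkMapₗ_smul_id ω c η v
      | add p q hp hq =>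
        rw [map_add, Polynomial.eval₂_add, add_smul, ← hp, ← hq]
        exact DefoSh.stalkMapₗ_add_apply η _ _ v
      | monomial n c ih =>
        rw [show Polynomial.C c * Polynomial.X ^ (n + 1) = Polynomial.X * (Polynomial.C c * Polynomial.X ^ n) by ring,
          map_mul, Polynomial.aeval_X, End.mul_def, Polynomial.eval₂_mul, Polynomial.eval₂_X]
        refine (DefoSh.stalkMapₗ_comp_apply η _ _ v).trans ?_
        rw [ih, LinearMap.map_smul, ← ha, smul_smul, mul_comm]
    obtain ⟨p, hp, hp0⟩ := IsIntegral.of_finite k φ'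
    have h0 : p.eval₂ f a = 0 := hv.1 (by
      show p.eval₂ f a • v = 0 • v
      rw [zero_smul, ← key p, Polynomial.aeval_def, hp0]
      exact DefoSh.stalkMapₗ_zero_apply η v)
    obtain ⟨c, hc⟩ := halg a ⟨p, hp, h0⟩
    refine ⟨c, sub_eq_zero.1 (hzero _ ?_)⟩
    have h1 := DefoSh.stalkMapₗ_add_apply η (φ - c • 𝟙 ω) (c • 𝟙 ω) v
    rw [sub_add_cancel, stalkMapₗ_smul_id] at h1
    have hc' : f c = a := hc
    rw [hc', show a • v = RefHull.stalkMapₗ φ η v from ha] at h1
    exact add_eq_right.1 h1.symm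
  have hne : t ≠ 0 := fun h => by
    have h1 : theta t ω (𝟙 ω) = theta t ω 0 := by
      show t ∘ₗ _ = t ∘ₗ _
      rw [h, LinearMap.zero_comp, LinearMap.zero_comp]
    have h2 := DefoSh.stalkMapₗ_id_apply (M := ω) η v
    rw [(hrep ω hω).1 h1, DefoSh.stalkMapₗ_zero_apply] at h2
    have h3 : (1 : X.presheaf.stalk η) = 0 := hv.1 (show (1 : X.presheaf.stalk η) • v = 0 • v by
      rw [← h2, smul_zero, smul_zero])
    exact one_ne_zero h3
  refine ⟨(injective_iff_map_eq_zero t).2 fun x hx => ?_, fun y => ?_⟩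
  · refine (Module.forall_dual_apply_eq_zero_iff k x).1 fun ψ => ?_
    obtain ⟨φ, hφ⟩ := (hrep ω hω).2 ψ
    obtain ⟨c, hc⟩ := hscalar φ
    rw [← hφ, hc]
    show t (hmap k (c • 𝟙 ω) r x) = 0
    rw [hmap_smul, hmap_id, LinearMap.smul_apply, LinearMap.id_apply, map_smul, hx, smul_zero]
  · obtain ⟨x, hx⟩ := (LinearMap.surjective_or_eq_zero t).resolve_right hne y
    exact ⟨x, hx⟩

/-- Two dualizing modules are isomorphic. -/
theorem nonempty_iso_of_rep [IsProper (X ↘ Spec (CommRingCat.of k))] {r : ℕ} {ω ω' : X.Modules}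
    (hω : Coh.IsCoh ω) (hω' : Coh.IsCoh ω') (t : Coh.HH X ω r →ₗ[k] k) (t' : Coh.HH X ω' r →ₗ[k] k)
    (h : ∀ F : X.Modules, Coh.IsCoh F → Rep t F) (h' : ∀ F : X.Modules, Coh.IsCoh F → Rep t' F) :
    Nonempty (ω ≅ ω') := by
  obtain ⟨a, ha⟩ := (h' ω hω).2 t
  obtain ⟨b, hb⟩ := (h ω' hω').2 t'
  refine ⟨⟨a, b, (h ω hω).1 ?_, (h' ω' hω').1 ?_⟩⟩
  · rw [theta_comp, hb]
    show t' ∘ₗ hmap k a r = t ∘ₗ hmap k (𝟙 ω) r
    rw [hmap_id, LinearMap.comp_id]
    exact ha
  · rw [theta_comp, ha]
    show t ∘ₗ hmap k b r = t' ∘ₗ hmap k (𝟙 ω') r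
    rw [hmap_id, LinearMap.comp_id]
    exact hb

end Groth.Agent.SerreDual
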