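import Groth.Agent.SerreDual.ExtShLocFree

/-!
# Sheaf `Ext` out of a tensor product with a locally free module
-/

set_option autoImplicit false
set_option linter.style.haveILetI false
set_option backward.isDefEq.respectTransparency.types false

universe u

open CategoryTheory CategoryTheory.Abelian CategoryTheory.Limits AlgebraicGeometry Opposite TopologicalSpace
open Groth.Agent.Coherent Groth.Agent.PicLib Groth.Agent.AmpleLib Groth.Agent.EulerLib

namespace Groth.Agent.SerreDual

variable {X : Scheme.{u}}

/-- Tensoring with a tensor product. -/
noncomputable def tensECompIso (E F : X.Modules) : tensE (CohB1.tensorMod E F) ≅ tensE F ⋙ tensE E :=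
  NatIso.ofComponents (fun A => DCat.TensorAssoc.assocIso E F A) fun {A A'} g =>
    DCat.TensorAssoc.assocIso_nat₃ (M := E) (N := F) g

/-- Internal Hom out of a tensor product. -/
theorem nonempty_internalHom_tensor (E F : X.Modules) :
    Nonempty (internalHomFunctor (CohB1.tensorMod E F) ≅ internalHomFunctor F ⋙ internalHomFunctor E) := by
  obtain ⟨w⟩ := nonempty_internalHom_comm F E
  exact ⟨((tensorHomAdj (CohB1.tensorMod E F)).ofNatIsoLeft (tensECompIso E F)).rightAdjointUniq
    ((tensorHomAdj F).comp (tensorHomAdj E)) ≪≫ w⟩

/-- Hom out of a locally free module is tensoring with its dual. -/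
theorem nonempty_internalHom_eq_tensor {E : X.Modules} (hE : FlatMod.IsFinLocFree E) (N : X.Modules) :
    Nonempty (internalHom E N ≅ CohB1.tensorMod (internalHom E (Coh.structureModule X)) N) := by
  let O := Coh.structureModule X
  let D := internalHom E O
  have hD : FlatMod.IsFinLocFree D := CohBC.isFinLocFree_internalHom hE (CohBC.isFinLocFree_structureModule X)
  haveI := isIso_contract hD N
  haveI := isIso_contract hE O
  let g : E ≅ internalHom D O := (unitTensorIso E).symm ≪≫ tensorComm _ _ ≪≫ asIso (contractBilin E O).desc
  let w : internalHomFunctor E ≅ internalHomFunctor (internalHom D O) :=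
    ((tensorHomAdj E).ofNatIsoLeft ((DCoh.tensorBi (X := X)).mapIso g)).rightAdjointUniq
      (tensorHomAdj (internalHom D O))
  exact ⟨w.app N ≪≫ (asIso (contractBilin D N).desc).symm⟩

/-- Sheaf `Ext` out of a tensor product with a locally free module. -/
theorem nonempty_homology_tensor {E : X.Modules} (hE : FlatMod.IsFinLocFree E) (F : X.Modules) {G : X.Modules}
    (I : InjectiveResolution G) (i : ℕ) :
    Nonempty ((homCx (CohB1.tensorMod E F) I).homology i ≅
      CohB1.tensorMod ((homCx F I).homology i) (internalHom E (Coh.structureModule X))) := by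
  obtain ⟨w⟩ := nonempty_internalHom_tensor E F
  let T := internalHomFunctor E
  haveI : PreservesFiniteLimits T := preservesFiniteLimits_internalHom E
  haveI : PreservesFiniteColimits T := preservesFiniteColimits_internalHom hE
  haveI : T.Additive := additive_internalHomFunctor E
  haveI : (internalHomFunctor F).Additive := additive_internalHomFunctor F
  haveI : (internalHomFunctor (CohB1.tensorMod E F)).Additive := additive_internalHomFunctor _
  obtain ⟨v⟩ := nonempty_internalHom_eq_tensor hE ((homCx F I).homology i)
  exact ⟨(HomologicalComplex.homologyFunctor X.Modules (ComplexShape.up ℕ) i).mapIso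
      ((NatIso.mapHomologicalComplex w (ComplexShape.up ℕ)).app I.cocomplex) ≪≫
    ((homCx F I).sc i).mapHomologyIso T ≪≫ v ≪≫ tensorComm _ _⟩

/-- Sheaf `Ext` out of isomorphic modules. -/
theorem nonempty_homology_congr {F F' : X.Modules} (g : F ≅ F') {G : X.Modules} (I : InjectiveResolution G)
    (i : ℕ) : Nonempty ((homCx F I).homology i ≅ (homCx F' I).homology i) := by
  haveI : (internalHomFunctor F).Additive := additive_internalHomFunctor F
  haveI : (internalHomFunctor F').Additive := additive_internalHomFunctor F'
  let w : internalHomFunctor F ≅ internalHomFunctor F' :=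
    ((tensorHomAdj F).ofNatIsoLeft ((DCoh.tensorBi (X := X)).mapIso g)).rightAdjointUniq (tensorHomAdj F')
  exact ⟨(HomologicalComplex.homologyFunctor X.Modules (ComplexShape.up ℕ) i).mapIso
    ((NatIso.mapHomologicalComplex w (ComplexShape.up ℕ)).app I.cocomplex)⟩

end Groth.Agent.SerreDual
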