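import Groth.Agent.SerreDual.CMFinite
import Groth.Agent.SerreDual.ProjDualAll
import Groth.Agent.SerreDual.ExtLocFree
import Groth.Agent.SerreDual.Projective
import Groth.Agent.Coherent.ProjFormula
import Groth.Agent.Coherent.CohBC.HomSheaf
import Groth.Agent.Coherent.CohBC.PushStructure
import Groth.Agent.Coherent.Serre.Vanishing
import Groth.Agent.RefHullLib.ClassLaw
import Groth.Agent.RelVALib.DirImgFull
import Groth.Agent.EGA43.InjFibre.Scheme
import Groth.Agent.AmpleLib.Relative
import Groth.Agent.PicLib.FiniteSetTriv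

/-!
# Serre duality in all degrees on projective Cohen–Macaulay schemes
-/

set_option autoImplicit false
set_option linter.style.haveILetI false
set_option backward.isDefEq.respectTransparency.types false

universe u

open CategoryTheory CategoryTheory.Abelian CategoryTheory.Limits AlgebraicGeometry Opposite TopologicalSpace
open Groth.Agent.Coherent Groth.Agent.PicLib Groth.Agent.AmpleLib Groth.Agent.EulerLib

namespace Groth.Agent.SerreDual

variable {X : Scheme.{u}}

/-- Moving an invertible twist across `Ext`. -/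
theorem subsingleton_ext_tensor [HasExt.{u} X.Modules] {L N : X.Modules} (hL : PicF.IsInvertible L)
    (hN : PicF.IsInvertible N) (e : CohB1.tensorMod L N ≅ Coh.structureModule X) (M ω : X.Modules) (j : ℕ)
    (h : Subsingleton (Ext M (CohB1.tensorMod ω N) j)) : Subsingleton (Ext (CohB1.tensorMod M L) ω j) := by
  haveI := isEquivalence_twistF hL hN e
  haveI : EnoughInjectives X.Modules :=
    haveI : IsGrothendieckAbelian.{u} X.Modules := DCat.schemeModules_isGrothendieckAbelian X
    inferInstance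
  haveI : (twistF N).PreservesInjectiveObjects := inferInstance
  obtain ⟨a⟩ := exists_cancelIso hL hN e
  have hb := (twistF N).mapExt_bijective_of_preservesInjectiveObjects (CohB1.tensorMod M L) ω j
  let c : (twistF N).obj (CohB1.tensorMod M L) ≅ M := a.app M
  haveI : Subsingleton (Ext ((twistF N).obj (CohB1.tensorMod M L)) ((twistF N).obj ω) j) := by
    haveI : Subsingleton (Ext M ((twistF N).obj ω) j) := h
    refine subsingleton_of_forall_eq 0 fun x => ?_
    have h1 : (Ext.mk₀ c.hom).comp ((Ext.mk₀ c.inv).comp x (zero_add j)) (zero_add j) = x := by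
      rw [Ext.mk₀_comp_mk₀_assoc, Iso.hom_inv_id, Ext.mk₀_id_comp]
    rw [← h1, Subsingleton.elim ((Ext.mk₀ c.inv).comp x (zero_add j)) 0, Ext.comp_zero]
  exact hb.1.subsingleton

variable {k : Type u} [Field k]

section ProjSpace

variable {n : ℕ}

/-- `O(a)` with `O(-a)` inverse to it. -/
theorem nonempty_twist_inv (a : ℤ) : Nonempty (CohB1.tensorMod (Twist.twistProjSpace n k a)
    (Twist.twistProjSpace n k (-a)) ≅ Coh.structureModule (CohB1.ProjSpace n k)) := by
  obtain ⟨e⟩ := nonempty_twist_tensor n k (show a + -a = 0 by ring)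
  obtain ⟨b⟩ := TwistLib.nonempty_twist_zero_iso (𝒜 := CohB1.polyGrading n k)
  exact ⟨e ≪≫ b⟩

/-- Serre vanishing for the twists `O(N)`. -/
theorem exists_vanishing_twist {F : (CohB1.ProjSpace n k).Modules} (hF : Coh.IsCoh F) :
    ∃ N₁ : ℕ, ∀ N : ℕ, N₁ ≤ N → ∀ p : ℕ, 0 < p →
      Subsingleton (Coh.HH (CohB1.ProjSpace n k) (CohB1.tensorMod F (Twist.twistProjSpace n k (N : ℤ))) p) := by
  haveI : IsProper ((CohB1.ProjSpace n k) ↘ Spec (CommRingCat.of k)) := isProper_projSpace_toSpec n k
  obtain ⟨N₁, hN₁⟩ := Coherent.Serre.exists_subsingleton_HH_twist (A := k) (isAmple_projSpace_one n k) F hF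
  refine ⟨N₁, fun N hN p hp => ?_⟩
  obtain ⟨e⟩ := TwistLib.nonempty_twist_pow_iso (exists_degree_one n k) N
  let e' : Twist.twistProjSpace n k (N : ℤ) ≅ CohB1.tensorPow (Twist.twistProjSpace n k 1) N := e
  haveI := hN₁ N hN p hp
  exact subsingleton_HH_of_iso k (AmpleLib.tensorIso (Iso.refl F) e') p

/-- Negative twists of a finite locally free module have no cohomology below `n`. -/
theorem exists_vanishing_neg {G : (CohB1.ProjSpace n k).Modules} (hG : FlatMod.IsFinLocFree G) :
    ∃ N₁ : ℕ, ∀ N : ℕ, N₁ ≤ N → ∀ q : ℕ, q < n →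
      Subsingleton (Coh.HH (CohB1.ProjSpace n k) (CohB1.tensorMod G (Twist.twistProjSpace n k (-(N : ℤ)))) q) := by
  haveI : IsProper ((CohB1.ProjSpace n k) ↘ Spec (CommRingCat.of k)) := isProper_projSpace_toSpec n k
  haveI := isNoetherian_of_proper (k := k) (X := CohB1.ProjSpace n k)
  haveI := CurveLib.isIntegral_projSpace k n
  haveI : HasExt.{u} (CohB1.ProjSpace n k).Modules :=
    haveI : IsGrothendieckAbelian.{u} (CohB1.ProjSpace n k).Modules :=
      DCat.schemeModules_isGrothendieckAbelian _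
    inferInstance
  let O := Coh.structureModule (CohB1.ProjSpace n k)
  let ω := Twist.twistProjSpace n k (-((n : ℤ) + 1))
  let D := internalHom G O
  let G' := internalHom D O
  have hO : FlatMod.IsFinLocFree O := CohBC.isFinLocFree_structureModule _
  have hD : FlatMod.IsFinLocFree D := CohBC.isFinLocFree_internalHom hG hO
  have hG' : FlatMod.IsFinLocFree G' := CohBC.isFinLocFree_internalHom hD hO
  have hω : Coh.IsCoh ω := by
    show Coh.IsCoh (Twist.twistProjSpace n k (-((n : ℤ) + 1)))
    rw [show (-((n : ℤ) + 1)) = (-((n + 1 : ℕ) : ℤ)) by push_cast; ring]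
    haveI := isQCoh_twistProjSpace (n := n) (R := k) (-((n + 1 : ℕ) : ℤ))
    exact isCoh_of_gens (twistGens n k (n + 1))
  haveI := isIso_contract hG O
  let g : G ≅ G' := (unitTensorIso G).symm ≪≫ tensorComm _ _ ≪≫ asIso (contractBilin G O).desc
  obtain ⟨N₁, hN₁⟩ := exists_vanishing_twist (RefHullLib.isCoh_tensorMod (CohBC.isCoh_of_isFinLocFree hD) hω)
  refine ⟨N₁, fun N hN q hq => ?_⟩
  have hLm := isInvertible_twist n k (-(N : ℤ))
  have hLp := isInvertible_twist n k (N : ℤ)
  obtain ⟨e⟩ : Nonempty (CohB1.tensorMod (Twist.twistProjSpace n k (-(N : ℤ)))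
      (Twist.twistProjSpace n k (N : ℤ)) ≅ Coh.structureModule (CohB1.ProjSpace n k)) := by
    have h := nonempty_twist_inv (n := n) (k := k) (-(N : ℤ))
    rwa [neg_neg] at h
  obtain ⟨a⟩ := exists_assocIso' D (isInvertible_twist n k (-((n : ℤ) + 1))) hLp
  haveI := isIso_contract hD (CohB1.tensorMod ω (Twist.twistProjSpace n k (N : ℤ)))
  haveI : Subsingleton (Coh.HH (CohB1.ProjSpace n k)
      (internalHom G' (CohB1.tensorMod ω (Twist.twistProjSpace n k (N : ℤ)))) (n - q)) := by
    haveI := hN₁ N hN (n - q) (by omega)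
    exact subsingleton_HH_of_iso k
      ((asIso (contractBilin D (CohB1.tensorMod ω (Twist.twistProjSpace n k (N : ℤ)))).desc).symm ≪≫ a.symm)
      (n - q)
  haveI : Subsingleton (Ext (CohB1.tensorMod G' (Twist.twistProjSpace n k (-(N : ℤ)))) ω (n - q)) :=
    subsingleton_ext_tensor hLm hLp e G' ω (n - q)
      (extLocFreeEquiv k hG' (CohB1.tensorMod ω (Twist.twistProjSpace n k (N : ℤ))) (n - q)).toEquiv.subsingleton
  obtain ⟨d⟩ := (projSpace_duality n k (CohB1.tensorMod G' (Twist.twistProjSpace n k (-(N : ℤ))))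
    (isCoh_twist hLm (CohBC.isCoh_of_isFinLocFree hG')) (n - q)).1 q (Nat.sub_add_cancel hq.le)
  haveI : Subsingleton (Coh.HH (CohB1.ProjSpace n k)
      (CohB1.tensorMod G' (Twist.twistProjSpace n k (-(N : ℤ)))) q) :=
    (Module.subsingleton_dual_iff k).1 d.symm.toEquiv.subsingleton
  exact subsingleton_HH_of_iso k (AmpleLib.tensorIso g (Iso.refl (Twist.twistProjSpace n k (-(N : ℤ))))) q

end ProjSpace

variable [X.Over (Spec (CommRingCat.of k))] [IsProper (X ↘ Spec (CommRingCat.of k))] [HasExt.{u} X.Modules]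

/-- Duality in all degrees on a scheme with a finite locally free morphism to projective space. -/
theorem duality_of_finLocFree_hom {n : ℕ} (π : X ⟶ CohB1.ProjSpace n k) [IsFinite π]
    (hπ : π ≫ CohB1.ProjSpace.toSpec n k = X ↘ Spec (CommRingCat.of k))
    (hfree : FlatMod.IsFinLocFree ((Scheme.Modules.pushforward π).obj (Coh.structureModule X)))
    {ω : X.Modules} (hω : Coh.IsCoh ω) (t : Coh.HH X ω n →ₗ[k] k)
    (hrep : ∀ F : X.Modules, Coh.IsCoh F → Rep t F) (F : X.Modules) (hF : Coh.IsCoh F) (i : ℕ) :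
    (∀ j, i + j = n → Nonempty (Ext F ω i ≃ₗ[k] Module.Dual k (Coh.HH X F j))) ∧
    (n < i → Subsingleton (Ext F ω i)) := by
  haveI : IsProper ((CohB1.ProjSpace n k) ↘ Spec (CommRingCat.of k)) := isProper_projSpace_toSpec n k
  haveI := isNoetherian_of_proper (k := k) (X := CohB1.ProjSpace n k)
  haveI := isNoetherian_of_proper (k := k) (X := X)
  haveI := hasFiniteBiproducts X
  haveI := hasFiniteBiproducts (CohB1.ProjSpace n k)
  refine duality_all_degrees t hrep (fun M hM => ?_) i F hF
  haveI : Coh.IsQCoh M := hM.1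
  haveI : Coh.IsQCoh ω := hω.1
  haveI : Coh.IsQCoh ((Coh.push π).obj M) := (isCoh_push_finite π hM).1
  obtain ⟨N₀, hN₀⟩ := (projPowCover n k).exists_epi (isCoh_push_finite π hM)
  obtain ⟨N₁, hN₁⟩ := exists_vanishing_neg hfree
  obtain ⟨N₂, hN₂⟩ := exists_vanishing_twist (n := n) (k := k) (isCoh_push_finite π hω)
  let N := N₀ + N₁ + N₂
  obtain ⟨r, f, hf⟩ := hN₀ N (by omega) _ (twistGens n k N)
  let adj := Scheme.Modules.pullbackPushforwardAdjunction π
  let pb := Scheme.Modules.pullback π
  haveI : pb.IsLeftAdjoint := adj.isLeftAdjoint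
  haveI : pb.PreservesEpimorphisms := inferInstance
  haveI := RelVALib.epi_counit_of_isAffineHom π M
  let L := pb.obj (Twist.twistProjSpace n k (-(N : ℤ)))
  let L' := pb.obj (Twist.twistProjSpace n k (N : ℤ))
  have hL : PicF.IsInvertible L := PicLoc.isInvertible_pullback π (isInvertible_twist n k _)
  have hL' : PicF.IsInvertible L' := PicLoc.isInvertible_pullback π (isInvertible_twist n k _)
  have hLcoh : Coh.IsCoh L :=
    isCoh_of_iso (unitTensorIso L) (isCoh_twist hL (CohBC.isCoh_of_isFinLocFree (CohBC.isFinLocFree_structureModule X)))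
  haveI : Coh.IsQCoh L := hLcoh.1
  haveI : PreservesBinaryBiproducts pb := preservesBinaryBiproducts_of_preservesBinaryCoproducts pb
  haveI : pb.Additive := Functor.additive_of_preservesBinaryBiproducts pb
  haveI : Epi (pb.map f ≫ adj.counit.app M) := epi_comp _ _
  refine ⟨⨁ fun _ : Fin r => L, (pb.mapBiproduct fun _ : Fin r => Twist.twistProjSpace n k (-(N : ℤ))).inv ≫
    pb.map f ≫ adj.counit.app M, epi_comp _ _, isCoh_biproduct _ fun _ => hLcoh, fun i => ?_, fun q hq => ?_⟩
  · refine subsingleton_ext_biproduct _ _ fun _ => ?_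
    have hinv := nonempty_twist_inv (n := n) (k := k) (-(N : ℤ))
    rw [neg_neg] at hinv
    obtain ⟨e₀⟩ := hinv
    obtain ⟨e₁⟩ := exists_pullTensorIso π (isInvertible_twist n k (-(N : ℤ))) (isInvertible_twist n k (N : ℤ))
    obtain ⟨e₂⟩ := exists_pullStructureIso π
    refine subsingleton_ext_of_invertible hL hL' (e₁.symm ≪≫ pb.mapIso e₀ ≪≫ e₂) ω (i + 1) ?_
    haveI : Coh.IsQCoh (CohB1.tensorMod ω L') := (isCoh_twist hL' hω).1
    haveI := hN₂ N (by omega) (i + 1) (Nat.succ_pos i)
    have hE : FlatMod.IsFinLocFree (Twist.twistProjSpace n k (N : ℤ)) :=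
      fun x => let ⟨U, hx, h⟩ := isFinLocFreeOfRank_one (isInvertible_twist n k (N : ℤ)) x; ⟨U, 1, hx, h⟩
    haveI := isIso_projHom (f := π) hE ω
    haveI : Subsingleton (Coh.HH (CohB1.ProjSpace n k) ((Coh.push π).obj (CohB1.tensorMod ω L')) (i + 1)) :=
      subsingleton_HH_of_iso k ((Scheme.Modules.pushforward π).mapIso (tensorComm ω L') ≪≫
        (asIso (projHom π (Twist.twistProjSpace n k (N : ℤ)) ω)).symm ≪≫ tensorComm _ _) (i + 1)
    exact (hpush π k hπ _ (i + 1)).toEquiv.subsingleton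
  · refine subsingleton_HH_biproduct k q fun _ => ?_
    haveI := hN₁ N (by omega) q hq
    have hE : FlatMod.IsFinLocFree (Twist.twistProjSpace n k (-(N : ℤ))) :=
      fun x => let ⟨U, hx, h⟩ := isFinLocFreeOfRank_one (isInvertible_twist n k (-(N : ℤ))) x; ⟨U, 1, hx, h⟩
    haveI := isIso_projHom (f := π) hE (Coh.structureModule X)
    haveI : Subsingleton (Coh.HH (CohB1.ProjSpace n k) ((Coh.push π).obj L) q) :=
      subsingleton_HH_of_iso k ((Scheme.Modules.pushforward π).mapIso
        ((unitTensorIso L).symm ≪≫ tensorComm _ _) ≪≫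
        (asIso (projHom π (Twist.twistProjSpace n k (-(N : ℤ))) (Coh.structureModule X))).symm ≪≫ tensorComm _ _) q
    exact (hpush π k hπ L q).toEquiv.subsingleton

/-- Duality in all degrees on a projective Cohen–Macaulay scheme of pure dimension `n`. -/
theorem duality_cm {L : X.Modules} (hL : CohB1.IsAmple L) {n : ℕ} (hn : topologicalKrullDim X ≤ n)
    (hCM : ∀ x : X, IsClosed ({x} : Set X) →
      LocCoh.IsCohenMacaulayLocalRing (X.presheaf.stalk x) ∧ ringKrullDim (X.presheaf.stalk x) = n)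
    {ω : X.Modules} (hω : Coh.IsCoh ω) (t : Coh.HH X ω n →ₗ[k] k)
    (hrep : ∀ F : X.Modules, Coh.IsCoh F → Rep t F) (F : X.Modules) (hF : Coh.IsCoh F) (i : ℕ) :
    (∀ j, i + j = n → Nonempty (Ext F ω i ≃ₗ[k] Module.Dual k (Coh.HH X F j))) ∧
    (n < i → Subsingleton (Ext F ω i)) := by
  obtain ⟨π, hfin, hπ⟩ := exists_finite_to_projSpace k hL hn
  haveI := hfin
  exact duality_of_finLocFree_hom π hπ (pushforward_finLocFree_of_cm k n hCM π hπ) hω t hrep F hF i

end Groth.Agent.SerreDual
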