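import Groth.Agent.SerreDual.ExtShCoherent
import Groth.Agent.SerreDual.ExtShRep
import Groth.Agent.ModStalk.Tensor
import Groth.Agent.AssSch12.PullbackPoint
import Groth.Agent.Props12.FinLocFree
import Groth.Agent.SDiv28.WeakAssUnit
import Mathlib.Algebra.Category.ModuleCat.Projective
import Mathlib.CategoryTheory.Abelian.Projective.Ext

/-!
# Stalks of sheaf `Ext` on affine schemes
-/

set_option autoImplicit false
set_option linter.style.haveILetI false
set_option backward.isDefEq.respectTransparency.types false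

universe u

open CategoryTheory CategoryTheory.Abelian CategoryTheory.Limits AlgebraicGeometry Opposite TopologicalSpace
open Groth.Agent.Coherent Groth.Agent.PicLib Groth.Agent.AmpleLib
open scoped TensorProduct

namespace Groth.Agent.SerreDual

variable {X : Scheme.{u}} (x : X)

/-- Left exactness of the internal Hom in the first variable. -/
theorem exact_precomp {S : ShortComplex X.Modules} (hS : S.ShortExact) (I : X.Modules) :
    (ShortComplex.mk (precompApp S.g I) (precompApp S.f I)
      (by rw [← precompApp_comp, S.zero, precompApp_zero])).Exact := by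
  haveI := hS.epi_g
  haveI := hS.mono_f
  haveI : Mono (precompApp S.g I) := mono_precompApp S.g I
  refine ShortComplex.exact_of_f_is_kernel _ (KernelFork.IsLimit.ofι' _ _ fun {A} φ hφ => ?_)
  let β : CohB1.tensorMod A S.X₂ ⟶ I := (bilinSwap (uncurry φ)).desc
  have hβ : (tensE A).map S.f ≫ β = 0 := AmpleLib.hom_ext fun U a x => by
    show β.app U ((tE A S.f).app U (tmul a x)) = (0 : CohB1.tensorMod A S.X₁ ⟶ I).app U (tmul a x)
    rw [tensE_map_tmul, Bilin.desc_tmul]
    exact congrArg (fun ψ : A ⟶ internalHom S.X₁ I => ev (secHom (ψ.app U a)) U le_rfl x) hφ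
  have hex := (CokernelCofork.mapIsColimit _ hS.gIsCokernel (tensE A))
  let γ : CohB1.tensorMod A S.X₃ ⟶ I := (CokernelCofork.IsColimit.desc' hex β hβ).1
  have hγ : (tensE A).map S.g ≫ γ = β := (CokernelCofork.IsColimit.desc' hex β hβ).2
  refine ⟨curry (bilinSwap (bilinOfHom γ)), Scheme.Modules.hom_ext _ _ fun U =>
    ConcreteCategory.hom_ext _ _ fun a => ?_⟩
  refine locHom_ext (φ := secHom _) (ψ := secHom (φ.app U a)) fun W hW x => ?_
  show γ.app W (tmul (resM A hW a) (S.g.app W x)) = _
  rw [← tensE_map_tmul]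
  refine (congrArg (fun ψ : CohB1.tensorMod A S.X₂ ⟶ I => ψ.app W (tmul (resM A hW a) x)) hγ).trans ?_
  show β.app W (tmul (resM A hW a) x) = _
  rw [Bilin.desc_tmul]
  show ev (secHom (φ.app W (resM A hW a))) W le_rfl x = _
  rw [app_resM]
  rfl

/-- The internal Hom is additive in the first variable. -/
theorem precompApp_add {F F' : X.Modules} (f g : F ⟶ F') (N : X.Modules) :
    precompApp (f + g) N = precompApp f N + precompApp g N :=
  Scheme.Modules.hom_ext _ _ fun U => ConcreteCategory.hom_ext _ _ fun φ =>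
    locHom_ext (φ := secHom _) (ψ := secHom _) fun W hW a => by
      show ev (secHom φ) W hW ((f + g).app W a) =
        ev (secHom φ) W hW (f.app W a) + ev (secHom φ) W hW (g.app W a)
      exact map_add ((secHom φ).1 W hW) (f.app W a) (g.app W a)

/-- The internal Hom is additive in finite sums. -/
theorem precompApp_sum {ι : Type} (s : Finset ι) {F F' : X.Modules} (f : ι → (F ⟶ F')) (N : X.Modules) :
    precompApp (∑ i ∈ s, f i) N = ∑ i ∈ s, precompApp (f i) N := by
  classical
  induction s using Finset.induction with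
  | empty => rw [Finset.sum_empty, Finset.sum_empty, precompApp_zero]
  | insert a s ha ih => rw [Finset.sum_insert ha, Finset.sum_insert ha, precompApp_add, ih]

/-- The stalk functor. -/
local notation "Sx" => DerSch.stalkFunctor X x

/-- Evaluation on stalks. -/
noncomputable def stalkEval (F G : X.Modules) :
    ((Sx).obj F : Type u) ⊗[X.presheaf.stalk x] ((Sx).obj (internalHom F G) : Type u) →ₗ[X.presheaf.stalk x]
      ((Sx).obj G : Type u) :=
  ((ModStalk.stalkTensorIso x F (internalHom F G) : (Sx).obj _ ≅ _).inv ≫ (Sx).map (evalBilin F G).desc).hom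

/-- A section of the internal Hom, as a map of stalks. -/
noncomputable def stalkHomMap (F G : X.Modules) :
    ((Sx).obj (internalHom F G) : Type u) →ₗ[X.presheaf.stalk x] ((Sx).obj F ⟶ (Sx).obj G) :=
  (ModuleCat.homLinearEquiv (R := X.presheaf.stalk x) (S := X.presheaf.stalk x)).symm.toLinearMap ∘ₗ
    (TensorProduct.curry (stalkEval x F G)).flip

theorem stalkHomMap_apply (F G : X.Modules) (h : ((Sx).obj (internalHom F G) : Type u))
    (a : ((Sx).obj F : Type u)) : stalkHomMap x F G h a = stalkEval x F G (a ⊗ₜ h) := rfl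

/-- Evaluation is compatible with a map in the first variable. -/
theorem eval_precomp {F F' : X.Modules} (g : F ⟶ F') (G : X.Modules) :
    (tensE F).map (precompApp g G) ≫ (evalBilin F G).desc =
      ((DCoh.tensorBi (X := X)).map g).app (internalHom F' G) ≫ (evalBilin F' G).desc := by
  refine AmpleLib.hom_ext fun U a b => ?_
  show (evalBilin F G).desc.app U ((tE F (precompApp g G)).app U (tmul a b)) =
    (evalBilin F' G).desc.app U ((((DCoh.tensorBi (X := X)).map g).app (internalHom F' G)).app U (tmul a b))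
  rw [show (tE F (precompApp g G)).app U (tmul a b) = tmul a ((precompApp g G).app U b) from
      tensE_map_tmul F (precompApp g G) U a b,
    show (((DCoh.tensorBi (X := X)).map g).app (internalHom F' G)).app U (tmul a b) = tmul (g.app U a) b from
      DCat.PullTensor.tensorBi_map_tmul g U a b, Bilin.desc_tmul, Bilin.desc_tmul]
  exact ev_precompApp g _ U le_rfl a

/-- Naturality in the first variable. -/
theorem stalkHomMap_natural {F F' : X.Modules} (g : F ⟶ F') (G : X.Modules)
    (h : ((Sx).obj (internalHom F' G) : Type u)) :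
    stalkHomMap x F G ((Sx).map (precompApp g G) h) = (Sx).map g ≫ stalkHomMap x F' G h := by
  have n1 := ModStalk.stalkTensorIso_natural (x := x) (𝟙 F) (precompApp g G)
  have n2 := ModStalk.stalkTensorIso_natural (x := x) g (𝟙 (internalHom F' G))
  rw [(DCoh.tensorBi (X := X)).map_id, NatTrans.id_app, Category.id_comp, (Sx).map_id] at n1
  rw [((DCoh.tensorBi (X := X)).obj F').map_id, Category.comp_id, (Sx).map_id] at n2
  have key : ((MonoidalCategoryStruct.tensorHom (𝟙 ((Sx).obj F)) ((Sx).map (precompApp g G))) ≫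
      ((ModStalk.stalkTensorIso x F (internalHom F G) : (Sx).obj _ ≅ _).inv ≫ (Sx).map (evalBilin F G).desc)) =
      (MonoidalCategoryStruct.tensorHom ((Sx).map g) (𝟙 ((Sx).obj (internalHom F' G)))) ≫
      ((ModStalk.stalkTensorIso x F' (internalHom F' G) : (Sx).obj _ ≅ _).inv ≫ (Sx).map (evalBilin F' G).desc) := by
    refine (cancel_epi (ModStalk.stalkTensorIso x F (internalHom F' G) : (Sx).obj _ ≅ _).hom).1 ?_
    rw [← reassoc_of% n1, ← reassoc_of% n2, Iso.hom_inv_id_assoc, Iso.hom_inv_id_assoc, ← Functor.map_comp,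
      ← Functor.map_comp, eval_precomp]
  refine ModuleCat.hom_ext (LinearMap.ext fun a => ?_)
  exact congrArg (fun φ => φ.hom (a ⊗ₜ[X.presheaf.stalk x] h)) key

theorem bijective_stalkHomMap_structure (G : X.Modules) :
    Function.Bijective (stalkHomMap x (Coh.structureModule X) G) := by
  let O := Coh.structureModule X
  let a := (tensorHomAdj O).ofNatIsoLeft (unitTensENatIso (X := X))
  let w : internalHomFunctor O ≅ 𝟭 X.Modules := a.rightAdjointUniq Adjunction.id
  haveI : (tensE O).IsEquivalence := Functor.isEquivalence_of_iso (unitTensENatIso (X := X)).symm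
  haveI : (internalHomFunctor O).IsEquivalence := Functor.isEquivalence_of_iso w.symm
  haveI : IsIso (tensorHomAdj O).counit := inferInstance
  haveI : IsIso ((tensorHomAdj O).counit.app G) := ((asIso (tensorHomAdj O).counit).app G).isIso_hom
  haveI hev : IsIso (evalBilin O G).desc :=
    (show IsIso ((tensorHomAdj O).counit.app G) from inferInstance)
  haveI : IsIso ((ModStalk.stalkTensorIso x O (internalHom O G) : (Sx).obj _ ≅ _).inv ≫
      (Sx).map (evalBilin O G).desc) :=
    @IsIso.comp_isIso _ _ _ _ _ _ _ inferInstance (@Functor.map_isIso _ _ _ _ _ _ (Sx) (evalBilin O G).desc hev)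
  have hΨ : Function.Bijective (stalkEval x O G) :=
    ConcreteCategory.bijective_of_isIso ((ModStalk.stalkTensorIso x O (internalHom O G) : (Sx).obj _ ≅ _).inv ≫
      (Sx).map (evalBilin O G).desc)
  let u : X.presheaf.stalk x ≃ₗ[X.presheaf.stalk x] ((Sx).obj O : Type u) := SDiv28.unitStalkEquiv x
  let c : ((Sx).obj O : Type u) ⊗[X.presheaf.stalk x] ((Sx).obj (internalHom O G) : Type u)
      ≃ₗ[X.presheaf.stalk x] ((Sx).obj (internalHom O G) : Type u) :=
    (TensorProduct.congr u.symm (LinearEquiv.refl _ _)).trans (TensorProduct.lid _ _)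
  have hc : ∀ r t, c (u r ⊗ₜ t) = r • t := fun r t => by simp [c]
  refine ⟨(injective_iff_map_eq_zero _).2 fun h hh => ?_, fun φ => ?_⟩
  · have h1 : stalkEval x O G (u 1 ⊗ₜ h) = 0 := congrArg (fun ψ => ψ.hom (u 1)) hh
    have h2 := congrArg c (hΨ.1 (h1.trans (map_zero (stalkEval x O G)).symm))
    rwa [hc, one_smul, map_zero] at h2
  · obtain ⟨t, ht⟩ := hΨ.2 (φ.hom (u 1))
    refine ⟨c t, ModuleCat.hom_ext (LinearMap.ext fun v => ?_)⟩
    obtain ⟨r, rfl⟩ := u.surjective v
    have h1 : t = u 1 ⊗ₜ c t := c.injective (by rw [hc, one_smul])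
    have h2 : u r ⊗ₜ c t = r • t := c.injective (by rw [hc, map_smul])
    show stalkEval x O G (u r ⊗ₜ c t) = φ.hom (u r)
    rw [h2, map_smul, ht, show u r = r • u 1 by rw [← map_smul, smul_eq_mul, mul_one], map_smul]

theorem bijective_stalkHomMap_free (n : ℕ) (G : X.Modules) :
    Function.Bijective (stalkHomMap x (∐ fun _ : Fin n => Coh.structureModule X) G) := by
  let O := Coh.structureModule X
  let E := ∐ fun _ : Fin n => O
  classical
  let π : Fin n → (E ⟶ O) := fun j => Sigma.π (fun _ : Fin n => O) j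
  let ι : Fin n → (O ⟶ E) := fun j => Sigma.ι (fun _ : Fin n => O) j
  have hsum : ∑ j, π j ≫ ι j = 𝟙 E := by
    refine Sigma.hom_ext _ _ fun i => ?_
    rw [Preadditive.comp_sum, Category.comp_id, Finset.sum_eq_single i
      (fun j _ hj => by rw [Sigma.ι_π_of_ne_assoc _ hj.symm, zero_comp])
      (fun h => absurd (Finset.mem_univ i) h)]
    rw [Sigma.ι_π_eq_id_assoc]
  have hb := bijective_stalkHomMap_structure x G
  have hsplit : ∀ h : ((Sx).obj (internalHom E G) : Type u),
      h = ∑ j, (Sx).map (precompApp (π j) G) ((Sx).map (precompApp (ι j) G) h) := fun h => by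
    have h1 : 𝟙 (internalHom E G) = ∑ j, precompApp (ι j) G ≫ precompApp (π j) G := by
      simp only [← precompApp_comp]
      rw [← precompApp_id E G, ← hsum]
      exact precompApp_sum _ _ _
    have h2 := congrArg (fun f => ((Sx).map f).hom h) h1
    simp only [CategoryTheory.Functor.map_id, ModuleCat.hom_id, LinearMap.id_coe, id_eq,
      Functor.map_sum, ModuleCat.hom_sum, LinearMap.coe_sum, Finset.sum_apply, Functor.map_comp] at h2
    exact h2
  refine ⟨(injective_iff_map_eq_zero _).2 fun h hh => ?_, fun φ => ?_⟩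
  · rw [hsplit h]
    refine Finset.sum_eq_zero fun j _ => ?_
    have h1 : stalkHomMap x O G ((Sx).map (precompApp (ι j) G) h) = 0 := by
      rw [stalkHomMap_natural, hh, comp_zero]
    rw [hb.1 (h1.trans (map_zero _).symm), map_zero]
  · choose v hv using fun j => hb.2 ((Sx).map (ι j) ≫ φ)
    refine ⟨∑ j, (Sx).map (precompApp (π j) G) (v j), ?_⟩
    rw [map_sum, Finset.sum_congr rfl (g := fun j => (Sx).map (π j ≫ ι j) ≫ φ) fun j _ => ?_,
      ← Preadditive.sum_comp, ← Functor.map_sum, hsum, CategoryTheory.Functor.map_id, Category.id_comp]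
    rw [stalkHomMap_natural, Functor.map_comp, Category.assoc]
    exact congrArg ((Sx).map (π j) ≫ ·) (hv j)

section Affine

variable [IsAffine X] [IsLocallyNoetherian X]

set_option linter.unusedSectionVars false

/-- A free resolution step. -/
theorem exists_step {F : X.Modules} (hF : Coh.IsCoh F) :
    ∃ (n : ℕ) (p : (∐ fun _ : Fin n => Coh.structureModule X) ⟶ F), Epi p ∧ Coh.IsCoh (kernel p) := by
  obtain ⟨n, p, hp⟩ := exists_free_cover_affine hF
  exact ⟨n, p, hp, isCoh_kernel p (CohBC.isCoh_of_isFinLocFree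
    (DCat.PerfTensor.isFinLocFree_sigma _ fun _ => CohBC.isFinLocFree_structureModule X)) hF.1⟩

theorem injective_stalkHomMap {F : X.Modules} (hF : Coh.IsCoh F) (G : X.Modules) :
    Function.Injective (stalkHomMap x F G) := by
  obtain ⟨n, p, hp, -⟩ := exists_step hF
  haveI := mono_precompApp p G
  haveI : Mono ((Sx).map (precompApp p G)) := inferInstance
  refine fun a b hab => (ModuleCat.mono_iff_injective ((Sx).map (precompApp p G))).1 inferInstance
    ((bijective_stalkHomMap_free x n G).1 ?_)
  rw [stalkHomMap_natural, stalkHomMap_natural, hab]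

/-- The stalk of the internal Hom of a coherent module is the Hom of the stalks. -/
theorem bijective_stalkHomMap {F : X.Modules} (hF : Coh.IsCoh F) (G : X.Modules) :
    Function.Bijective (stalkHomMap x F G) := by
  refine ⟨injective_stalkHomMap x hF G, fun φ => ?_⟩
  obtain ⟨n, p, hp, hK⟩ := exists_step hF
  let C := ShortComplex.mk (kernel.ι p) p (kernel.condition p)
  have hC : C.ShortExact :=
    { exact := ShortComplex.exact_of_f_is_kernel _ (kernelIsKernel p), mono_f := inferInstance, epi_g := hp }
  obtain ⟨h, hh⟩ := (bijective_stalkHomMap_free x n G).2 ((Sx).map p ≫ φ)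
  have h0 : (Sx).map (precompApp (kernel.ι p) G) h = 0 := by
    refine injective_stalkHomMap x hK G ?_
    rw [stalkHomMap_natural, hh, ← Category.assoc, ← Functor.map_comp, kernel.condition, Functor.map_zero,
      zero_comp, map_zero]
  haveI := mono_precompApp p G
  have hex : (ShortComplex.mk (precompApp p G) (precompApp (kernel.ι p) G)
      ((precompApp_comp _ _ _).symm.trans ((congrArg (precompApp · G) (kernel.condition p)).trans
        (precompApp_zero _ _ _)))).Exact := exact_precomp hC G
  obtain ⟨h', hh'⟩ := ((ShortComplex.moduleCat_exact_iff _).1 (hex.map (Sx))) h h0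
  refine ⟨h', (cancel_epi ((Sx).map p)).1 ?_⟩
  rw [← stalkHomMap_natural]
  exact (congrArg (stalkHomMap x _ G) hh').trans hh

variable {G : X.Modules} (I : InjectiveResolution G)

/-- The internal Hom is the sheaf `Ext` in degree zero. -/
noncomputable def zeroMap (F : X.Modules) : internalHom F G ⟶ (homCx F I).homology 0 :=
  (homCx F I).liftCycles ((internalHomFunctor F).map (I.ι.f 0)) 1 (by simp) (by
    haveI : (internalHomFunctor F).Additive := additive_internalHomFunctor F
    show (internalHomFunctor F).map (I.ι.f 0) ≫ (internalHomFunctor F).map (I.cocomplex.d 0 1) = 0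
    rw [← Functor.map_comp, I.ι_f_zero_comp_complex_d, Functor.map_zero]) ≫ (homCx F I).homologyπ 0

theorem isIso_zeroMap (F : X.Modules) : IsIso (zeroMap I F) := by
  haveI : (internalHomFunctor F).Additive := additive_internalHomFunctor F
  haveI := preservesFiniteLimits_internalHom F
  let hlim := KernelFork.mapIsLimit _ I.isLimitKernelFork (internalHomFunctor F)
  let e := hlim.conePointUniqueUpToIso ((homCx F I).cyclesIsKernel 0 1 (by simp))
  have he : e.hom ≫ (homCx F I).iCycles 0 = (internalHomFunctor F).map (I.ι.f 0) :=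
    hlim.conePointUniqueUpToIso_hom_comp _ WalkingParallelPair.zero
  haveI : IsIso ((homCx F I).homologyπ 0) := (homCx F I).isIso_homologyπ₀
  have h : zeroMap I F = e.hom ≫ (homCx F I).homologyπ 0 := by
    refine congrArg (· ≫ (homCx F I).homologyπ 0) ((cancel_mono ((homCx F I).iCycles 0)).1 ?_)
    rw [HomologicalComplex.liftCycles_i]
    exact he.symm
  rw [h]
  exact @IsIso.comp_isIso _ _ _ _ _ _ _ e.isIso_hom inferInstance

theorem zeroMap_natural {F F' : X.Modules} (g : F ⟶ F') :
    zeroMap I F' ≫ HomologicalComplex.homologyMap (homCxMap g I) 0 = precompApp g G ≫ zeroMap I F := by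
  unfold zeroMap
  rw [Category.assoc, HomologicalComplex.homologyπ_naturality, ← Category.assoc, ← Category.assoc]
  refine congrArg (· ≫ (homCx F I).homologyπ 0) ((cancel_mono ((homCx F I).iCycles 0)).1 ?_)
  rw [Category.assoc, Category.assoc, HomologicalComplex.cyclesMap_i, ← Category.assoc,
    HomologicalComplex.liftCycles_i, HomologicalComplex.liftCycles_i]
  exact (precomp g).naturality (I.ι.f 0)

/-- In degree zero the stalk is the Hom of stalks. -/
noncomputable def zeroEquiv {F : X.Modules} (hF : Coh.IsCoh F) :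
    ((Sx).obj ((homCx F I).homology 0) : Type u) ≃ₗ[X.presheaf.stalk x] ((Sx).obj F ⟶ (Sx).obj G) :=
  haveI := isIso_zeroMap I F
  ((Sx).mapIso (asIso (zeroMap I F))).symm.toLinearEquiv.trans
    (LinearEquiv.ofBijective _ (bijective_stalkHomMap x hF G))

theorem zeroEquiv_natural {F F' : X.Modules} (g : F ⟶ F') (hF : Coh.IsCoh F) (hF' : Coh.IsCoh F')
    (z : ((Sx).obj ((homCx F' I).homology 0) : Type u)) :
    zeroEquiv x I hF ((Sx).map (HomologicalComplex.homologyMap (homCxMap g I) 0) z) =
      (Sx).map g ≫ zeroEquiv x I hF' z := by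
  haveI := isIso_zeroMap I F
  haveI := isIso_zeroMap I F'
  obtain ⟨w, rfl⟩ := ((Sx).mapIso (asIso (zeroMap I F'))).toLinearEquiv.surjective z
  have h1 : (Sx).map (HomologicalComplex.homologyMap (homCxMap g I) 0) ((Sx).map (zeroMap I F') w) =
      (Sx).map (zeroMap I F) ((Sx).map (precompApp g G) w) := by
    rw [← ConcreteCategory.comp_apply, ← ConcreteCategory.comp_apply, ← Functor.map_comp, ← Functor.map_comp,
      zeroMap_natural]
  show stalkHomMap x F G (((Sx).mapIso (asIso (zeroMap I F))).toLinearEquiv.symm _) =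
    (Sx).map g ≫ stalkHomMap x F' G (((Sx).mapIso (asIso (zeroMap I F'))).toLinearEquiv.symm _)
  rw [LinearEquiv.symm_apply_apply, ← stalkHomMap_natural]
  refine congrArg _ (((Sx).mapIso (asIso (zeroMap I F))).toLinearEquiv.symm_apply_eq.2 ?_)
  exact h1

/-- The stalk of sheaf `Ext` is the `Ext` of the stalks. -/
theorem nonempty_stalk_homology_affine : ∀ (i : ℕ) {F : X.Modules}, Coh.IsCoh F →
    Nonempty (((Sx).obj ((homCx F I).homology i) : Type u) ≃ₗ[X.presheaf.stalk x]
      Ext ((Sx).obj F) ((Sx).obj G) i)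
  | 0, _, hF => ⟨(zeroEquiv x I hF).trans Ext.linearEquiv₀.symm⟩
  | i + 1, F, hF => by
    obtain ⟨n, p, hp, hK⟩ := exists_step hF
    let E := ∐ fun _ : Fin n => Coh.structureModule X
    let C := ShortComplex.mk (kernel.ι p) p (kernel.condition p)
    have hC : C.ShortExact :=
      { exact := ShortComplex.exact_of_f_is_kernel _ (kernelIsKernel p), mono_f := inferInstance, epi_g := hp }
    have hE : FlatMod.IsFinLocFree E :=
      DCat.PerfTensor.isFinLocFree_sigma _ fun _ => CohBC.isFinLocFree_structureModule X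
    have hEc : Coh.IsCoh E := CohBC.isCoh_of_isFinLocFree hE
    haveI : Module.Free (X.presheaf.stalk x) (E.presheaf.stalk x) :=
      haveI := hEc.1
      Props12.free_stalk_of_isFinLocFree E hE x
    haveI : CategoryTheory.Projective ((Sx).obj E) :=
      (IsProjective.iff_projective (E.presheaf.stalk x :)).1 inferInstance
    have hSC : (C.map (Sx)).ShortExact := hC.map_of_exact (Sx)
    haveI hE0 : ∀ j, Subsingleton (Ext (C.map (Sx)).X₂ ((Sx).obj G) (j + 1)) := fun j =>
      subsingleton_of_forall_eq 0 (Ext.eq_zero_of_projective (P := (Sx).obj E))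
    have hH := shortExact_homCxShort hC I
    have hz : ∀ j, IsZero (((homCx E I).homology (j + 1))) := fun j =>
      isZero_homology_homCx_of_locFree hE I j
    haveI : Epi (hH.δ i (i + 1) rfl) := hH.epi_δ i (i + 1) rfl (hz i)
    let d : ((Sx).obj ((homCx (kernel p) I).homology i) : Type u) →ₗ[X.presheaf.stalk x]
        ((Sx).obj ((homCx F I).homology (i + 1)) : Type u) := ((Sx).map (hH.δ i (i + 1) rfl)).hom
    have hd : Function.Surjective d :=
      (ModuleCat.epi_iff_surjective ((Sx).map (hH.δ i (i + 1) rfl))).1 inferInstance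
    let c : Ext ((Sx).obj (kernel p)) ((Sx).obj G) i →ₗ[X.presheaf.stalk x]
        Ext ((Sx).obj F) ((Sx).obj G) (i + 1) :=
      hSC.extClass.precompOfLinear (X.presheaf.stalk x) _ (Nat.add_comm 1 i)
    have hc : Function.Surjective c := fun y =>
      Ext.contravariant_sequence_exact₃ hSC _ y (Subsingleton.elim _ _) (Nat.add_comm 1 i)
    suffices hs : ∃ e : ((Sx).obj ((homCx (kernel p) I).homology i) : Type u) ≃ₗ[X.presheaf.stalk x]
        Ext ((Sx).obj (kernel p)) ((Sx).obj G) i, (LinearMap.ker d).map e.toLinearMap = LinearMap.ker c by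
      obtain ⟨e, he⟩ := hs
      exact ⟨((d.quotKerEquivOfSurjective hd).symm.trans (Submodule.Quotient.equiv _ _ e he)).trans
        (c.quotKerEquivOfSurjective hc)⟩
    have hexd : LinearMap.ker d = LinearMap.range
        ((Sx).map (HomologicalComplex.homologyMap (homCxShort C I).g i)).hom :=
      ((hH.homology_exact₃ i (i + 1) rfl).map (Sx)).moduleCat_range_eq_ker.symm
    have hexc : ∀ z, c z = 0 ↔ ∃ y, (Ext.mk₀ ((Sx).map (kernel.ι p))).comp y (zero_add i) = z := fun z =>
      ⟨fun h => Ext.contravariant_sequence_exact₁ hSC _ z (Nat.add_comm 1 i) h, by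
        rintro ⟨y, rfl⟩
        show hSC.extClass.comp ((Ext.mk₀ ((Sx).map (kernel.ι p))).comp y (zero_add i)) (Nat.add_comm 1 i) = 0
        refine (Ext.comp_assoc_of_second_deg_zero hSC.extClass (Ext.mk₀ (C.map (Sx)).f) y
          (Nat.add_comm 1 i)).symm.trans ?_
        rw [hSC.extClass_comp, Ext.zero_comp]⟩
    cases i with
    | zero =>
      refine ⟨(zeroEquiv x I hK).trans Ext.linearEquiv₀.symm, ?_⟩
      ext z
      rw [LinearMap.mem_ker, hexc, hexd]
      constructor
      · rintro ⟨_, ⟨w, rfl⟩, rfl⟩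
        refine ⟨Ext.mk₀ (zeroEquiv x I hEc w), ?_⟩
        rw [Ext.mk₀_comp_mk₀]
        exact (congrArg Ext.mk₀ (zeroEquiv_natural x I (kernel.ι p) hK hEc w)).symm
      · rintro ⟨y, rfl⟩
        obtain ⟨f, rfl⟩ := (Ext.mk₀_bijective _ _).2 y
        obtain ⟨w, rfl⟩ := (zeroEquiv x I hEc).surjective f
        refine ⟨_, ⟨w, rfl⟩, ?_⟩
        rw [Ext.mk₀_comp_mk₀]
        exact congrArg Ext.mk₀ (zeroEquiv_natural x I (kernel.ι p) hK hEc w)
    | succ i =>
      obtain ⟨e⟩ := nonempty_stalk_homology_affine (i + 1) hK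
      refine ⟨e, ?_⟩
      have h1 : LinearMap.ker d = ⊥ := by
        refine hexd.trans (LinearMap.range_eq_bot.2 ?_)
        exact (congrArg (fun t => ((Sx).map t).hom) ((hz i).eq_of_src
          (HomologicalComplex.homologyMap (homCxShort C I).g (i + 1)) 0)).trans
          (congrArg ModuleCat.Hom.hom ((Sx).map_zero _ _))
      rw [h1, Submodule.map_bot, eq_comm, LinearMap.ker_eq_bot']
      intro z hz0
      obtain ⟨y, rfl⟩ := (hexc z).1 hz0
      exact (congrArg (fun t => (Ext.mk₀ ((Sx).map (kernel.ι p))).comp t (zero_add (i + 1))) ((hE0 i).elim y 0)).trans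
        (Ext.comp_zero ..)

end Affine

end Groth.Agent.SerreDual
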