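import Groth.Agent.SerreDual.LocFreeCriterion
import Groth.Agent.Coherent.TensorQcoh
import Groth.Agent.Coherent.CohBC.HomCorep
import Groth.Agent.EGA43.CMChart.Field

/-!
# Cohen–Macaulay projective schemes and vanishing of negative twists
-/

set_option autoImplicit false
set_option linter.style.haveILetI false
set_option backward.isDefEq.respectTransparency.types false

universe u

open CategoryTheory CategoryTheory.Abelian CategoryTheory.Limits AlgebraicGeometry Opposite TopologicalSpace
open Groth.Agent.Coherent Groth.Agent.PicLib Groth.Agent.AmpleLib Groth.Agent.EulerLib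

namespace Groth.Agent.SerreDual

variable {X : Scheme.{u}}

theorem isFinLocFree_of_invertible {L : X.Modules} (hL : PicF.IsInvertible L) : FlatMod.IsFinLocFree L :=
  fun z => let ⟨U, hz, h⟩ := isFinLocFreeOfRank_one hL z; ⟨U, 1, hz, h⟩

/-- Tensor inverses are unique. -/
theorem nonempty_iso_of_inverse {A B B' : X.Modules} (hA : PicF.IsInvertible A)
    (hB' : PicF.IsInvertible B') (e : CohB1.tensorMod A B ≅ Coh.structureModule X)
    (e' : CohB1.tensorMod A B' ≅ Coh.structureModule X) : Nonempty (B ≅ B') := by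
  obtain ⟨a⟩ := exists_assocIso' B hA hB'
  exact ⟨(unitTensorIso B).symm ≪≫ tensorComm _ _ ≪≫ AmpleLib.tensorIso (Iso.refl B) e'.symm ≪≫ a.symm ≪≫
    AmpleLib.tensorIso (tensorComm B A ≪≫ e) (Iso.refl B') ≪≫ unitTensorIso B'⟩

variable {k : Type u} [Field k]

/-- Pulled back twists are inverse to each other. -/
theorem nonempty_pull_twist_inv {n : ℕ} (π : X ⟶ CohB1.ProjSpace n k) (a : ℤ) :
    Nonempty (CohB1.tensorMod ((Scheme.Modules.pullback π).obj (Twist.twistProjSpace n k a))
      ((Scheme.Modules.pullback π).obj (Twist.twistProjSpace n k (-a))) ≅ Coh.structureModule X) := by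
  obtain ⟨e⟩ := nonempty_twist_inv (n := n) (k := k) a
  obtain ⟨e₁⟩ := exists_pullTensorIso π (isInvertible_twist n k a) (isInvertible_twist n k (-a))
  obtain ⟨e₂⟩ := exists_pullStructureIso π
  exact ⟨e₁.symm ≪≫ (Scheme.Modules.pullback π).mapIso e ≪≫ e₂⟩

/-- `π^* O(q) ≅ (π^* O(1))^q`. -/
theorem nonempty_pull_twist_pow {n : ℕ} (π : X ⟶ CohB1.ProjSpace n k) (q : ℕ) :
    Nonempty ((Scheme.Modules.pullback π).obj (Twist.twistProjSpace n k (q : ℤ)) ≅
      CohB1.tensorPow ((Scheme.Modules.pullback π).obj (Twist.twistProjSpace n k 1)) q) := by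
  obtain ⟨e⟩ := TwistLib.nonempty_twist_pow_iso (exists_degree_one n k) q
  let e' : Twist.twistProjSpace n k (q : ℤ) ≅ CohB1.tensorPow (Twist.twistProjSpace n k 1) q := e
  obtain ⟨f, -⟩ := exists_pullPowIso π (isInvertible_twist n k 1) q
  exact ⟨(Scheme.Modules.pullback π).mapIso e' ≪≫ f⟩

variable [X.Over (Spec (CommRingCat.of k))] [IsProper (X ↘ Spec (CommRingCat.of k))]

/-- Negative twists of locally free modules on a projective Cohen–Macaulay scheme of pure dimension `n` have
no cohomology below `n`. -/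
theorem vanishing_neg_of_cm {N n : ℕ} (i : X ⟶ CohB1.ProjSpace N k) [IsClosedImmersion i]
    (hn : topologicalKrullDim X ≤ n)
    (hCM : ∀ x : X, IsClosed ({x} : Set X) →
      LocCoh.IsCohenMacaulayLocalRing (X.presheaf.stalk x) ∧ ringKrullDim (X.presheaf.stalk x) = n)
    {F : X.Modules} (hF : FlatMod.IsFinLocFree F) :
    ∃ q₀ : ℕ, ∀ q : ℕ, q₀ ≤ q → ∀ j : ℕ, j < n → Subsingleton (Coh.HH X
      (CohB1.tensorMod F ((Scheme.Modules.pullback i).obj (Twist.twistProjSpace N k (-(q : ℤ))))) j) := by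
  haveI := isNoetherian_of_proper (k := k) (X := X)
  haveI : HasExt.{u} X.Modules :=
    haveI : IsGrothendieckAbelian.{u} X.Modules := DCat.schemeModules_isGrothendieckAbelian X
    inferInstance
  have hL := isAmple_pullback_of_isAffineHom i (isAmple_projSpace_one N k)
  obtain ⟨ω, t, hω, hrep⟩ := exists_coh_dualizing k hL hn
  let D := internalHom F (Coh.structureModule X)
  have hO : FlatMod.IsFinLocFree (Coh.structureModule X) := CohBC.isFinLocFree_structureModule X
  have hD : FlatMod.IsFinLocFree D := CohBC.isFinLocFree_internalHom hF hO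
  have hF' : FlatMod.IsFinLocFree (internalHom D (Coh.structureModule X)) := CohBC.isFinLocFree_internalHom hD hO
  haveI := isIso_contract hF (Coh.structureModule X)
  let g : F ≅ internalHom D (Coh.structureModule X) :=
    (unitTensorIso F).symm ≪≫ tensorComm _ _ ≪≫ asIso (contractBilin F (Coh.structureModule X)).desc
  obtain ⟨q₀, hq₀⟩ := Coherent.Serre.exists_subsingleton_HH_twist (A := k) hL (CohB1.tensorMod D ω)
    ((haveI := (CohBC.isCoh_of_isFinLocFree hD).1; haveI := hω.1;
      ⟨Coherent.isQCoh_tensorMod D ω, Coherent.isFT_tensorMod D ω (CohBC.isCoh_of_isFinLocFree hD).2 hω.2⟩ : Coh.IsCoh (CohB1.tensorMod D ω)))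
  refine ⟨q₀, fun q hq j hj => ?_⟩
  let Lm := (Scheme.Modules.pullback i).obj (Twist.twistProjSpace N k (-(q : ℤ)))
  let Lp := (Scheme.Modules.pullback i).obj (Twist.twistProjSpace N k (q : ℤ))
  have hLm : PicF.IsInvertible Lm := PicLoc.isInvertible_pullback i (isInvertible_twist N k _)
  have hLp : PicF.IsInvertible Lp := PicLoc.isInvertible_pullback i (isInvertible_twist N k _)
  obtain ⟨e⟩ : Nonempty (CohB1.tensorMod Lm Lp ≅ Coh.structureModule X) := by
    have h := nonempty_pull_twist_inv i (-(q : ℤ))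
    rwa [neg_neg] at h
  obtain ⟨p⟩ := nonempty_pull_twist_pow i q
  haveI := isIso_contract hD (CohB1.tensorMod ω Lp)
  haveI : Subsingleton (Coh.HH X (internalHom (internalHom D (Coh.structureModule X))
      (CohB1.tensorMod ω Lp)) (n - j)) := by
    haveI := hq₀ q hq (n - j) (by omega)
    exact subsingleton_HH_of_iso k ((asIso (contractBilin D (CohB1.tensorMod ω Lp)).desc).symm ≪≫
      CohBC.assocMod D ω Lp ≪≫ AmpleLib.tensorIso (Iso.refl (CohB1.tensorMod D ω)) p) (n - j)
  haveI : Subsingleton (Ext (CohB1.tensorMod (internalHom D (Coh.structureModule X)) Lm) ω (n - j)) :=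
    subsingleton_ext_tensor hLm hLp e _ ω (n - j)
      (extLocFreeEquiv k hF' (CohB1.tensorMod ω Lp) (n - j)).toEquiv.subsingleton
  obtain ⟨d⟩ := (duality_cm hL hn hCM hω t (fun G hG => hrep G hG.1)
    (CohB1.tensorMod (internalHom D (Coh.structureModule X)) Lm)
    (isCoh_twist hLm (CohBC.isCoh_of_isFinLocFree hF')) (n - j)).1 j (Nat.sub_add_cancel hj.le)
  haveI : Subsingleton (Coh.HH X (CohB1.tensorMod (internalHom D (Coh.structureModule X)) Lm) j) :=
    (Module.subsingleton_dual_iff k).1 d.symm.toEquiv.subsingleton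
  exact subsingleton_HH_of_iso k (AmpleLib.tensorIso g (Iso.refl Lm)) j

/-- If large negative twists of the structure sheaf have no cohomology below the dimension, the scheme is
Cohen–Macaulay of pure dimension. -/
theorem cm_of_vanishing_neg {N n : ℕ} (i : X ⟶ CohB1.ProjSpace N k) [IsClosedImmersion i]
    (hn : topologicalKrullDim X ≤ n)
    (h : ∀ j : ℕ, j < n → ∃ q₀ : ℕ, ∀ q : ℕ, q₀ ≤ q →
      Subsingleton (Coh.HH X ((Scheme.Modules.pullback i).obj (Twist.twistProjSpace N k (-(q : ℤ)))) j)) :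
    ∀ x : X, IsClosed ({x} : Set X) →
      LocCoh.IsCohenMacaulayLocalRing (X.presheaf.stalk x) ∧ ringKrullDim (X.presheaf.stalk x) = n := by
  haveI := isNoetherian_of_proper (k := k) (X := X)
  haveI : IsProper ((CohB1.ProjSpace n k) ↘ Spec (CommRingCat.of k)) := isProper_projSpace_toSpec n k
  haveI : IsProper (CohB1.ProjSpace.toSpec n k) := isProper_projSpace_toSpec n k
  haveI := isNoetherian_of_proper (k := k) (X := CohB1.ProjSpace n k)
  haveI := CurveLib.isIntegral_projSpace k n
  have hL := isAmple_pullback_of_isAffineHom i (isAmple_projSpace_one N k)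
  obtain ⟨π, e, hfin, hπ, he, ⟨τ⟩⟩ := exists_finite_to_projSpace_pow k hL hn
  haveI := hfin
  haveI : Coh.IsCoh ((Coh.push π).obj (Coh.structureModule X)) :=
    isCoh_push_finite π (CohBC.isCoh_of_isFinLocFree (CohBC.isFinLocFree_structureModule X))
  have hfree : FlatMod.IsFinLocFree ((Scheme.Modules.pushforward π).obj (Coh.structureModule X)) := by
    refine isFinLocFree_of_vanishing_neg ‹Coh.IsCoh ((Coh.push π).obj (Coh.structureModule X))› fun j hj => ?_
    obtain ⟨q₀, hq₀⟩ := h j hj
    refine ⟨q₀, fun m hm => ?_⟩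
    let A := (Scheme.Modules.pullback π).obj (Twist.twistProjSpace n k (m : ℤ))
    let B := (Scheme.Modules.pullback π).obj (Twist.twistProjSpace n k (-(m : ℤ)))
    let B' := (Scheme.Modules.pullback i).obj (Twist.twistProjSpace N k (-((e * m : ℕ) : ℤ)))
    obtain ⟨eB⟩ := nonempty_pull_twist_inv π (m : ℤ)
    obtain ⟨p⟩ := nonempty_pull_twist_pow π m
    obtain ⟨p'⟩ := nonempty_pull_twist_pow i (e * m)
    obtain ⟨ψ, -⟩ := exists_powPowIso hL.1 e m
    let τm := powIsoOfIso τ m
    obtain ⟨eB'⟩ : Nonempty (CohB1.tensorMod A B' ≅ Coh.structureModule X) := by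
      obtain ⟨e'⟩ := nonempty_pull_twist_inv i ((e * m : ℕ) : ℤ)
      exact ⟨AmpleLib.tensorIso (p ≪≫ τm ≪≫ ψ ≪≫ p'.symm) (Iso.refl B') ≪≫ e'⟩
    obtain ⟨bb⟩ := nonempty_iso_of_inverse (PicLoc.isInvertible_pullback π (isInvertible_twist n k _))
      (PicLoc.isInvertible_pullback i (isInvertible_twist N k _)) eB eB'
    haveI := hq₀ (e * m) (hm.trans (Nat.le_mul_of_pos_left m he))
    haveI : Subsingleton (Coh.HH X B j) := subsingleton_HH_of_iso k bb j
    haveI : Coh.IsQCoh (Twist.twistProjSpace n k (-(m : ℤ))) :=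
      (CohBC.isCoh_of_isFinLocFree (isFinLocFree_of_invertible (isInvertible_twist n k (-(m : ℤ))))).1
    haveI : Coh.IsQCoh B := EGA43.InjFibre.isQCoh_pullback π _
    haveI := isIso_projHom (f := π) (isFinLocFree_of_invertible (isInvertible_twist n k (-(m : ℤ))))
      (Coh.structureModule X)
    haveI : Subsingleton (Coh.HH (CohB1.ProjSpace n k) ((Coh.push π).obj B) j) :=
      (hpush π k hπ B j).symm.toEquiv.subsingleton
    exact subsingleton_HH_of_iso k (tensorComm _ _ ≪≫
      asIso (projHom π (Twist.twistProjSpace n k (-(m : ℤ))) (Coh.structureModule X)) ≪≫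
      (Scheme.Modules.pushforward π).mapIso (tensorComm _ _ ≪≫ unitTensorIso B)) j
  haveI : Flat π := (MorProj.isFinLocFree_of_isAffineHom π hfree).2.1
  intro x hx
  have hyc : IsClosed ({π x} : Set (CohB1.ProjSpace n k)) := by
    have := π.isClosedMap _ hx
    rwa [Set.image_singleton] at this
  haveI := isRegularLocalRing_stalk_projSpace n k (π x)
  refine ⟨EGA43.CMChart.cm_of_flat π x (Flat.stalkMap π x), ?_⟩
  obtain ⟨-, hc⟩ := FlatMor12.coheight_add_ptDim (CohB1.ProjSpace.toSpec n k) n
    (fun η hη => by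
      exact_mod_cast (DimLib.forall_components_iff (CohB1.ProjSpace.toSpec n k)
        (fun s => s = (n : WithBot ℕ∞))).1 (fun Z hZ => by
          rw [DimLib.components_eq_univ hZ,
            IsHomeomorph.topologicalKrullDim_eq _ (Homeomorph.Set.univ _).isHomeomorph,
            DimLib.PN.topologicalKrullDim_projSpace]) η hη) (π x)
  have hy : ringKrullDim ((CohB1.ProjSpace n k).presheaf.stalk (π x)) = n := by
    rw [ringKrullDim_stalk_eq_coheight, hc, (DimLib.ptDim_eq_zero_iff _ (π x)).2 hyc, Nat.sub_zero]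
    rfl
  refine le_antisymm ?_ ?_
  · rw [ringKrullDim_stalk_eq_coheight]
    refine (Order.coheight_le_krullDim x).trans ?_
    rwa [← DimLib.topologicalKrullDim_eq_krullDim]
  · rw [← hy]
    letI := (π.stalkMap x).hom.toAlgebra
    haveI : IsLocalHom (algebraMap ((CohB1.ProjSpace n k).presheaf.stalk (π x)) (X.presheaf.stalk x)) :=
      inferInstanceAs (IsLocalHom (π.stalkMap x).hom)
    haveI : Module.Flat ((CohB1.ProjSpace n k).presheaf.stalk (π x)) (X.presheaf.stalk x) := Flat.stalkMap π x
    rw [← IsLocalRing.maximalIdeal_height_eq_ringKrullDim, ← IsLocalRing.maximalIdeal_height_eq_ringKrullDim]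
    haveI : (IsLocalRing.maximalIdeal (X.presheaf.stalk x)).LiesOver
        (IsLocalRing.maximalIdeal ((CohB1.ProjSpace n k).presheaf.stalk (π x))) :=
      ⟨((((IsLocalRing.local_hom_TFAE (algebraMap ((CohB1.ProjSpace n k).presheaf.stalk (π x))
        (X.presheaf.stalk x))).out 0 4 : _ ↔ (IsLocalRing.maximalIdeal (X.presheaf.stalk x)).comap
        (algebraMap ((CohB1.ProjSpace n k).presheaf.stalk (π x)) (X.presheaf.stalk x)) =
        IsLocalRing.maximalIdeal _).mp ‹_›)).symm⟩
    rw [Ideal.height_eq_height_add_of_liesOver_of_hasGoingDown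
      (IsLocalRing.maximalIdeal ((CohB1.ProjSpace n k).presheaf.stalk (π x)))
      (IsLocalRing.maximalIdeal (X.presheaf.stalk x))]
    exact WithBot.coe_le_coe.2 le_self_add

end Groth.Agent.SerreDual
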