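import Groth.Agent.SerreDual.ExtLocFree
import Groth.Agent.Coherent.InternalHomFlasque
import Groth.Agent.Coherent.Existence.HomAffine
import Groth.Agent.SiteTen.Tensor
import Groth.Agent.Coherent.CohBC.HomSheaf
import Groth.Agent.Coherent.RpushSupport
import Groth.Prelude.Def_ModSite2
import Mathlib.Algebra.Homology.HomologySequence
import Mathlib.Algebra.Homology.HomologicalComplexAbelian

/-!
# Sheaf `Ext` through the complex `Hom(F, I^•)`
-/

set_option autoImplicit false
set_option linter.style.haveILetI false
set_option backward.isDefEq.respectTransparency.types false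

universe u

open CategoryTheory CategoryTheory.Abelian CategoryTheory.Limits AlgebraicGeometry Opposite TopologicalSpace
open Groth.Agent.Coherent Groth.Agent.EulerLib Groth.Agent.PicLib Groth.Agent.AmpleLib

namespace Groth.Agent.SerreDual

variable {X : Scheme.{u}}

/-- Precomposition on the internal Hom. -/
noncomputable def precompApp {F F' : X.Modules} (f : F ⟶ F') (N : X.Modules) :
    internalHom F' N ⟶ internalHom F N :=
  ⟨PresheafOfModules.homMk
    { app := fun U => AddCommGrpCat.ofHom (AddMonoidHom.mk'
        (fun φ : locHom F' N U.unop => (show locHom F N U.unop from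
          ⟨fun W hW => (φ.1 W hW).comp (f.app W).hom,
            fun W hW r a => by
              show ev φ W hW (f.app W (r • a)) = r • ev φ W hW (f.app W a)
              rw [Scheme.Modules.Hom.app_smul, ev_smul_arg],
            fun W W' hW h a => by
              show resM N h (ev φ W hW (f.app W a)) = ev φ W' (h.trans hW) (f.app W' (resM F h a))
              rw [ev_res, app_resM]⟩))
        (fun _ _ => locHom_ext fun _ _ _ => rfl))
      naturality := fun _ _ _ => ConcreteCategory.hom_ext _ _ fun _ => rfl }
    fun U r φ => locHom_ext (φ := secHom _) (ψ := secHom _) fun _ _ _ => rfl⟩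

theorem ev_precompApp {F F' : X.Modules} (f : F ⟶ F') {N : X.Modules} {U : X.Opens}
    (φ : Γ(internalHom F' N, U)) (W : X.Opens) (hW : W ≤ U) (a : Γ(F, W)) :
    ev (secHom ((precompApp f N).app U φ)) W hW a = ev (secHom φ) W hW (f.app W a) := rfl

/-- Precomposition, naturally in the target. -/
noncomputable def precomp {F F' : X.Modules} (f : F ⟶ F') : internalHomFunctor F' ⟶ internalHomFunctor F where
  app N := precompApp f N
  naturality N N' g := Scheme.Modules.hom_ext _ _ fun U => ConcreteCategory.hom_ext _ _ fun φ =>
    locHom_ext (φ := secHom _) (ψ := secHom _) fun W hW a => by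
      refine Eq.trans (ev_internalHomMap F' g φ W hW (f.app W a)) ?_
      exact (ev_internalHomMap F g ((precompApp f N).app U φ) W hW a).symm

theorem precompApp_id (F N : X.Modules) : precompApp (𝟙 F) N = 𝟙 _ :=
  Scheme.Modules.hom_ext _ _ fun _ => ConcreteCategory.hom_ext _ _ fun φ =>
    locHom_ext (φ := secHom _) (ψ := secHom φ) fun _ _ _ => rfl

theorem precompApp_comp {F F' F'' : X.Modules} (f : F ⟶ F') (g : F' ⟶ F'') (N : X.Modules) :
    precompApp (f ≫ g) N = precompApp g N ≫ precompApp f N :=
  Scheme.Modules.hom_ext _ _ fun _ => ConcreteCategory.hom_ext _ _ fun _ =>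
    locHom_ext (φ := secHom _) (ψ := secHom _) fun _ _ _ => rfl

theorem precompApp_zero (F F' N : X.Modules) : precompApp (0 : F ⟶ F') N = 0 :=
  Scheme.Modules.hom_ext _ _ fun U => ConcreteCategory.hom_ext _ _ fun φ =>
    locHom_ext (φ := secHom _) (ψ := secHom _) fun W hW a => by
      show ev (secHom φ) W hW ((0 : F ⟶ F').app W a) = 0
      exact map_zero ((secHom φ).1 W hW)

/-- The bilinear map with the arguments exchanged. -/
noncomputable def bilinSwap {A B N : X.Modules} (β : Bilin A B N) : Bilin B A N where
  app U b a := β.app U a b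
  add_left U b b' a := β.add_right U a b b'
  add_right U b a a' := β.add_left U a a' b
  smul_left U r b a := β.smul_right U r a b
  smul_right U r b a := β.smul_left U r a b
  res U V h b a := β.res U V h a b

theorem mono_precompApp {F F' : X.Modules} (g : F ⟶ F') [Epi g] (N : X.Modules) : Mono (precompApp g N) := by
  refine ⟨fun {A} α β h => Scheme.Modules.hom_ext _ _ fun U => ConcreteCategory.hom_ext _ _ fun a => ?_⟩
  refine locHom_ext (φ := secHom (α.app U a)) (ψ := secHom (β.app U a)) fun W hW b => ?_
  refine AmpleLib.sec_ext N _ _ fun y hy => ?_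
  obtain ⟨W', hW', hy', c, hc⟩ := exists_lift_of_epi g W b y hy
  refine ⟨W', hW', hy', ?_⟩
  rw [ev_res, ev_res, ← hc]
  have h' := congrArg (fun φ : A ⟶ internalHom F N => ev (secHom (φ.app U a)) W' (hW'.trans hW) c) h
  exact h'

/-- The short exact sequence of `Hom` into an injective module. -/
theorem shortExact_precomp {S : ShortComplex X.Modules} (hS : S.ShortExact) (I : X.Modules) [Injective I] :
    (ShortComplex.mk (precompApp S.g I) (precompApp S.f I)
      (by rw [← precompApp_comp, S.zero, precompApp_zero])).ShortExact := by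
  haveI := hS.epi_g
  haveI := hS.mono_f
  haveI hm : Mono (precompApp S.g I) := mono_precompApp S.g I
  refine { exact := ?_, mono_f := hm, epi_g := ?_ }
  · refine ShortComplex.exact_of_f_is_kernel _ (KernelFork.IsLimit.ofι' _ _ fun {A} φ hφ => ?_)
    let β : CohB1.tensorMod A S.X₂ ⟶ I := (bilinSwap (uncurry φ)).desc
    have hβ : (tensE A).map S.f ≫ β = 0 := AmpleLib.hom_ext fun U a x => by
      show β.app U ((tE A S.f).app U (tmul a x)) = (0 : CohB1.tensorMod A S.X₁ ⟶ I).app U (tmul a x)
      rw [tensE_map_tmul, Bilin.desc_tmul]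
      exact congrArg (fun ψ : A ⟶ internalHom S.X₁ I => ev (secHom (ψ.app U a)) U le_rfl x) hφ
    have hex := (CokernelCofork.mapIsColimit _ hS.gIsCokernel (tensE A))
    let γ : CohB1.tensorMod A S.X₃ ⟶ I := (CokernelCofork.IsColimit.desc' hex β hβ).1
    have hγ : (tensE A).map S.g ≫ γ = β := (CokernelCofork.IsColimit.desc' hex β hβ).2
    refine ⟨curry (bilinSwap (bilinOfHom γ)), Scheme.Modules.hom_ext _ _ fun U =>
      ConcreteCategory.hom_ext _ _ fun a => ?_⟩
    refine locHom_ext (φ := secHom _) (ψ := secHom (φ.app U a)) fun W hW x => ?_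
    show γ.app W (tmul (resM A hW a) (S.g.app W x)) = _
    rw [← tensE_map_tmul]
    refine (congrArg (fun ψ : CohB1.tensorMod A S.X₂ ⟶ I => ψ.app W (tmul (resM A hW a) x)) hγ).trans ?_
    show β.app W (tmul (resM A hW a) x) = _
    rw [Bilin.desc_tmul]
    show ev (secHom (φ.app W (resM A hW a))) W le_rfl x = _
    rw [app_resM]
    rfl
  · refine epi_of_locally_surjective _ fun U ψ y hy => ?_
    obtain ⟨Ψ, hΨ⟩ := exists_hom_extending S.X₁ I (secHom ψ)
    let E := Injective.factorThru Ψ S.f
    refine ⟨U, le_rfl, hy, (show locHom S.X₂ I U from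
      ⟨fun W _ => (E.app W).hom, fun W _ r a => Scheme.Modules.Hom.app_smul E r a,
        fun W W' _ h a => (app_resM E h a).symm⟩), ?_⟩
    refine locHom_ext (φ := secHom _) (ψ := secHom _) fun W hW a => ?_
    refine Eq.trans ?_ (resM_internalHom le_rfl ψ W hW a).symm
    show E.app W (S.f.app W a) = _
    refine Eq.trans ?_ (hΨ W hW a)
    exact congrArg (fun φ : S.X₁ ⟶ I => φ.app W a) (Injective.comp_factorThru Ψ S.f)

/-- `Hom(F, I^•)`. -/
noncomputable def homCx (F : X.Modules) {G : X.Modules} (I : InjectiveResolution G) :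
    CochainComplex X.Modules ℕ :=
  ((internalHomFunctor F).mapHomologicalComplex (ComplexShape.up ℕ)).obj I.cocomplex

/-- Functoriality of `Hom(F, I^•)` in `F`. -/
noncomputable def homCxMap {F F' : X.Modules} (f : F ⟶ F') {G : X.Modules} (I : InjectiveResolution G) :
    homCx F' I ⟶ homCx F I :=
  (NatTrans.mapHomologicalComplex (precomp f) (ComplexShape.up ℕ)).app I.cocomplex

theorem homCxMap_f {F F' : X.Modules} (f : F ⟶ F') {G : X.Modules} (I : InjectiveResolution G) (i : ℕ) :
    (homCxMap f I).f i = precompApp f (I.cocomplex.X i) := rfl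

/-- The short complex of `Hom` complexes of a short complex. -/
noncomputable def homCxShort (S : ShortComplex X.Modules) {G : X.Modules} (I : InjectiveResolution G) :
    ShortComplex (CochainComplex X.Modules ℕ) :=
  ShortComplex.mk (homCxMap S.g I) (homCxMap S.f I) (HomologicalComplex.hom_ext _ _ fun i => by
    show precompApp S.g (I.cocomplex.X i) ≫ precompApp S.f (I.cocomplex.X i) = 0
    exact (precompApp_comp S.f S.g _).symm.trans
      ((congrArg (precompApp · _) S.zero).trans (precompApp_zero _ _ _)))

theorem shortExact_homCxShort {S : ShortComplex X.Modules} (hS : S.ShortExact) {G : X.Modules}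
    (I : InjectiveResolution G) : (homCxShort S I).ShortExact :=
  HomologicalComplex.shortExact_of_degreewise_shortExact _ fun i => by
    haveI := I.injective i
    exact shortExact_precomp hS (I.cocomplex.X i)

/-- No higher sheaf `Ext` out of a locally free module. -/
theorem isZero_homology_homCx_of_locFree {E : X.Modules} (hE : FlatMod.IsFinLocFree E) {G : X.Modules}
    (I : InjectiveResolution G) (i : ℕ) : IsZero ((homCx E I).homology (i + 1)) := by
  haveI := preservesFiniteLimits_internalHom E
  haveI := preservesFiniteColimits_internalHom hE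
  refine (HomologicalComplex.exactAt_iff_isZero_homology _ _).1 ?_
  exact (I.cocomplex_exactAt_succ i).map (internalHomFunctor E)

theorem enoughInjectives_modules (X : Scheme.{u}) : EnoughInjectives X.Modules := by
  haveI : IsGrothendieckAbelian.{u} X.Modules := DCat.schemeModules_isGrothendieckAbelian X
  infer_instance

theorem hasInjectiveResolutions_modules (X : Scheme.{u}) : HasInjectiveResolutions X.Modules := by
  haveI := enoughInjectives_modules X
  infer_instance

/-- In degree zero, sheaf `Ext` is the internal Hom. -/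
theorem nonempty_homology_zero_iso (F : X.Modules) {G : X.Modules} (I : InjectiveResolution G) :
    Nonempty ((homCx F I).homology 0 ≅ internalHom F G) := by
  haveI := hasInjectiveResolutions_modules X
  haveI := preservesFiniteLimits_internalHom F
  exact ⟨(I.isoRightDerivedObj (internalHomFunctor F) 0).symm ≪≫
    (internalHomFunctor F).rightDerivedZeroIsoSelf.app G⟩

/-- The chosen sheaf Hom of the site-theoretic prelude is the internal Hom. -/
noncomputable def msSheafHomIso (F : X.Modules) [ModSite.HasSheafHom (O := X.sheaf) F] :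
    ModSite.sheafHom (O := X.sheaf) F ≅ internalHomFunctor F :=
  ((ModSite.sheafHomAdj (O := X.sheaf) F).ofNatIsoLeft
    (SiteTen.tenFlipIso (O := X.sheaf) F : _ ≅ tensE F)).rightAdjointUniq (tensorHomAdj F)

/-- The sheaf `Ext` of the prelude is the homology of `Hom(F, I^•)`. -/
noncomputable def extShIso (F : X.Modules) [ModSite.HasSheafHom (O := X.sheaf) F]
    [HasInjectiveResolutions (ModSite.Mod X.sheaf)] {G : X.Modules} (I : InjectiveResolution G) (i : ℕ) :
    (ModSite.extSh (O := X.sheaf) F i).obj G ≅ (homCx F I).homology i :=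
  let Φ : X.Modules ⥤ X.Modules := ModSite.sheafHom (O := X.sheaf) F
  haveI hΦ : Φ.Additive := ModSite.sheafHom_additive X.sheaf F
  haveI hΨ : (internalHomFunctor F).Additive := additive_internalHomFunctor F
  haveI hI : HasInjectiveResolutions X.Modules := ‹HasInjectiveResolutions (ModSite.Mod X.sheaf)›
  (show (Φ.rightDerived i).obj G ≅ (homCx F I).homology i from
    I.isoRightDerivedObj Φ i ≪≫
      (HomologicalComplex.homologyFunctor X.Modules (ComplexShape.up ℕ) i).mapIso
        ((NatIso.mapHomologicalComplex (show Φ ≅ internalHomFunctor F from msSheafHomIso F)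
          (ComplexShape.up ℕ)).app I.cocomplex))

/-- Sheaf `Ext` of coherent modules is coherent, on schemes with enough locally free modules. -/
theorem isCoh_homology_homCx [IsLocallyNoetherian X]
    (hcov : ∀ F : X.Modules, Coh.IsCoh F → ∃ (E : X.Modules) (p : E ⟶ F), Epi p ∧ FlatMod.IsFinLocFree E)
    {G : X.Modules} (hG : Coh.IsCoh G) (I : InjectiveResolution G) :
    ∀ (i : ℕ) (F : X.Modules), Coh.IsCoh F → Coh.IsCoh ((homCx F I).homology i)
  | 0, F, hF => by
    obtain ⟨e⟩ := nonempty_homology_zero_iso F I
    exact isCoh_of_iso e.symm (Existence.isCoh_internalHom hF hG)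
  | i + 1, F, hF => by
    obtain ⟨E, p, hp, hE⟩ := hcov F hF
    haveI := hp
    let S := ShortComplex.mk (kernel.ι p) p (kernel.condition p)
    have hS : S.ShortExact :=
      { exact := ShortComplex.exact_of_f_is_kernel _ (kernelIsKernel p), mono_f := inferInstance, epi_g := hp }
    have hEc : Coh.IsCoh E := CohBC.isCoh_of_isFinLocFree hE
    have hK : Coh.IsCoh S.X₁ := isCoh_kernel p hEc hF.1
    have hSE := shortExact_homCxShort hS I
    haveI : Epi (hSE.δ i (i + 1) rfl) := hSE.epi_δ i (i + 1) rfl (isZero_homology_homCx_of_locFree hE I i)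
    haveI : Epi (ShortComplex.mk _ _ (hSE.comp_δ i (i + 1) rfl)).g := inferInstanceAs (Epi (hSE.δ i (i + 1) rfl))
    have hex := hSE.homology_exact₃ i (i + 1) rfl
    exact isCoh_of_iso ((cokernelIsCokernel (HomologicalComplex.homologyMap (homCxShort S I).g i)).coconePointUniqueUpToIso
        hex.gIsCokernel)
      (isCoh_cokernel _ (isCoh_homology_homCx hcov hG I i E hEc).1 (isCoh_homology_homCx hcov hG I i S.X₁ hK))

end Groth.Agent.SerreDual
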