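import Groth.Agent.SerreDual.ExtShProj
import Groth.Agent.DCat.PullPerf

/-!
# Sheaf `Ext` on closed subschemes of projective space
-/

set_option autoImplicit false
set_option linter.style.haveILetI false
set_option backward.isDefEq.respectTransparency.types false

universe u

open CategoryTheory CategoryTheory.Abelian CategoryTheory.Limits AlgebraicGeometry Opposite TopologicalSpace
open Groth.Agent.Coherent Groth.Agent.PicLib Groth.Agent.AmpleLib Groth.Agent.EulerLib

namespace Groth.Agent.SerreDual

variable {k : Type u} [Field k] {n : ℕ}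
variable {X : Scheme.{u}} [X.Over (Spec (CommRingCat.of k))] (ι : X ⟶ CohB1.ProjSpace n k) [IsClosedImmersion ι]

omit [X.Over (Spec (CommRingCat.of k))] in
include ι in
/-- On a closed subscheme of projective space coherent modules are quotients of locally free ones. -/
theorem exists_locFree_cover_closed {F : X.Modules} (hF : Coh.IsCoh F) :
    ∃ (E : X.Modules) (p : E ⟶ F), Epi p ∧ FlatMod.IsFinLocFree E := by
  haveI : IsProper ((CohB1.ProjSpace n k) ↘ Spec (CommRingCat.of k)) := isProper_projSpace_toSpec n k
  haveI := isNoetherian_of_proper (k := k) (X := CohB1.ProjSpace n k)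
  haveI : IsLocallyNoetherian X := LocallyOfFiniteType.isLocallyNoetherian ι
  haveI := DCat.ClosedPush.isIso_counit ι F
  obtain ⟨E, p, hp, hE⟩ := exists_locFree_cover (isCoh_push_finite ι hF)
  haveI : (Scheme.Modules.pullback ι).IsLeftAdjoint :=
    (Scheme.Modules.pullbackPushforwardAdjunction ι).isLeftAdjoint
  haveI : Epi ((Scheme.Modules.pullback ι).map p) := (Scheme.Modules.pullback ι).map_epi p
  exact ⟨_, (Scheme.Modules.pullback ι).map p ≫ (Scheme.Modules.pullbackPushforwardAdjunction ι).counit.app F,
    epi_comp _ _, DCat.PullPerf.isFinLocFree_pullback ι hE⟩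

omit [X.Over (Spec (CommRingCat.of k))] in
include ι in
/-- Sheaf `Ext` of coherent modules on a closed subscheme of projective space is coherent. -/
theorem isCoh_homology_closed {F G : X.Modules} (hF : Coh.IsCoh F) (hG : Coh.IsCoh G)
    (I : InjectiveResolution G) (i : ℕ) : Coh.IsCoh ((homCx F I).homology i) := by
  haveI : IsProper ((CohB1.ProjSpace n k) ↘ Spec (CommRingCat.of k)) := isProper_projSpace_toSpec n k
  haveI := isNoetherian_of_proper (k := k) (X := CohB1.ProjSpace n k)
  haveI : IsLocallyNoetherian X := LocallyOfFiniteType.isLocallyNoetherian ι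
  exact isCoh_homology_homCx (fun F hF => exists_locFree_cover_closed ι hF) hG I i F hF

/-- For large twists `Ext^m(F, G(d))` is the space of sections of sheaf `Ext`. -/
theorem eventually_ext_equiv_sections_closed (hι : ι ≫ CohB1.ProjSpace.toSpec n k = X ↘ Spec (CommRingCat.of k))
    [HasExt.{u} X.Modules] {F G : X.Modules} (hF : Coh.IsCoh F) (hG : Coh.IsCoh G) (m : ℕ) :
    ∃ N : ℕ, ∀ d : ℕ, N ≤ d → ∀ J : InjectiveResolution
        (CohB1.tensorMod G ((Scheme.Modules.pullback ι).obj (Twist.twistProjSpace n k (d : ℤ)))),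
      Nonempty (Ext F (CohB1.tensorMod G ((Scheme.Modules.pullback ι).obj (Twist.twistProjSpace n k (d : ℤ)))) m
        ≃ₗ[k] Coh.HH X ((homCx F J).homology m) 0) := by
  classical
  haveI := (isProper_and_ample_of_closedImmersion ι hι).1
  haveI := isNoetherian_of_proper (k := k) (X := X)
  haveI := hasInjectiveResolutions_modules X
  let I := injectiveResolution G
  have hL : CohB1.IsAmple ((Scheme.Modules.pullback ι).obj (Twist.twistProjSpace n k 1)) :=
    AmpleLib.isAmple_pullback_of_isAffineHom ι (isAmple_projSpace_one n k)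
  choose N hN using fun q =>
    Coherent.Serre.exists_subsingleton_HH_twist (A := k) hL _ (isCoh_homology_closed ι hF hG I q)
  refine ⟨(Finset.range m).sup N, fun d hd J => nonempty_ext_linearEquiv_homology k J m fun q hq p => ?_⟩
  obtain ⟨t⟩ := nonempty_pull_twist_pow ι d
  obtain ⟨e⟩ := nonempty_pull_twist_inv (k := k) ι (d : ℤ)
  obtain ⟨w⟩ := nonempty_homology_twist (PicLoc.isInvertible_pullback ι (isInvertible_twist n k (d : ℤ)))
    (PicLoc.isInvertible_pullback ι (isInvertible_twist n k (-(d : ℤ)))) e F I J q
  haveI := hN q d ((Finset.le_sup (Finset.mem_range.2 hq)).trans hd) (p + 1) (Nat.succ_pos p)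
  haveI : Subsingleton (Coh.HH X (CohB1.tensorMod ((homCx F I).homology q)
      ((Scheme.Modules.pullback ι).obj (Twist.twistProjSpace n k (d : ℤ)))) (p + 1)) :=
    subsingleton_HH_of_iso k (AmpleLib.tensorIso (Iso.refl _) t) (p + 1)
  exact subsingleton_HH_of_iso k w (p + 1)

end Groth.Agent.SerreDual
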