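import Groth.Agent.SerreDual.ProjRegular
import Groth.Agent.SerreDual.FinNormal
import Groth.Agent.FlatMor12.MiracleScheme
import Groth.Agent.Props12.ClosedPointLocal
import Groth.Agent.CAlgH3.CMRing
import Groth.Agent.MorProj.FinFree
import Groth.Agent.DimLib.ProjDim
import Groth.Agent.CurveLib.ProjLine
import Groth.Agent.TopDim.Basic

/-!
# Finite morphisms from Cohen–Macaulay schemes to projective space are locally free
-/

set_option autoImplicit false
set_option linter.style.haveILetI false
set_option backward.isDefEq.respectTransparency.types false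

universe u

open CategoryTheory CategoryTheory.Limits AlgebraicGeometry Opposite TopologicalSpace
open Groth.Agent Groth.Agent.DimLib

namespace Groth.Agent.SerreDual

variable {k : Type u} [Field k] {X : Scheme.{u}}

/-- If all closed points have stalks of dimension `n`, all components have dimension `n`. -/
theorem components_dim_of_closedPoints (p : X ⟶ Spec (.of k)) [LocallyOfFiniteType p] [CompactSpace X]
    (n : ℕ) (h : ∀ x : X, IsClosed ({x} : Set X) → ringKrullDim (X.presheaf.stalk x) = n) :
    ∀ Z ∈ irreducibleComponents (X : Type u), topologicalKrullDim Z = n := by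
  haveI := LocallyOfFiniteType.isLocallyNoetherian p
  haveI : AlgebraicGeometry.IsNoetherian X := {}
  haveI : JacobsonSpace X := LocallyOfFiniteType.jacobsonSpace p
  refine (forall_components_iff p (fun t => t = (n : WithBot ℕ∞))).2 fun η hη => ?_
  have hfin : {η' : X | ∀ z, z ⤳ η' → η' = z}.Finite := by
    refine Set.Finite.of_finite_image (f := fun η' => closure ({η'} : Set X)) ?_ ?_
    · exact TopologicalSpace.NoetherianSpace.finite_irreducibleComponents.subset
        (Set.image_subset_iff.2 fun η' hη' => closure_mem_components hη')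
    · exact fun a _ b _ e => (isGenericPoint_closure (x := a)).eq (e.symm : closure ({b} : Set X) = closure {a})
  let S : Set X := ⋃ η' ∈ ({η' : X | ∀ z, z ⤳ η' → η' = z} \ {η}), closure ({η'} : Set X)
  have hS : IsClosed S := (hfin.sdiff).isClosed_biUnion fun _ _ => isClosed_closure
  have hηS : η ∉ S := fun hm => by
    obtain ⟨η', hη', hm'⟩ := Set.mem_iUnion₂.1 hm
    exact hη'.2 (hη η' (specializes_iff_mem_closure.2 hm')).symm
  obtain ⟨z, hz, hzc⟩ := nonempty_inter_closedPoints (Z := closure {η} ∩ Sᶜ)
    ⟨η, subset_closure rfl, hηS⟩ (isClosed_closure.isLocallyClosed.inter hS.isOpen_compl.isLocallyClosed)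
  have hηz : η ⤳ z := specializes_iff_mem_closure.2 hz.1
  have hz0 : ptDim p z = 0 := (ptDim_eq_zero_iff p z).2 hzc
  have hup : ∀ y, y ⤳ z → η ⤳ y := fun y hy => by
    obtain ⟨η', hη', hmax⟩ := exists_maximal_specializes y
    rcases eq_or_ne η' η with rfl | hne
    · exact hη'
    · exact absurd (Set.mem_iUnion₂.2 ⟨η', ⟨hmax, hne⟩, specializes_iff_mem_closure.1 (hη'.trans hy)⟩) hz.2
  have hcz : Order.coheight z = (ptDim p η : ℕ∞) := by
    refine le_antisymm (Order.coheight_le fun l hl => ?_) ?_
    · have hi : ∀ i : Fin (l.length + 1), i.val ≤ ptDim p (l i) ∧ l i ⤳ z := by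
        intro i
        induction i using Fin.induction with
        | zero =>
          refine ⟨Nat.zero_le _, ?_⟩
          rw [show l 0 = z from hl]
        | succ i ih =>
          have hs := l.step i
          refine ⟨?_, (Scheme.le_iff_specializes.1 hs.le).trans ih.2⟩
          have := ptDim_lt_of_specializes p (Scheme.le_iff_specializes.1 hs.le) hs.ne'
          have := ih.1
          simp only [Fin.val_succ, Fin.val_castSucc] at *
          omega
      have h1 := hi (Fin.last _)
      simp only [Fin.val_last] at h1
      exact_mod_cast h1.1.trans (ptDim_le_of_specializes p (hup _ h1.2))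
    · suffices ∀ m y, η ⤳ y → ptDim p η - ptDim p y = m → (m : ℕ∞) ≤ Order.coheight y from
        this _ z hηz (by omega)
      intro m
      induction m with
      | zero => intro y _ _; simp
      | succ m ih =>
        intro y hy hm
        have hne : η ≠ y := fun e => by rw [e] at hm; omega
        obtain ⟨y', h1, h2, h3⟩ := exists_specializes_ptDim_succ p hy hne
        have hlt : y < y' := by
          refine lt_of_le_not_ge (Scheme.le_iff_specializes.2 h2) fun hge => ?_
          have := ptDim_le_of_specializes p (Scheme.le_iff_specializes.1 hge)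
          omega
        calc ((m + 1 : ℕ) : ℕ∞) = (m : ℕ∞) + 1 := Nat.cast_succ m
          _ ≤ Order.coheight y' + 1 := add_le_add (ih y' h1 (by omega)) le_rfl
          _ ≤ Order.coheight y := Order.coheight_add_one_le hlt
  have e := h z hzc
  rw [ringKrullDim_stalk_eq_coheight, hcz] at e
  exact e

variable (k)

/-- A finite morphism from a Cohen–Macaulay scheme of pure dimension `n` to `P^n` is finite locally free. -/
theorem pushforward_finLocFree_of_cm [X.Over (Spec (CommRingCat.of k))]
    [IsProper (X ↘ Spec (CommRingCat.of k))] (n : ℕ)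
    (hCM : ∀ x : X, IsClosed ({x} : Set X) →
      LocCoh.IsCohenMacaulayLocalRing (X.presheaf.stalk x) ∧ ringKrullDim (X.presheaf.stalk x) = n)
    (π : X ⟶ CohB1.ProjSpace n k) [IsFinite π]
    (hπ : π ≫ CohB1.ProjSpace.toSpec n k = X ↘ Spec (CommRingCat.of k)) :
    FlatMod.IsFinLocFree ((Scheme.Modules.pushforward π).obj (Coh.structureModule X)) := by
  haveI : IsProper (CohB1.ProjSpace.toSpec n k) := Coherent.isProper_projSpace_toSpec n k
  haveI : LocallyOfFiniteType (π ≫ CohB1.ProjSpace.toSpec n k) := by rw [hπ]; infer_instance
  haveI := LocallyOfFiniteType.isLocallyNoetherian (CohB1.ProjSpace.toSpec n k)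
  haveI : CompactSpace X := QuasiCompact.compactSpace_of_compactSpace (X ↘ Spec (CommRingCat.of k))
  haveI := LocallyOfFiniteType.isLocallyNoetherian (X ↘ Spec (CommRingCat.of k))
  haveI := CurveLib.isIntegral_projSpace k n
  have hcomp := components_dim_of_closedPoints (X ↘ Spec (CommRingCat.of k)) n fun x hx => (hCM x hx).2
  haveI : Flat π := FlatMor12.flat_of_cm_of_regular (CohB1.ProjSpace.toSpec n k) π
    (isRegularLocalRing_stalk_projSpace n k)
    ((Props12.forall_stalk_iff_closedPoints (fun A _ => LocCoh.IsCohenMacaulayLocalRing A)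
      (fun A _ _ p _ hA => haveI := hA; CAlgH3.isCohenMacaulayLocalRing_localization p)
      fun A B _ _ e hA => CAlgH3.isCohenMacaulayLocalRing_of_ringEquiv e (h := hA)).2 fun x hx => (hCM x hx).1)
    n n le_rfl hcomp
    (fun Z hZ => by
      rw [DimLib.components_eq_univ hZ,
        IsHomeomorph.topologicalKrullDim_eq _ (Homeomorph.Set.univ _).isHomeomorph,
        DimLib.PN.topologicalKrullDim_projSpace])
    fun y Z hZ => by
      haveI : DiscreteTopology ↥(π.base ⁻¹' {y}) := (π.isDiscrete_preimage_singleton y).to_subtype
      haveI : Nonempty Z := hZ.1.nonempty.to_subtype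
      rw [Nat.sub_self]
      exact le_antisymm (topologicalKrullDim_zero_of_discreteTopology Z) TopDim.dim_nonneg
  exact (MorProj.finLocFree_pushforward_of_isFinLocFree π
    ⟨inferInstance, inferInstance, inferInstance⟩).2

end Groth.Agent.SerreDual
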